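import Mathlib
import Cfsg.Agent.Lib.H81.Lattice

set_option autoImplicit false
set_option linter.unusedSectionVars false

/-! Reduction modulo `p` of complex representations and irreducible constituents. -/

namespace H67.Mod

open Finset

theorem exists_reduction (p : ℕ) [hp : Fact p.Prime] {G : Type*} [Group G] [Finite G] {n : ℕ}
    (ρ : Representation ℂ G (Fin n → ℂ)) :
    ∃ (k : Type) (_ : Field k) (_ : IsAlgClosed k) (_ : CharP k p) (τ : Representation k G (Fin n → k)),
      ∀ g, τ g = 1 → ¬ p ∣ orderOf g → ρ g = 1 := by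
  classical
  obtain ⟨R, hpR⟩ := H81.Lattice.exists_valuationSubring p
  obtain ⟨b, hb⟩ := H81.Lattice.exists_lattice R ρ
  let A : G →* Matrix (Fin n) (Fin n) ℂ :=
    { toFun := fun g => LinearMap.toMatrix b b (ρ g)
      map_one' := by rw [map_one]; exact LinearMap.toMatrix_one b
      map_mul' := fun g h => by rw [map_mul]; exact LinearMap.toMatrix_mul b _ _ }
  have hA : ∀ g i j, A g i j ∈ R := hb
  let k₀ := IsLocalRing.ResidueField R
  let π₀ : R →+* k₀ := IsLocalRing.residue R
  have hpmem : (p : R) ∈ IsLocalRing.maximalIdeal R := by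
    rw [IsLocalRing.mem_maximalIdeal]
    have h2 := hpR
    rw [ValuationSubring.mem_nonunits_iff_exists_mem_maximalIdeal] at h2
    obtain ⟨ha, hb⟩ := h2
    rw [IsLocalRing.mem_maximalIdeal] at hb
    exact hb
  haveI : CharP k₀ p := by
    have h2 : ((p : ℕ) : k₀) = 0 := by
      have h3 : π₀ (p : R) = 0 := (IsLocalRing.residue_eq_zero_iff _).2 hpmem
      rwa [map_natCast] at h3
    obtain ⟨r, hr⟩ := CharP.exists k₀
    have h4 := (CharP.cast_eq_zero_iff k₀ r p).1 h2
    rcases (Nat.dvd_prime Fact.out).1 h4 with h5 | h5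
    · exact absurd h5 (CharP.char_ne_one k₀ r)
    · rw [← h5]; exact hr
  let k := AlgebraicClosure k₀
  haveI : CharP k p := charP_of_injective_algebraMap (algebraMap k₀ k).injective p
  let π : R →+* k := (algebraMap k₀ k).comp π₀
  -- matrices over `R`
  let AR : G → Matrix (Fin n) (Fin n) R := fun g => Matrix.of fun i j => ⟨A g i j, hA g i j⟩
  have hAR : ∀ g, (AR g).map R.subtype = A g := fun g => rfl
  have hinj : ∀ {a b : Matrix (Fin n) (Fin n) R}, a.map R.subtype = b.map R.subtype → a = b := by
    intro a b hab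
    ext i j
    exact congrFun (congrFun hab i) j
  have hAR1 : AR 1 = 1 := by
    apply hinj
    rw [hAR, map_one, Matrix.map_one _ (map_zero _) (map_one _)]
  have hARmul : ∀ g h, AR (g * h) = AR g * AR h := by
    intro g h
    apply hinj
    rw [Matrix.map_mul, hAR, hAR, hAR, map_mul]
  let AH : G →* Matrix (Fin n) (Fin n) R := ⟨⟨AR, hAR1⟩, hARmul⟩
  let Ak : G →* Matrix (Fin n) (Fin n) k := (π.mapMatrix : Matrix (Fin n) (Fin n) R →+* _).toMonoidHom.comp AH
  let τ : Representation k G (Fin n → k) :=
    (Matrix.toLinAlgEquiv' : Matrix (Fin n) (Fin n) k ≃ₐ[k] _).toMulEquiv.toMonoidHom.comp Ak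
  refine ⟨k, inferInstance, inferInstance, inferInstance, τ, ?_⟩
  intro g hg hpg
  have hAk : Ak g = 1 := by
    have h1 : (Matrix.toLinAlgEquiv' : Matrix (Fin n) (Fin n) k ≃ₐ[k] _) (Ak g) =
        (Matrix.toLinAlgEquiv' : Matrix (Fin n) (Fin n) k ≃ₐ[k] _) 1 := by
      rw [map_one]; exact hg
    exact (Matrix.toLinAlgEquiv' : Matrix (Fin n) (Fin n) k ≃ₐ[k] _).injective h1
  set q := orderOf g with hq
  set N : Matrix (Fin n) (Fin n) R := ∑ i ∈ range q, AH g ^ i with hN
  have h1 : N * (AH g - 1) = 0 := by
    rw [hN, geom_sum_mul, ← map_pow, hq, pow_orderOf_eq_one, map_one, sub_self]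
  have h2 : π.mapMatrix N = (q : Matrix (Fin n) (Fin n) k) := by
    rw [hN, map_sum]
    have h3 : ∀ i ∈ range q, π.mapMatrix (AH g ^ i) = 1 := by
      intro i _
      rw [map_pow]
      have : π.mapMatrix (AH g) = Ak g := rfl
      rw [this, hAk, one_pow]
    rw [sum_congr rfl h3, sum_const, card_range, nsmul_eq_mul, mul_one]
  have h3 : π N.det ≠ 0 := by
    rw [RingHom.map_det, h2]
    have h4 : ((q : ℕ) : Matrix (Fin n) (Fin n) k) = (q : k) • (1 : Matrix (Fin n) (Fin n) k) := by
      rw [Nat.cast_smul_eq_nsmul, nsmul_eq_mul, mul_one]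
    rw [h4, Matrix.det_smul, Matrix.det_one, mul_one]
    apply pow_ne_zero
    intro h5
    exact hpg ((CharP.cast_eq_zero_iff k p q).1 h5)
  have h4 : IsUnit N.det := by
    by_contra hcon
    apply h3
    have h5 : N.det ∈ IsLocalRing.maximalIdeal R := (IsLocalRing.mem_maximalIdeal _).2 hcon
    change (algebraMap k₀ k) (π₀ N.det) = 0
    rw [show π₀ N.det = 0 from (IsLocalRing.residue_eq_zero_iff _).2 h5, map_zero]
  have h5 : AH g = 1 := by
    have h6 : IsUnit N := (Matrix.isUnit_iff_isUnit_det N).2 h4
    rw [← sub_eq_zero]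
    exact (h6.mul_right_eq_zero).1 h1
  have h6 : A g = 1 := by
    rw [← hAR]
    have : AR g = 1 := h5
    rw [this, Matrix.map_one _ (map_zero _) (map_one _)]
  have h7 : LinearMap.toMatrix b b (ρ g) = LinearMap.toMatrix b b 1 := by
    rw [LinearMap.toMatrix_one]; exact h6
  exact (LinearMap.toMatrix b b).injective h7

universe u v

section const

variable {k : Type u} [Field k] {G : Type*} [Group G]

/-- subrepresentation -/
def subR {V : Type v} [AddCommGroup V] [Module k V] (ρ : Representation k G V) (U : Submodule k V)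
    (hU : ∀ g, ∀ v ∈ U, ρ g v ∈ U) : Representation k G U where
  toFun g := (ρ g).restrict (hU g)
  map_one' := by
    ext v
    simp [LinearMap.restrict_apply]
  map_mul' g h := by
    ext v
    simp [LinearMap.restrict_apply]

/-- quotient representation -/
def quoR {V : Type v} [AddCommGroup V] [Module k V] (ρ : Representation k G V) (U : Submodule k V)
    (hU : ∀ g, ∀ v ∈ U, ρ g v ∈ U) : Representation k G (V ⧸ U) where
  toFun g := U.mapQ U (ρ g) (hU g)
  map_one' := by
    ext v
    simp
  map_mul' g h := by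
    ext v
    simp

theorem exists_constituent {g : G} {q : ℕ} (hq : (q : k) ≠ 0) (hg : g ^ q = 1) :
    ∀ (n : ℕ) (V : Type v) [AddCommGroup V] [Module k V] [Module.Finite k V] (ρ : Representation k G V),
      Module.finrank k V ≤ n → ρ g ≠ 1 →
      ∃ (W : Type v) (_ : AddCommGroup W) (_ : Module k W) (_ : Module.Finite k W)
        (ρ' : Representation k G W), Module.finrank k W ≤ n ∧
        (∀ U : Submodule k W, (∀ g, ∀ v ∈ U, ρ' g v ∈ U) → U = ⊥ ∨ U = ⊤) ∧ ρ' g ≠ 1 := by
  intro n
  induction n with
  | zero =>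
    intro V _ _ _ ρ hn hρ
    exfalso
    have h1 : Module.finrank k V = 0 := by omega
    have h2 : Subsingleton V := Module.finrank_zero_iff.1 h1
    exact hρ (Subsingleton.elim _ _)
  | succ n ih =>
    intro V _ _ _ ρ hn hρ
    by_cases hirr : ∀ U : Submodule k V, (∀ g, ∀ v ∈ U, ρ g v ∈ U) → U = ⊥ ∨ U = ⊤
    · exact ⟨V, inferInstance, inferInstance, inferInstance, ρ, hn, hirr, hρ⟩
    push Not at hirr
    obtain ⟨U, hU, hU1, hU2⟩ := hirr
    have hf1 : Module.finrank k U < Module.finrank k V := Submodule.finrank_lt hU2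
    have hf2 : Module.finrank k (V ⧸ U) < Module.finrank k V := by
      have h3 := U.finrank_quotient_add_finrank
      have h4 : 0 < Module.finrank k U := by
        rw [Nat.pos_iff_ne_zero]
        intro h0
        exact hU1 (Submodule.finrank_eq_zero.1 h0)
      omega
    by_cases h1 : subR ρ U hU g = 1
    · by_cases h2 : quoR ρ U hU g = 1
      · exfalso
        apply hρ
        ext v
        rw [Module.End.one_apply]
        have h3 : ρ g v - v ∈ U := by
          have h4 : quoR ρ U hU g (Submodule.Quotient.mk v) = Submodule.Quotient.mk v := by rw [h2]; rfl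
          have h5 : (Submodule.Quotient.mk (ρ g v) : V ⧸ U) = Submodule.Quotient.mk v := h4
          exact (Submodule.Quotient.eq U).1 h5
        have h4 : ∀ u ∈ U, ρ g u = u := by
          intro u hu
          have h5 : subR ρ U hU g ⟨u, hu⟩ = ⟨u, hu⟩ := by rw [h1]; rfl
          exact congrArg Subtype.val h5
        have h5 : ∀ j : ℕ, ρ (g ^ j) v = v + (j : k) • (ρ g v - v) := by
          intro j
          induction j with
          | zero => simp
          | succ j ih =>
            rw [pow_succ', map_mul, Module.End.mul_apply, ih, map_add, map_smul, h4 _ h3]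
            push_cast
            rw [add_smul, one_smul]
            abel
        have h6 := h5 q
        rw [hg, map_one, Module.End.one_apply] at h6
        have h7 : (q : k) • (ρ g v - v) = 0 := by
          have := h6.symm
          rwa [add_eq_left] at this
        exact sub_eq_zero.1 ((smul_eq_zero.1 h7).resolve_left hq)
      · obtain ⟨W, i1, i2, i3, ρ', h3, h4, h5⟩ := ih (V ⧸ U) (quoR ρ U hU) (by omega) h2
        exact ⟨W, i1, i2, i3, ρ', by omega, h4, h5⟩
    · obtain ⟨W, i1, i2, i3, ρ', h3, h4, h5⟩ := ih U (subR ρ U hU) (by omega) h1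
      exact ⟨W, i1, i2, i3, ρ', by omega, h4, h5⟩

end const

end H67.Mod
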