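import Mathlib

set_option autoImplicit false

/-! Lifting idempotent matrices over a complete ring. -/

namespace H67.Lat

open Matrix

section lift

variable {R : Type*} [CommRing R] {n : ℕ}

/-- the sequence of approximations -/
def apx (A : Matrix (Fin n) (Fin n) R) : ℕ → Matrix (Fin n) (Fin n) R
  | 0 => A
  | j + 1 => 3 * (apx A j * apx A j) - 2 * (apx A j * apx A j * apx A j)

theorem apx_commute (A B : Matrix (Fin n) (Fin n) R) (h : Commute A B) (j : ℕ) :
    Commute (apx A j) B := by
  induction j with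
  | zero => exact h
  | succ j ih =>
    have h3 : Commute (3 : Matrix (Fin n) (Fin n) R) B := (Nat.cast_commute 3 B)
    have h2 : Commute (2 : Matrix (Fin n) (Fin n) R) B := (Nat.cast_commute 2 B)
    exact (h3.mul_left (ih.mul_left ih)).sub_left (h2.mul_left ((ih.mul_left ih).mul_left ih))

theorem apx_step (A : Matrix (Fin n) (Fin n) R) (j : ℕ) :
    apx A (j + 1) - apx A j = -((apx A j * apx A j - apx A j) * (2 * apx A j - 1)) := by
  simp only [apx]
  noncomm_ring

theorem apx_idem (A : Matrix (Fin n) (Fin n) R) (j : ℕ) :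
    apx A (j + 1) * apx A (j + 1) - apx A (j + 1) =
      -((apx A j * apx A j - apx A j) * ((apx A j * apx A j - apx A j) *
        ((3 - 2 * apx A j) * (2 * apx A j + 1)))) := by
  simp only [apx]
  noncomm_ring

theorem apx_pow (A : Matrix (Fin n) (Fin n) R) (π : R) (hA : ∃ X, A * A - A = π • X) (j : ℕ) :
    ∃ X, apx A j * apx A j - apx A j = π ^ (j + 1) • X := by
  induction j with
  | zero => obtain ⟨X, hX⟩ := hA; exact ⟨X, by simpa [apx] using hX⟩
  | succ j ih =>
    obtain ⟨X, hX⟩ := ih
    rw [apx_idem, hX]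
    refine ⟨-(π ^ j • (X * (X * ((3 - 2 * apx A j) * (2 * apx A j + 1))))), ?_⟩
    rw [Matrix.smul_mul, Matrix.smul_mul, Matrix.mul_smul, smul_neg, smul_smul, smul_smul]
    congr 2
    ring

theorem exists_idem_lift {π : R} [hc : IsAdicComplete (Ideal.span {π}) R]
    (A : Matrix (Fin n) (Fin n) R) (hA : ∃ X, A * A - A = π • X) :
    ∃ E : Matrix (Fin n) (Fin n) R, E * E = E ∧ (∃ Y, E - A = π • Y) ∧
      ∀ B, Commute A B → Commute E B := by
  classical
  set I : Ideal R := Ideal.span {π} with hI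
  have hmem : ∀ (j : ℕ) (x : R), x ∈ I ^ j ↔ π ^ j ∣ x := by
    intro j x
    rw [hI, Ideal.span_singleton_pow, Ideal.mem_span_singleton]
  have hstep : ∀ j, ∃ X, apx A (j + 1) - apx A j = π ^ (j + 1) • X := by
    intro j
    obtain ⟨X, hX⟩ := apx_pow A π hA j
    rw [apx_step, hX]
    exact ⟨-(X * (2 * apx A j - 1)), by rw [Matrix.smul_mul, smul_neg]⟩
  have hdiff : ∀ i j, i ≤ j → ∀ a b, π ^ (i + 1) ∣ apx A j a b - apx A i a b := by
    intro i j hij a b
    induction j, hij using Nat.le_induction with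
    | base => simp
    | succ j hij ih =>
      obtain ⟨X, hX⟩ := hstep j
      have h1 : apx A (j + 1) a b - apx A i a b =
          (apx A (j + 1) - apx A j) a b + (apx A j a b - apx A i a b) := by
        rw [Matrix.sub_apply]; ring
      rw [h1, hX, Matrix.smul_apply, smul_eq_mul]
      exact dvd_add (dvd_mul_of_dvd_left (pow_dvd_pow π (by omega)) _) ih
  -- limits
  have hlim : ∀ a b, ∃ L : R, ∀ j, π ^ j ∣ apx A j a b - L := by
    intro a b
    obtain ⟨L, hL⟩ := hc.toIsPrecomplete.prec' (fun j => apx A j a b) (by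
      intro i j hij
      rw [SModEq.sub_mem, smul_eq_mul, Ideal.mul_top, hmem]
      have h1 := hdiff i j hij a b
      rw [← neg_sub, dvd_neg]
      exact (pow_dvd_pow π (by omega)).trans h1)
    refine ⟨L, fun j => ?_⟩
    have := hL j
    rw [SModEq.sub_mem, smul_eq_mul, Ideal.mul_top, hmem] at this
    exact this
  choose E hE using hlim
  have hzero : ∀ x : R, (∀ j, π ^ j ∣ x) → x = 0 := by
    intro x hx
    apply hc.toIsHausdorff.haus'
    intro j
    rw [SModEq.sub_mem, smul_eq_mul, Ideal.mul_top, hmem, sub_zero]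
    exact hx j
  have hE' : ∀ j, ∃ Y, apx A j - Matrix.of E = π ^ j • Y := by
    intro j
    choose Y hY using fun a b => hE a b j
    refine ⟨Matrix.of Y, ?_⟩
    ext a b
    rw [Matrix.sub_apply, Matrix.smul_apply, Matrix.of_apply, Matrix.of_apply, smul_eq_mul, ← hY]
  have hz : ∀ Z : Matrix (Fin n) (Fin n) R, (∀ j, ∃ Y, Z = π ^ j • Y) → Z = 0 := by
    intro Z hZ
    ext a b
    apply hzero
    intro j
    obtain ⟨Y, hY⟩ := hZ j
    rw [hY, Matrix.smul_apply, smul_eq_mul]
    exact dvd_mul_right _ _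
  refine ⟨Matrix.of E, ?_, ?_, ?_⟩
  · rw [← sub_eq_zero]
    apply hz
    intro j
    obtain ⟨Y, hY⟩ := hE' j
    obtain ⟨X, hX⟩ := apx_pow A π hA j
    have h1 : Matrix.of E = apx A j - π ^ j • Y := by rw [← hY]; abel
    refine ⟨π • X - apx A j * Y - Y * apx A j + π ^ j • (Y * Y) + Y, ?_⟩
    have h2 : (apx A j - π ^ j • Y) * (apx A j - π ^ j • Y) - (apx A j - π ^ j • Y) =
        (apx A j * apx A j - apx A j) - π ^ j • (apx A j * Y) - π ^ j • (Y * apx A j) +
          π ^ j • π ^ j • (Y * Y) + π ^ j • Y := by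
      rw [sub_mul, mul_sub, mul_sub, Matrix.smul_mul, Matrix.smul_mul, Matrix.mul_smul,
        Matrix.mul_smul]
      abel
    rw [h1, h2, hX, pow_succ, mul_smul]
    simp only [smul_add, smul_sub]
  · obtain ⟨Y, hY⟩ := hE' 1
    obtain ⟨X, hX⟩ := hstep 0
    refine ⟨X - Y, ?_⟩
    rw [Nat.zero_add, pow_one] at hX
    rw [pow_one] at hY
    rw [smul_sub, ← hX, ← hY]
    simp only [apx]
    abel
  · intro B hB
    have : Matrix.of E * B - B * Matrix.of E = 0 := by
      apply hz
      intro j
      obtain ⟨Y, hY⟩ := hE' j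
      have h1 : Matrix.of E = apx A j - π ^ j • Y := by rw [← hY]; abel
      refine ⟨B * Y - Y * B, ?_⟩
      rw [h1, sub_mul, mul_sub, (apx_commute A B hB j).eq, Matrix.smul_mul, Matrix.mul_smul, smul_sub]
      abel
    exact sub_eq_zero.1 this

/-- some power of an element of a finite monoid is idempotent -/
theorem exists_pow_idem {M : Type*} [Monoid M] [Finite M] (a : M) :
    ∃ N : ℕ, 0 < N ∧ a ^ N * a ^ N = a ^ N := by
  obtain ⟨i, j, hij, h⟩ := Finite.exists_ne_map_eq_of_infinite (fun k : ℕ => a ^ k)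
  wlog hlt : i < j generalizing i j
  · exact this j i (Ne.symm hij) h.symm (lt_of_le_of_ne (not_lt.1 hlt) (Ne.symm hij))
  replace h : a ^ i = a ^ j := h
  set d := j - i with hd
  have hper : ∀ k, i ≤ k → a ^ (k + d) = a ^ k := by
    intro k hk
    have : k + d = j + (k - i) := by omega
    rw [this, pow_add, ← h, ← pow_add]
    congr 1; omega
  have hper2 : ∀ c k, i ≤ k → a ^ (k + c * d) = a ^ k := by
    intro c k hk
    induction c with
    | zero => simp
    | succ c ih =>
      rw [show k + (c + 1) * d = (k + c * d) + d by ring, hper _ (by omega), ih]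
  have hd0 : 0 < d := by omega
  refine ⟨(i + 1) * d, by positivity, ?_⟩
  rw [← pow_add]
  exact hper2 (i + 1) ((i + 1) * d) (by nlinarith)

end lift

end H67.Lat
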