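import Mathlib
import Cfsg.Agent.Lib.H67.LatIdem

set_option autoImplicit false

/-! Lattices over a complete discrete valuation ring with uniformizer `p`, with an automorphism `s`
of order `p`: Tate cohomology by hand. -/

namespace H67.Lat

open Finset

section basics

variable {R : Type*} [CommRing R] {V : Type*} [AddCommGroup V] [Module R V]

/-- `1 + s + … + s^(p-1)` -/
def TT (p : ℕ) (s : Module.End R V) : Module.End R V := ∑ i ∈ range p, s ^ i

/-- `a` acts as zero on both `V^s / T V` and `ker T / (s - 1) V` -/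
def Kills (p : ℕ) (s a : Module.End R V) : Prop :=
  (∀ v, s v = v → ∃ w, a v = TT p s w) ∧ (∀ v, TT p s v = 0 → ∃ w, a v = s w - w)

variable {p : ℕ} {s : Module.End R V}

theorem TT_apply (v : V) : TT p s v = ∑ i ∈ range p, (s ^ i) v := by
  rw [TT, LinearMap.sum_apply]

theorem pow_fix {v : V} (h : s v = v) (i : ℕ) : (s ^ i) v = v := by
  induction i with
  | zero => simp
  | succ i ih => rw [pow_succ', Module.End.mul_apply, ih, h]

theorem TT_fix {v : V} (h : s v = v) : TT p s v = p • v := by
  rw [TT_apply, sum_congr rfl (fun i _ => pow_fix h i), sum_const, card_range]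

theorem s_TT (hs : s ^ p = 1) (v : V) : s (TT p s v) = TT p s v := by
  rw [TT_apply, map_sum]
  have h1 : ∀ i, s ((s ^ i) v) = (s ^ (i + 1)) v := fun i => by rw [pow_succ', Module.End.mul_apply]
  rw [sum_congr rfl (fun i _ => h1 i)]
  have h2 := sum_range_succ (fun i => (s ^ i) v) p
  have h3 := sum_range_succ' (fun i => (s ^ i) v) p
  rw [h2, hs] at h3
  simp only [pow_zero, Module.End.one_apply] at h3
  exact (add_right_cancel h3).symm

theorem TT_s (hs : s ^ p = 1) (v : V) : TT p s (s v) = TT p s v := by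
  rw [TT_apply, TT_apply]
  have h1 : ∀ i, (s ^ i) (s v) = (s ^ (i + 1)) v := fun i => by rw [pow_succ, Module.End.mul_apply]
  rw [sum_congr rfl (fun i _ => h1 i)]
  have h2 := sum_range_succ (fun i => (s ^ i) v) p
  have h3 := sum_range_succ' (fun i => (s ^ i) v) p
  rw [h2, hs] at h3
  simp only [pow_zero, Module.End.one_apply] at h3
  exact (add_right_cancel h3).symm

theorem TT_TT (hs : s ^ p = 1) (v : V) : TT p s (TT p s v) = p • TT p s v :=
  TT_fix (s_TT hs v)

theorem TT_sub (hs : s ^ p = 1) (v : V) : TT p s (s v - v) = 0 := by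
  rw [map_sub, TT_s hs, sub_self]

/-- `s^i v - v` is of the form `s w - w` -/
theorem exists_pow_sub (i : ℕ) (v : V) : ∃ w, (s ^ i) v - v = s w - w := by
  induction i with
  | zero => exact ⟨0, by simp⟩
  | succ i ih =>
    obtain ⟨w, hw⟩ := ih
    refine ⟨(s ^ i) v + w, ?_⟩
    rw [pow_succ', Module.End.mul_apply, map_add]
    have : s ((s ^ i) v) - v = (s ((s ^ i) v) - (s ^ i) v) + ((s ^ i) v - v) := by abel
    rw [this, hw]; abel

theorem comm_TT {b : Module.End R V} (hb : Commute b s) (v : V) : b (TT p s v) = TT p s (b v) := by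
  rw [TT_apply, TT_apply, map_sum]
  refine sum_congr rfl (fun i _ => ?_)
  rw [← Module.End.mul_apply, ← Module.End.mul_apply, (hb.pow_right i).eq]

theorem comm_s {b : Module.End R V} (hb : Commute b s) (v : V) : b (s v) = s (b v) := by
  rw [← Module.End.mul_apply, ← Module.End.mul_apply, hb.eq]

theorem Kills.add {a b : Module.End R V} (ha : Kills p s a) (hb : Kills p s b) : Kills p s (a + b) := by
  constructor
  · intro v hv
    obtain ⟨w, hw⟩ := ha.1 v hv
    obtain ⟨w', hw'⟩ := hb.1 v hv
    exact ⟨w + w', by rw [LinearMap.add_apply, hw, hw', map_add]⟩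
  · intro v hv
    obtain ⟨w, hw⟩ := ha.2 v hv
    obtain ⟨w', hw'⟩ := hb.2 v hv
    exact ⟨w + w', by rw [LinearMap.add_apply, hw, hw', map_add]; abel⟩

theorem Kills.smul {a : Module.End R V} (r : R) (ha : Kills p s a) : Kills p s (r • a) := by
  constructor
  · intro v hv
    obtain ⟨w, hw⟩ := ha.1 v hv
    exact ⟨r • w, by rw [LinearMap.smul_apply, hw, map_smul]⟩
  · intro v hv
    obtain ⟨w, hw⟩ := ha.2 v hv
    exact ⟨r • w, by rw [LinearMap.smul_apply, hw, map_smul, smul_sub]⟩

theorem Kills.zero : Kills p s (0 : Module.End R V) :=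
  ⟨fun v _ => ⟨0, by simp⟩, fun v _ => ⟨0, by simp⟩⟩

theorem Kills.neg {a : Module.End R V} (ha : Kills p s a) : Kills p s (-a) := by
  have := ha.smul (-1 : R)
  rwa [neg_one_smul] at this

theorem Kills.sub {a b : Module.End R V} (ha : Kills p s a) (hb : Kills p s b) : Kills p s (a - b) := by
  rw [sub_eq_add_neg]; exact ha.add hb.neg

theorem Kills.mul_left {a b : Module.End R V} (ha : Kills p s a) (hb : Commute b s) :
    Kills p s (b * a) := by
  constructor
  · intro v hv
    obtain ⟨w, hw⟩ := ha.1 v hv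
    exact ⟨b w, by rw [Module.End.mul_apply, hw, comm_TT hb]⟩
  · intro v hv
    obtain ⟨w, hw⟩ := ha.2 v hv
    exact ⟨b w, by rw [Module.End.mul_apply, hw, map_sub, comm_s hb]⟩

theorem Kills.mul_right {a b : Module.End R V} (ha : Kills p s a) (hb : Commute b s) :
    Kills p s (a * b) := by
  constructor
  · intro v hv
    exact ha.1 (b v) (by rw [← comm_s hb, hv])
  · intro v hv
    exact ha.2 (b v) (by rw [← comm_TT hb, hv, map_zero])

theorem Kills.sum {ι : Type*} {S : Finset ι} {a : ι → Module.End R V}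
    (h : ∀ i ∈ S, Kills p s (a i)) : Kills p s (∑ i ∈ S, a i) := by
  classical
  induction S using Finset.induction_on with
  | empty => simpa using Kills.zero
  | insert i S hi ih =>
    rw [sum_insert hi]
    exact (h i (mem_insert_self _ _)).add (ih fun j hj => h j (mem_insert_of_mem hj))

/-- `p` kills -/
theorem kills_p : Kills p s ((p : ℕ) : Module.End R V) := by
  constructor
  · intro v hv
    refine ⟨v, ?_⟩
    rw [TT_fix hv, Module.End.natCast_apply]
  · intro v hv
    have h1 : ∀ i : ℕ, ∃ w, v - (s ^ i) v = s w - w := by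
      intro i
      obtain ⟨w, hw⟩ := exists_pow_sub (s := s) i v
      exact ⟨-w, by rw [map_neg, ← neg_sub, hw]; abel⟩
    choose w hw using h1
    refine ⟨∑ i ∈ range p, w i, ?_⟩
    rw [map_sum, ← sum_sub_distrib, sum_congr rfl (fun i _ => (hw i).symm), sum_sub_distrib,
      ← TT_apply, hv, sub_zero, sum_const, card_range, Module.End.natCast_apply]

/-- relative traces kill -/
theorem kills_trace (hs : s ^ p = 1) (b : Module.End R V) :
    Kills p s (∑ i ∈ range p, s ^ i * b * s ^ (p - i)) := by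
  constructor
  · intro v hv
    refine ⟨b v, ?_⟩
    rw [LinearMap.sum_apply, TT_apply]
    refine sum_congr rfl (fun i _ => ?_)
    rw [Module.End.mul_apply, Module.End.mul_apply, pow_fix hv]
  · intro v hv
    have h1 : ∀ i : ℕ, ∃ w, (s ^ i) (b ((s ^ (p - i)) v)) - b ((s ^ (p - i)) v) = s w - w :=
      fun i => exists_pow_sub i _
    choose w hw using h1
    refine ⟨∑ i ∈ range p, w i, ?_⟩
    rw [map_sum, ← sum_sub_distrib, sum_congr rfl (fun i _ => (hw i).symm), sum_sub_distrib,
      ← map_sum]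
    have h2 : ∑ i ∈ range p, (s ^ (p - i)) v = TT p s v := by
      rw [← TT_s hs, TT_apply, ← sum_range_reflect]
      refine sum_congr rfl (fun i hi => ?_)
      rw [mem_range] at hi
      rw [← Module.End.mul_apply, ← pow_succ]
      congr 2
      omega
    rw [h2, hv, map_zero, sub_zero, LinearMap.sum_apply]
    rfl

end basics

section pid

variable {R : Type*} [CommRing R] [IsDomain R] [IsPrincipalIdealRing R]
variable {V : Type*} [AddCommGroup V] [Module R V] [Module.Finite R V] [Module.Free R V]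

/-- a functional that is a unit on a vector of a submodule that is not divisible by `π` in it -/
theorem exists_functional (π : R) (hloc : ∀ r : R, IsUnit r ∨ π ∣ r) (Y : Submodule R V) {z : V}
    (hz : z ∈ Y) (hnz : ∀ y ∈ Y, z ≠ π • y) : ∃ g : Y →ₗ[R] R, g ⟨z, hz⟩ = 1 := by
  have hfree : Module.Free R Y := inferInstance
  have hfin : Module.Finite R Y := inferInstance
  let b := Module.Free.chooseBasis R Y
  by_contra hcon
  push Not at hcon
  have h1 : ∀ i, π ∣ b.repr ⟨z, hz⟩ i := by
    intro i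
    rcases hloc (b.repr ⟨z, hz⟩ i) with h | h
    · exfalso
      obtain ⟨u, hu⟩ := h
      apply hcon ((↑u⁻¹ : R) • b.coord i)
      rw [LinearMap.smul_apply, Module.Basis.coord_apply, ← hu, smul_eq_mul, Units.inv_mul]
    · exact h
  choose c hc using h1
  apply hnz (∑ i, c i • b i : Y) (SetLike.coe_mem _)
  have h2 : (⟨z, hz⟩ : Y) = π • ∑ i, c i • b i := by
    rw [Finset.smul_sum]
    conv_lhs => rw [← b.sum_repr ⟨z, hz⟩]
    refine sum_congr rfl (fun i _ => ?_)
    rw [smul_smul, ← hc]
  exact congrArg Subtype.val h2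

variable {p : ℕ} {s : Module.End R V}

omit [IsPrincipalIdealRing R] [Module.Finite R V] in
theorem smul_inj (hp0 : (p : R) ≠ 0) {v w : V} (h : (p : R) • v = (p : R) • w) : v = w := by
  have h1 : (p : R) • (v - w) = 0 := by rw [smul_sub, h, sub_self]
  have : Module.IsTorsionFree R V := inferInstance
  rcases smul_eq_zero.1 h1 with h2 | h2
  · exact absurd h2 hp0
  · exact sub_eq_zero.1 h2

/-- duality for `V^s / T V` -/
theorem exists_dual_fix (hp0 : (p : R) ≠ 0) (hloc : ∀ r : R, IsUnit r ∨ (p : R) ∣ r) (hs : s ^ p = 1)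
    {v : V} (hv : s v = v) (hn : ∀ w, v ≠ TT p s w) :
    ∃ f : V →ₗ[R] R, (∀ u, f (s u) = f u) ∧ f v = 1 ∧ (∀ u, TT p s u = 0 → f u = 0) ∧
      (∀ u, (p : R) ∣ f (TT p s u)) := by
  have hz : (p : R) • v ∈ LinearMap.range (TT p s) := ⟨v, by rw [TT_fix hv, Nat.cast_smul_eq_nsmul]⟩
  obtain ⟨g, hg⟩ := exists_functional (p : R) hloc (LinearMap.range (TT p s)) hz (by
    rintro y ⟨w, rfl⟩ h
    exact hn w (smul_inj hp0 h))
  refine ⟨g ∘ₗ (TT p s).rangeRestrict, ?_, ?_, ?_, ?_⟩
  · intro u
    rw [LinearMap.comp_apply, LinearMap.comp_apply]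
    congr 1
    exact Subtype.ext (TT_s hs u)
  · rw [LinearMap.comp_apply, ← hg]
    congr 1
    apply Subtype.ext
    change TT p s v = (p : R) • v
    rw [TT_fix hv, Nat.cast_smul_eq_nsmul]
  · intro u hu
    rw [LinearMap.comp_apply]
    have : (TT p s).rangeRestrict u = 0 := Subtype.ext hu
    rw [this, map_zero]
  · intro u
    rw [LinearMap.comp_apply]
    have : (TT p s).rangeRestrict (TT p s u) = (p : R) • (TT p s).rangeRestrict u := by
      apply Subtype.ext
      change TT p s (TT p s u) = (p : R) • TT p s u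
      rw [TT_TT hs, Nat.cast_smul_eq_nsmul]
    rw [this, map_smul, smul_eq_mul]
    exact dvd_mul_right _ _

/-- `∑ j s^(p-j)` -/
def DD (p : ℕ) (s : Module.End R V) : Module.End R V := ∑ j ∈ range p, (j : R) • s ^ (p - j)

omit [IsDomain R] [IsPrincipalIdealRing R] [Module.Finite R V] [Module.Free R V] in
theorem DD_apply (v : V) : DD p s v = ∑ j ∈ range p, (j : R) • (s ^ (p - j)) v := by
  rw [DD, LinearMap.sum_apply]; rfl

omit [IsDomain R] [IsPrincipalIdealRing R] [Module.Finite R V] [Module.Free R V] in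
theorem sub_DD (hs : s ^ p = 1) (v : V) :
    s (DD p s v) - DD p s v = TT p s v - (p : R) • s v := by
  rw [DD_apply, map_sum, ← sum_sub_distrib]
  have h1 : ∀ j ∈ range p, s ((j : R) • (s ^ (p - j)) v) - (j : R) • (s ^ (p - j)) v =
      (((j : ℕ) : R) • (s ^ (p + 1 - j)) v - (((j + 1 : ℕ)) : R) • (s ^ (p + 1 - (j + 1))) v) +
        (s ^ (p - j)) v := by
    intro j hj
    rw [mem_range] at hj
    rw [map_smul, ← Module.End.mul_apply, ← pow_succ', show p - j + 1 = p + 1 - j by omega,
      show p + 1 - (j + 1) = p - j by omega, Nat.cast_add, Nat.cast_one, add_smul, one_smul]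
    abel
  rw [sum_congr rfl h1, sum_add_distrib, sum_range_sub', ← TT_s hs, TT_apply]
  have h2 : ∑ i ∈ range p, (s ^ (p - i)) v = ∑ i ∈ range p, (s ^ i) (s v) := by
    rw [← sum_range_reflect]
    refine sum_congr rfl (fun i hi => ?_)
    rw [mem_range] at hi
    rw [← Module.End.mul_apply, ← pow_succ]
    congr 2
    omega
  rw [h2, Nat.cast_zero, zero_smul, show p + 1 - p = 1 by omega, pow_one]
  abel

/-- duality for `ker T / (s - 1) V` -/
theorem exists_dual_ker (hp0 : (p : R) ≠ 0) (hloc : ∀ r : R, IsUnit r ∨ (p : R) ∣ r) (hs : s ^ p = 1)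
    {v : V} (hv : TT p s v = 0) (hn : ∀ w, v ≠ s w - w) :
    ∃ g : V →ₗ[R] R, (∀ u, s u = u → g u = 0) ∧ g (DD p s v) = 1 := by
  have hz : (p : R) • (s v) ∈ LinearMap.range (s - 1) := by
    refine ⟨-(DD p s v), ?_⟩
    rw [LinearMap.sub_apply, Module.End.one_apply, map_neg]
    have := sub_DD hs v
    rw [hv, zero_sub] at this
    rw [← neg_inj, ← this]
    abel
  obtain ⟨g, hg⟩ := exists_functional (p : R) hloc (LinearMap.range (s - 1)) hz (by
    rintro y ⟨w, rfl⟩ h
    have h1 := smul_inj hp0 h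
    rw [LinearMap.sub_apply, Module.End.one_apply] at h1
    -- s v = s w - w, so v = w - s^(p-1) w
    have hpos : p ≠ 0 := by rintro rfl; exact hp0 (by simp)
    have hinj : Function.Injective s := by
      intro a b hab
      have : (s ^ (p - 1)) (s a) = (s ^ (p - 1)) (s b) := by rw [hab]
      rw [← Module.End.mul_apply, ← Module.End.mul_apply, ← pow_succ, show p - 1 + 1 = p by omega,
        hs] at this
      exact this
    apply hn ((s ^ (p - 1)) w)
    apply hinj
    rw [h1, map_sub, ← Module.End.mul_apply s (s ^ (p - 1)) w, ← pow_succ',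
      show p - 1 + 1 = p by omega, hs, Module.End.one_apply])
  refine ⟨-(g ∘ₗ (s - 1).rangeRestrict), ?_, ?_⟩
  · intro u hu
    rw [LinearMap.neg_apply, LinearMap.comp_apply]
    have : (s - 1).rangeRestrict u = 0 := by
      apply Subtype.ext
      change s u - u = 0
      rw [hu, sub_self]
    rw [this, map_zero, neg_zero]
  · rw [LinearMap.neg_apply, LinearMap.comp_apply, ← hg, ← map_neg]
    congr 1
    apply Subtype.ext
    change -(s (DD p s v) - DD p s v) = (p : R) • s v
    rw [sub_DD hs, hv, zero_sub, neg_neg]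

end pid

end H67.Lat
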