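import Mathlib
import Cfsg.Agent.Lib.H67.LatKill

set_option autoImplicit false

/-! Rank one endomorphisms on Tate cohomology; relative traces from the Sylow subgroup. -/

namespace H67.Lat

open Finset

section alpha

variable {R : Type*} [CommRing R] {V : Type*} [AddCommGroup V] [Module R V]
variable {p : ℕ} {s : Module.End R V}

/-- `u ↦ f(u) v` -/
def alpha1 (f : V →ₗ[R] R) (v : V) : Module.End R V := f.smulRight v

theorem alpha1_apply (f : V →ₗ[R] R) (v u : V) : alpha1 f v u = f u • v := rfl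

theorem alpha1_commute {f : V →ₗ[R] R} {v : V} (hf : ∀ u, f (s u) = f u) (hv : s v = v) :
    Commute (alpha1 f v) s := by
  ext u
  rw [Module.End.mul_apply, Module.End.mul_apply, alpha1_apply, alpha1_apply, hf, map_smul, hv]

/-- partial sums `(1 + s + … + s^(j-1)) v` -/
def SS (s : Module.End R V) (v : V) (j : ℕ) : V := ∑ i ∈ range j, (s ^ i) v

/-- the endomorphism `u ↦ ∑ g(s^(-j) u) (1 + … + s^(j-1)) v` -/
def alpha2 (p : ℕ) (s : Module.End R V) (g : V →ₗ[R] R) (v : V) : Module.End R V :=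
  ∑ j ∈ range p, (g ∘ₗ (s ^ (p - j))).smulRight (SS s v j)

theorem alpha2_apply (g : V →ₗ[R] R) (v u : V) :
    alpha2 p s g v u = ∑ j ∈ range p, g ((s ^ (p - j)) u) • SS s v j := by
  rw [alpha2, LinearMap.sum_apply]; rfl

theorem s_SS (v : V) (j : ℕ) : s (SS s v j) = SS s v (j + 1) - v := by
  rw [SS, SS, sum_range_succ', map_sum, pow_zero, Module.End.one_apply, add_sub_cancel_right]
  exact sum_congr rfl (fun i _ => by rw [pow_succ', Module.End.mul_apply])

theorem sum_pow_sub (hs : s ^ p = 1) (u : V) : ∑ j ∈ range p, (s ^ (p - j)) u = TT p s u := by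
  rw [← TT_s hs, TT_apply, ← sum_range_reflect]
  refine sum_congr rfl (fun i hi => ?_)
  rw [mem_range] at hi
  rw [← Module.End.mul_apply, ← pow_succ]
  congr 2
  omega

theorem alpha2_commute (hs : s ^ p = 1) {g : V →ₗ[R] R} {v : V} (hg : ∀ u, s u = u → g u = 0)
    (hv : TT p s v = 0) : Commute (alpha2 p s g v) s := by
  ext u
  rw [Module.End.mul_apply, Module.End.mul_apply, alpha2_apply, alpha2_apply, map_sum]
  have h1 : ∀ j, s (g ((s ^ (p - j)) u) • SS s v j) =
      g ((s ^ (p - j)) u) • SS s v (j + 1) - g ((s ^ (p - j)) u) • v := by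
    intro j; rw [map_smul, s_SS, smul_sub]
  rw [sum_congr rfl (fun j _ => h1 j), sum_sub_distrib, ← sum_smul]
  have h2 : ∑ j ∈ range p, g ((s ^ (p - j)) u) = 0 := by
    rw [← map_sum, sum_pow_sub hs, hg _ (s_TT hs u)]
  rw [h2, zero_smul, sub_zero]
  -- compare the two sums
  rcases Nat.eq_zero_or_pos p with hp | hp
  · subst hp; simp
  obtain ⟨q, rfl⟩ : ∃ q, p = q + 1 := ⟨p - 1, by omega⟩
  rw [sum_range_succ', sum_range_succ]
  have h3 : SS s v 0 = 0 := by rw [SS, range_zero, sum_empty]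
  have h4 : SS s v (q + 1) = 0 := by rw [← hv, TT_apply]; rfl
  rw [h3, h4, smul_zero, smul_zero, add_zero, add_zero]
  refine sum_congr rfl (fun j hj => ?_)
  rw [mem_range] at hj
  rw [← Module.End.mul_apply, ← pow_succ, show q + 1 - (j + 1) + 1 = q + 1 - j by omega]

theorem alpha2_fix {g : V →ₗ[R] R} {v : V} (hg : ∀ u, s u = u → g u = 0) {u : V} (hu : s u = u) :
    alpha2 p s g v u = 0 := by
  rw [alpha2_apply]
  refine sum_eq_zero (fun j _ => ?_)
  rw [pow_fix hu, hg u hu, zero_smul]

theorem alpha2_sub {g : V →ₗ[R] R} {v : V} (u : V) :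
    ∃ w, alpha2 p s g v u - g (DD p s u) • v = s w - w := by
  have h1 : ∀ j : ℕ, ∃ w, SS s v j - (j : R) • v = s w - w := by
    intro j
    have h2 : ∀ i : ℕ, ∃ w, (s ^ i) v - v = s w - w := fun i => exists_pow_sub i v
    choose w hw using h2
    refine ⟨∑ i ∈ range j, w i, ?_⟩
    rw [map_sum, ← sum_sub_distrib, sum_congr rfl (fun i _ => (hw i).symm), sum_sub_distrib, SS,
      sum_const, card_range, Nat.cast_smul_eq_nsmul]
  choose w hw using h1
  refine ⟨∑ j ∈ range p, g ((s ^ (p - j)) u) • w j, ?_⟩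
  rw [map_sum, ← sum_sub_distrib, alpha2_apply, DD_apply, map_sum, sum_smul, ← sum_sub_distrib]
  refine sum_congr rfl (fun j _ => ?_)
  rw [map_smul, map_smul, ← smul_sub, ← hw j, smul_sub, smul_smul, smul_eq_mul, mul_comm]

end alpha

section reltrace

variable {R : Type*} [CommRing R] {V : Type*} [AddCommGroup V] [Module R V]
variable {G : Type*} [Group G] [Finite G] {p : ℕ}

/-- conjugate of an endomorphism -/
def cjE (ρ : Representation R G V) (a : Module.End R V) (g : G) : Module.End R V :=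
  ρ g * a * ρ g⁻¹

omit [Finite G] in
theorem cjE_mul (ρ : Representation R G V) (a : Module.End R V) (g h : G) :
    cjE ρ a (g * h) = ρ g * cjE ρ a h * ρ g⁻¹ := by
  rw [cjE, cjE, mul_inv_rev, map_mul, map_mul]
  simp only [mul_assoc]

omit [Finite G] in
theorem rho_mul_inv (ρ : Representation R G V) (g : G) : ρ g * ρ g⁻¹ = 1 := by
  rw [← map_mul, mul_inv_cancel, map_one]

omit [Finite G] in
theorem rho_inv_mul (ρ : Representation R G V) (g : G) : ρ g⁻¹ * ρ g = 1 := by
  rw [← map_mul, inv_mul_cancel, map_one]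

omit [Finite G] in
theorem cjE_of_commute (ρ : Representation R G V) {a : Module.End R V} {x : G} (hx : Commute a (ρ x)) :
    cjE ρ a x = a := by
  rw [cjE, ← hx.eq, mul_assoc, rho_mul_inv, mul_one]

theorem cjE_mul_of_mem (ρ : Representation R G V) {a : Module.End R V} {σ : G}
    (ha : Commute a (ρ σ)) (g : G) {x : G} (hx : x ∈ Subgroup.zpowers σ) : cjE ρ a (g * x) = cjE ρ a g := by
  have h1 : Commute a (ρ x) := by
    rw [← mem_powers_iff_mem_zpowers] at hx
    obtain ⟨k, rfl⟩ := hx
    rw [map_pow]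
    exact ha.pow_right k
  rw [cjE_mul, cjE_of_commute ρ h1]; rfl

theorem cjE_out (ρ : Representation R G V) {a : Module.End R V} {σ : G}
    (ha : Commute a (ρ σ)) (g : G) :
    cjE ρ a (QuotientGroup.mk g : G ⧸ Subgroup.zpowers σ).out = cjE ρ a g := by
  obtain ⟨⟨x, hx⟩, h⟩ := QuotientGroup.mk_out_eq_mul (Subgroup.zpowers σ) g
  rw [h]
  exact cjE_mul_of_mem ρ ha g hx

open Classical in
/-- the relative trace from `⟨σ⟩` -/
noncomputable def relTr (ρ : Representation R G V) (σ : G) (a : Module.End R V) : Module.End R V :=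
  letI := Fintype.ofFinite (G ⧸ Subgroup.zpowers σ)
  ∑ q : G ⧸ Subgroup.zpowers σ, cjE ρ a q.out

theorem relTr_commute (ρ : Representation R G V) {σ : G} {a : Module.End R V}
    (ha : Commute a (ρ σ)) (g : G) : Commute (relTr ρ σ a) (ρ g) := by
  classical
  let _ := Fintype.ofFinite (G ⧸ Subgroup.zpowers σ)
  have h1 : ρ g * relTr ρ σ a * ρ g⁻¹ = relTr ρ σ a := by
    rw [relTr, Finset.mul_sum, Finset.sum_mul]
    refine Fintype.sum_equiv (MulAction.toPerm g) _ _ (fun q => ?_)
    rw [← cjE_mul]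
    have : (MulAction.toPerm g q : G ⧸ Subgroup.zpowers σ) = QuotientGroup.mk (g * q.out) := by
      rw [MulAction.toPerm_apply]
      conv_lhs => rw [← QuotientGroup.out_eq' q]
      rfl
    rw [this, cjE_out ρ ha]
  have h2 : ρ g * relTr ρ σ a = relTr ρ σ a * ρ g := by
    calc ρ g * relTr ρ σ a = ρ g * relTr ρ σ a * (ρ g⁻¹ * ρ g) := by rw [rho_inv_mul, mul_one]
      _ = (ρ g * relTr ρ σ a * ρ g⁻¹) * ρ g := by simp only [mul_assoc]
      _ = relTr ρ σ a * ρ g := by rw [h1]
  exact h2.symm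

/-- a free action of a cyclic group of prime order: a weight with orbit sums `1` -/
theorem exists_weight {X : Type*} [MulAction G X] {σ : G} (hp : p.Prime) (hσ : σ ^ p = 1) :
    ∃ w : X → ℕ, ∀ q : X, σ • q ≠ q → ∑ i ∈ range p, w (σ ^ i • q) = 1 := by
  classical
  let rel : X → Quotient (MulAction.orbitRel (Subgroup.zpowers σ) X) :=
    fun q => Quotient.mk (MulAction.orbitRel (Subgroup.zpowers σ) X) q
  let w : X → ℕ := fun q => if (rel q).out = q then 1 else 0
  refine ⟨w, fun q hq => ?_⟩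
  have hrel : ∀ i : ℕ, rel (σ ^ i • q) = rel q := by
    intro i
    apply Quotient.sound
    exact MulAction.orbitRel_apply.2 ⟨⟨σ ^ i, pow_mem (Subgroup.mem_zpowers σ) i⟩, rfl⟩
  have hinj : ∀ i < p, ∀ j < p, σ ^ i • q = σ ^ j • q → i = j := by
    have key : ∀ i j, i < j → j < p → σ ^ i • q ≠ σ ^ j • q := by
      intro i j hij hj h
      apply hq
      have h1 : σ ^ (j - i) • q = q := by
        have h2 : σ ^ i • (σ ^ (j - i) • q) = σ ^ i • q := by
          rw [smul_smul, ← pow_add, show i + (j - i) = j by omega, h]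
        exact smul_left_cancel _ h2
      have h3 : (j - i).Coprime p := by
        rw [Nat.coprime_comm, hp.coprime_iff_not_dvd]
        intro hd
        exact absurd (Nat.le_of_dvd (by omega) hd) (by omega)
      have h4 : σ ∈ MulAction.stabilizer G q := by
        have h5 : σ ^ (j - i) ∈ MulAction.stabilizer G q := h1
        have h6 : (orderOf σ).Coprime (j - i) := by
          rw [Nat.coprime_comm]
          exact h3.coprime_dvd_right (orderOf_dvd_of_pow_eq_one hσ)
        obtain ⟨k, hk⟩ := exists_pow_eq_self_of_coprime (x := σ) (n := j - i) h6.symm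
        rw [← hk]
        exact pow_mem h5 k
      exact h4
    intro i hi j hj h
    rcases lt_trichotomy i j with hlt | heq | hlt
    · exact absurd h (key i j hlt hj)
    · exact heq
    · exact absurd h.symm (key j i hlt hi)
  -- the representative is in the orbit
  obtain ⟨⟨x, hx⟩, hxq⟩ : (rel q).out ∈ MulAction.orbit (Subgroup.zpowers σ) q := by
    have : rel (rel q).out = rel q := Quotient.out_eq _
    exact MulAction.orbitRel_apply.1 (Quotient.exact this)
  obtain ⟨k, hk, hkx⟩ : ∃ k < p, σ ^ k = x := by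
    obtain ⟨m, hm⟩ := mem_powers_iff_mem_zpowers.2 hx
    refine ⟨m % p, Nat.mod_lt _ hp.pos, ?_⟩
    rw [← hm]
    exact (pow_eq_pow_mod m hσ).symm
  have hk' : σ ^ k • q = (rel q).out := by rw [hkx]; exact hxq
  rw [Finset.sum_eq_single k]
  · simp only [w]
    rw [if_pos (by rw [hrel, hk'])]
  · intro j hj hjk
    simp only [w]
    rw [if_neg]
    intro h
    rw [hrel, ← hk'] at h
    exact hjk (hinj k hk j (mem_range.1 hj) h).symm
  · intro h
    exact absurd (mem_range.2 hk) h

open Classical in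
/-- the relative trace is the sum over the cosets in the normalizer, modulo a killing endomorphism -/
theorem relTr_kills (ρ : Representation R G V) {σ : G} (hp : p.Prime) (hσ : σ ^ p = 1)
    {a : Module.End R V} (ha : Commute a (ρ σ)) [Fintype (G ⧸ Subgroup.zpowers σ)] :
    Kills p (ρ σ) (relTr ρ σ a -
      ∑ q ∈ (univ : Finset (G ⧸ Subgroup.zpowers σ)).filter (fun q => σ • q = q), cjE ρ a q.out) := by
  have hs : (ρ σ) ^ p = 1 := by rw [← map_pow, hσ, map_one]
  have h0 : relTr ρ σ a = ∑ q : G ⧸ Subgroup.zpowers σ, cjE ρ a q.out := by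
    rw [relTr]
    congr!
  rw [h0, ← Finset.sum_filter_add_sum_filter_not univ
    (fun q : G ⧸ Subgroup.zpowers σ => σ • q = q) (fun q => cjE ρ a q.out), add_sub_cancel_left]
  obtain ⟨w, hw⟩ := exists_weight (X := G ⧸ Subgroup.zpowers σ) hp hσ
  set S := (univ : Finset (G ⧸ Subgroup.zpowers σ)).filter (fun q => ¬ σ • q = q) with hS
  have hcj : ∀ (g : G) (q : G ⧸ Subgroup.zpowers σ),
      ρ g * cjE ρ a q.out * ρ g⁻¹ = cjE ρ a (g • q).out := by
    intro g q
    rw [← cjE_mul]
    have : (g • q : G ⧸ Subgroup.zpowers σ) = QuotientGroup.mk (g * q.out) := by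
      conv_lhs => rw [← QuotientGroup.out_eq' q]
      rfl
    rw [this, cjE_out ρ ha]
  have hSmem : ∀ (i : ℕ) (q : G ⧸ Subgroup.zpowers σ), σ ^ i • q ∈ S ↔ q ∈ S := by
    intro i q
    simp only [hS, mem_filter, mem_univ, true_and]
    rw [smul_smul, (Commute.pow_self σ i).eq.symm, ← smul_smul]
    rw [smul_left_cancel_iff]
  have key : ∑ q ∈ S, cjE ρ a q.out =
      ∑ i ∈ range p, (ρ σ) ^ i * (∑ q ∈ S, (w q) • cjE ρ a q.out) * (ρ σ) ^ (p - i) := by
    have h1 : ∀ i ∈ range p, (ρ σ) ^ i * (∑ q ∈ S, (w q) • cjE ρ a q.out) * (ρ σ) ^ (p - i) =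
        ∑ q ∈ S, (w (σ ^ (p - i) • q)) • cjE ρ a q.out := by
      intro i hi
      rw [mem_range] at hi
      rw [Finset.mul_sum, Finset.sum_mul]
      have h2 : ∀ q, (ρ σ) ^ i * ((w q) • cjE ρ a q.out) * (ρ σ) ^ (p - i) =
          (w q) • cjE ρ a (σ ^ i • q).out := by
        intro q
        rw [← hcj, mul_smul_comm, smul_mul_assoc, map_pow]
        congr 3
        have : (σ ^ i)⁻¹ = σ ^ (p - i) := by
          rw [inv_eq_iff_mul_eq_one, ← pow_add, show i + (p - i) = p by omega, hσ]
        rw [this, map_pow]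
      rw [sum_congr rfl (fun q _ => h2 q)]
      refine Finset.sum_bij' (fun q _ => σ ^ i • q) (fun q _ => σ ^ (p - i) • q)
        (fun q hq => (hSmem i q).2 hq) (fun q hq => (hSmem _ q).2 hq) ?_ ?_ ?_
      · intro q _
        rw [smul_smul, ← pow_add, show p - i + i = p by omega, hσ, one_smul]
      · intro q _
        rw [smul_smul, ← pow_add, show i + (p - i) = p by omega, hσ, one_smul]
      · intro q _
        rw [smul_smul (σ ^ (p - i)), ← pow_add, show p - i + i = p by omega, hσ, one_smul]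
    rw [sum_congr rfl h1, Finset.sum_comm]
    refine sum_congr rfl (fun q hq => ?_)
    rw [← Finset.sum_smul]
    have h3 : ∑ i ∈ range p, w (σ ^ (p - i) • q) = 1 := by
      have h4 : σ • q ≠ q := by
        simp only [hS, mem_filter, mem_univ, true_and] at hq
        exact hq
      have h5 : σ • (σ • q) ≠ σ • q := fun h => h4 (smul_left_cancel _ h)
      rw [← hw (σ • q) h5, ← Finset.sum_range_reflect]
      refine sum_congr rfl (fun i hi => ?_)
      rw [mem_range] at hi
      rw [smul_smul, ← pow_succ]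
      congr 3
      omega
    rw [h3, one_smul]
  rw [key]
  exact kills_trace hs _

theorem smul_eq_iff_normalizer {σ : G} (hp : p.Prime) (hσ : orderOf σ = p) (g : G) :
    σ • (QuotientGroup.mk g : G ⧸ Subgroup.zpowers σ) = QuotientGroup.mk g ↔
      g ∈ Subgroup.normalizer (Subgroup.zpowers σ : Set G) := by
  have h1 : σ • (QuotientGroup.mk g : G ⧸ Subgroup.zpowers σ) = QuotientGroup.mk (σ * g) := rfl
  rw [h1, eq_comm, QuotientGroup.eq, ← mul_assoc]
  constructor
  · intro h
    have h2 : MulAut.conj g⁻¹ σ ∈ Subgroup.zpowers σ := by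
      rw [MulAut.conj_apply, inv_inv]; exact h
    have h3 : (Subgroup.zpowers σ).map (MulAut.conj g⁻¹).toMonoidHom ≤ Subgroup.zpowers σ := by
      rw [MonoidHom.map_zpowers, Subgroup.zpowers_le]
      exact h2
    have h4 : (Subgroup.zpowers σ).map (MulAut.conj g⁻¹).toMonoidHom = Subgroup.zpowers σ := by
      apply Subgroup.eq_of_le_of_card_ge h3
      rw [Subgroup.card_map_of_injective (MulAut.conj g⁻¹).injective]
    rw [← inv_mem_iff, Subgroup.mem_normalizer_iff]
    intro x
    have hx : ∀ y, y ∈ Subgroup.zpowers σ ↔ y ∈ (Subgroup.zpowers σ).map (MulAut.conj g⁻¹).toMonoidHom := by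
      rw [h4]; exact fun y => Iff.rfl
    change x ∈ Subgroup.zpowers σ ↔ g⁻¹ * x * g⁻¹⁻¹ ∈ Subgroup.zpowers σ
    rw [hx (g⁻¹ * x * g⁻¹⁻¹)]
    constructor
    · intro hxm; exact ⟨x, hxm, rfl⟩
    · rintro ⟨y, hy, hyx⟩
      have : y = x := (MulAut.conj g⁻¹).injective hyx
      rwa [← this]
  · intro h
    have h2 := (Subgroup.mem_normalizer_iff.1 (inv_mem h) σ).1 (Subgroup.mem_zpowers σ)
    rwa [inv_inv] at h2

end reltrace

end H67.Lat
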