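import Mathlib
import Cfsg.Agent.Lib.H67.LatAlpha

set_option autoImplicit false
set_option linter.unusedSectionVars false

/-! Modular representations of groups with a Sylow subgroup of order `p`: relative traces. -/

namespace H67.Mod

open Finset H67.Lat

variable {k : Type*} [Field k] {p : ℕ} [hp : Fact p.Prime] [CharP k p]

/-- the norm is a power of `s - 1` -/
theorem TT_eq {V : Type*} [AddCommGroup V] [Module k V] (s : Module.End k V) :
    TT p s = (s - 1) ^ (p - 1) := by
  have h1 : ∀ (x : Polynomial (ZMod p)), x = Polynomial.X →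
      ∑ i ∈ range p, x ^ i = (x - 1) ^ (p - 1) := by
    rintro x rfl
    have h2 : (∑ i ∈ range p, (Polynomial.X : Polynomial (ZMod p)) ^ i) * (Polynomial.X - 1) =
        (Polynomial.X - 1) ^ (p - 1) * (Polynomial.X - 1) := by
      rw [geom_sum_mul, ← pow_succ, Nat.sub_add_cancel hp.out.one_lt.le]
      rw [sub_pow_char, one_pow]
    have h3 : (Polynomial.X - 1 : Polynomial (ZMod p)) ≠ 0 := by
      rw [← Polynomial.C_1]
      exact Polynomial.X_sub_C_ne_zero 1
    exact mul_right_cancel₀ h3 h2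
  have h4 : ∑ i ∈ range p, (Polynomial.X : Polynomial k) ^ i = (Polynomial.X - 1) ^ (p - 1) := by
    have h5 := congrArg (Polynomial.map (ZMod.castHom dvd_rfl k)) (h1 Polynomial.X rfl)
    rw [Polynomial.map_sum] at h5
    simpa using h5
  have h6 := congrArg (Polynomial.aeval s) h4
  rw [map_sum] at h6
  simpa [TT] using h6

variable {G : Type*} [Group G] [Finite G] {V : Type*} [AddCommGroup V] [Module k V]

/-- the number of fixed cosets -/
theorem card_fixed {σ : G} (hσ : orderOf σ = p) (hp2 : ¬ p ^ 2 ∣ Nat.card G)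
    [Fintype (G ⧸ Subgroup.zpowers σ)] [DecidableEq (G ⧸ Subgroup.zpowers σ)] :
    ¬ p ∣ ((univ : Finset (G ⧸ Subgroup.zpowers σ)).filter (fun q => σ • q = q)).card := by
  have hpg : IsPGroup p (Subgroup.zpowers σ) := by
    apply IsPGroup.of_card_dvd_pow (n := 1)
    rw [Nat.card_zpowers, pow_one]
    exact hσ.dvd
  have hcard : Nat.card (Subgroup.zpowers σ) = p := by rw [Nat.card_zpowers, hσ]
  have h1 := hpg.card_modEq_card_fixedPoints (G ⧸ Subgroup.zpowers σ)
  have h2 : Nat.card (MulAction.fixedPoints (Subgroup.zpowers σ) (G ⧸ Subgroup.zpowers σ)) =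
      ((univ : Finset (G ⧸ Subgroup.zpowers σ)).filter (fun q => σ • q = q)).card := by
    refine Nat.subtype_card _ (fun q => ?_)
    rw [mem_filter]
    constructor
    swap
    · intro h
      exact ⟨mem_univ _, h ⟨σ, Subgroup.mem_zpowers σ⟩⟩
    · rintro ⟨_, h⟩
      rintro ⟨x, hx⟩
      obtain ⟨m, rfl⟩ := mem_powers_iff_mem_zpowers.2 hx
      change (fun n => σ ^ n) m • q = q
      simp only
      induction m with
      | zero => rw [pow_zero, one_smul]
      | succ m ih => rw [pow_succ, mul_smul, h, ih (Subgroup.pow_mem _ (Subgroup.mem_zpowers σ) m)]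
  intro h3
  rw [h2] at h1
  have h4 : p ∣ Nat.card (G ⧸ Subgroup.zpowers σ) := by
    have := h1.trans (Nat.modEq_zero_iff_dvd.2 h3)
    exact Nat.modEq_zero_iff_dvd.1 this
  apply hp2
  rw [Subgroup.card_eq_card_quotient_mul_card_subgroup (Subgroup.zpowers σ), hcard, pow_two]
  exact Nat.mul_dvd_mul_right h4 p

open Classical in
/-- the relative trace on fixed vectors -/
theorem relTr_fix (ρ : Representation k G V) {σ : G} (hσ : orderOf σ = p)
    (hT : TT p (ρ σ) = 0) {a : Module.End k V} (ha : Commute a (ρ σ))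
    [Fintype (G ⧸ Subgroup.zpowers σ)] {v : V} (hv : ρ σ v = v) :
    relTr ρ σ a v = ∑ q ∈ (univ : Finset (G ⧸ Subgroup.zpowers σ)).filter (fun q => σ • q = q),
      cjE ρ a q.out v := by
  have h1 := relTr_kills ρ hp.out (by rw [← hσ]; exact pow_orderOf_eq_one σ) ha
  obtain ⟨w, hw⟩ := h1.1 v hv
  rw [hT, LinearMap.zero_apply, LinearMap.sub_apply, sub_eq_zero, LinearMap.sum_apply] at hw
  exact hw

theorem out_mem {σ : G} (hσ : orderOf σ = p) {q : G ⧸ Subgroup.zpowers σ} (h : σ • q = q) :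
    q.out ∈ Subgroup.normalizer (Subgroup.zpowers σ : Set G) := by
  rw [← smul_eq_iff_normalizer hp.out hσ, QuotientGroup.out_eq']
  exact h

/-- conjugates of `σ - 1` by elements of the normalizer -/
theorem exists_conj_sub {σ : G} (ρ : Representation k G V) {g : G}
    (hg : g ∈ Subgroup.normalizer (Subgroup.zpowers σ : Set G)) :
    ∃ u : Module.End k V, Commute u (ρ σ - 1) ∧ ρ g * (ρ σ - 1) = (ρ σ - 1) * u * ρ g := by
  obtain ⟨m, hm⟩ := mem_powers_iff_mem_zpowers.2
    ((Subgroup.mem_normalizer_iff.1 hg σ).1 (Subgroup.mem_zpowers σ))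
  have hm : σ ^ m = g * σ * g⁻¹ := hm
  refine ⟨∑ i ∈ range m, (ρ σ) ^ i, ?_, ?_⟩
  · apply Commute.sum_left
    intro i _
    exact ((Commute.refl (ρ σ)).pow_left i).sub_right (Commute.one_right _)
  · have h1 : (ρ σ - 1) * ∑ i ∈ range m, (ρ σ) ^ i = ρ (g * σ * g⁻¹) - 1 := by
      rw [← hm, map_pow, ← geom_sum_mul]
      apply Commute.eq
      apply Commute.sum_right
      intro i _
      exact ((Commute.refl (ρ σ)).pow_right i).sub_left (Commute.one_left _)
    rw [h1, sub_mul, ← map_mul, mul_sub, ← map_mul, mul_one, one_mul]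
    congr 2
    group

theorem conj_sub_pow {σ : G} (ρ : Representation k G V) {g : G}
    (hg : g ∈ Subgroup.normalizer (Subgroup.zpowers σ : Set G)) (n : ℕ) :
    ∃ u : Module.End k V, Commute u (ρ σ - 1) ∧ ρ g * (ρ σ - 1) ^ n = (ρ σ - 1) ^ n * u * ρ g := by
  obtain ⟨u, hu, h⟩ := exists_conj_sub ρ hg
  refine ⟨u ^ n, hu.pow_left n, ?_⟩
  induction n with
  | zero => simp
  | succ n ih =>
    calc ρ g * (ρ σ - 1) ^ (n + 1) = ρ g * (ρ σ - 1) ^ n * (ρ σ - 1) := by rw [pow_succ, ← mul_assoc]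
      _ = (ρ σ - 1) ^ n * u ^ n * (ρ g * (ρ σ - 1)) := by rw [ih, mul_assoc]
      _ = (ρ σ - 1) ^ n * (u ^ n * (ρ σ - 1)) * u * ρ g := by rw [h]; simp only [mul_assoc]
      _ = (ρ σ - 1) ^ n * ((ρ σ - 1) * u ^ n) * u * ρ g := by rw [(hu.pow_left n).eq]
      _ = _ := by rw [pow_succ (ρ σ - 1), pow_succ u]; simp only [mul_assoc]

/-- Schur -/
theorem schur [IsAlgClosed k] [Module.Finite k V] [Nontrivial V] (ρ : Representation k G V)
    (hirr : ∀ U : Submodule k V, (∀ g, ∀ v ∈ U, ρ g v ∈ U) → U = ⊥ ∨ U = ⊤) (f : Module.End k V)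
    (hf : ∀ g, Commute f (ρ g)) : ∃ c : k, f = c • 1 := by
  obtain ⟨c, hc⟩ := Module.End.exists_eigenvalue f
  refine ⟨c, ?_⟩
  rcases hirr (Module.End.eigenspace f c) (by
    intro g v hv
    rw [Module.End.mem_eigenspace_iff] at hv ⊢
    rw [← Module.End.mul_apply, (hf g).eq, Module.End.mul_apply, hv, map_smul]) with h | h
  · exact absurd h hc
  · ext v
    have hv : v ∈ Module.End.eigenspace f c := by rw [h]; trivial
    rw [Module.End.mem_eigenspace_iff] at hv
    rw [hv]
    rfl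

end H67.Mod
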