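import Mathlib
import Cfsg.Agent.Lib.H67.Mod1

set_option autoImplicit false
set_option linter.unusedSectionVars false

/-! Modular representations of groups with a Sylow subgroup of order `p`: the Jordan blocks have equal size. -/

namespace H67.Mod

open Finset H67.Lat

section proj

variable {k : Type*} [Field k] {V : Type*} [AddCommGroup V] [Module k V]

/-- an endomorphism commuting with `s` that projects the kernel of `s` onto the range of `s ^ r` -/
theorem exists_proj (s : Module.End k V) {r : ℕ} (hr : s ^ (r + 1) = 0) :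
    ∃ F : Module.End k V, Commute F s ∧ (∀ v, s v = 0 → F v ∈ LinearMap.range (s ^ r)) ∧
      (∀ v, s v = 0 → v ∈ LinearMap.range (s ^ r) → F v = v) := by
  obtain ⟨π, hπ⟩ := (LinearMap.range (s ^ r)).subtype.exists_leftInverse_of_injective
    (LinearMap.range (s ^ r)).ker_subtype
  obtain ⟨t, ht⟩ := (s ^ r).rangeRestrict.exists_rightInverse_of_surjective (s ^ r).range_rangeRestrict
  let τ : Module.End k V := t ∘ₗ π
  have hτ : ∀ v, (s ^ r) (τ v) = (π v : V) := by
    intro v
    have h1 := congrArg Subtype.val (LinearMap.congr_fun ht (π v))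
    exact h1
  have hπ' : ∀ v ∈ LinearMap.range (s ^ r), (π v : V) = v := by
    intro v hv
    have h1 := congrArg Subtype.val (LinearMap.congr_fun hπ ⟨v, hv⟩)
    exact h1
  let F : Module.End k V := ∑ i ∈ range (r + 1), s ^ i * τ * s ^ (r - i)
  have hF : ∀ v, s v = 0 → F v = (π v : V) := by
    intro v hv
    rw [← hτ v]
    simp only [F]
    rw [LinearMap.sum_apply, sum_range_succ, Nat.sub_self, pow_zero, mul_one]
    rw [sum_eq_zero, zero_add]
    · rfl
    · intro i hi
      rw [mem_range] at hi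
      rw [Module.End.mul_apply]
      have h2 : (s ^ (r - i)) v = 0 := by
        rw [show r - i = (r - i - 1) + 1 by omega, pow_succ, Module.End.mul_apply, hv, map_zero]
      rw [h2, map_zero]
  refine ⟨F, ?_, ?_, ?_⟩
  · have h1 : F * s = ∑ i ∈ range (r + 1), s ^ i * τ * s ^ (r + 1 - i) := by
      simp only [F]
      rw [sum_mul]
      refine sum_congr rfl (fun i hi => ?_)
      rw [mem_range] at hi
      rw [mul_assoc, ← pow_succ, show r - i + 1 = r + 1 - i by omega]
    have h2 : s * F = ∑ i ∈ range (r + 1), s ^ (i + 1) * τ * s ^ (r + 1 - (i + 1)) := by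
      simp only [F]
      rw [mul_sum]
      refine sum_congr rfl (fun i hi => ?_)
      rw [← mul_assoc, ← mul_assoc, ← pow_succ', show r + 1 - (i + 1) = r - i by omega]
    have h3 := sum_range_succ (fun i => s ^ i * τ * s ^ (r + 1 - i)) (r + 1)
    have h4 := sum_range_succ' (fun i => s ^ i * τ * s ^ (r + 1 - i)) (r + 1)
    simp only [hr, zero_mul, add_zero, Nat.sub_self, Nat.sub_zero, mul_zero] at h3 h4
    change F * s = s * F
    rw [h1, h2, ← h3, h4]
  · intro v hv
    rw [hF v hv]
    exact (π v).2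
  · intro v hv hv2
    rw [hF v hv, hπ' v hv2]

end proj

variable {k : Type*} [Field k] {p : ℕ} [hp : Fact p.Prime] [CharP k p]
variable {V : Type*} [AddCommGroup V] [Module k V]
variable {G : Type*} [Group G] [Finite G]

theorem sub_one_pow_p (ρ : Representation k G V) {σ : G} (hσ : orderOf σ = p) : (ρ σ - 1) ^ p = 0 := by
  have h1 : (ρ σ - 1) ^ p = (ρ σ - 1) ^ (p - 1) * (ρ σ - 1) := by
    rw [← pow_succ, Nat.sub_add_cancel hp.out.one_lt.le]
  rw [h1, ← TT_eq, TT, geom_sum_mul, ← map_pow, ← hσ, pow_orderOf_eq_one, map_one, sub_self]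

theorem sub_one_pow_finrank [Module.Finite k V] (ρ : Representation k G V) {σ : G} (hσ : orderOf σ = p) :
    (ρ σ - 1) ^ (Module.finrank k V) = 0 := by
  have h1 := Module.End.ker_pow_le_ker_pow_finrank (ρ σ - 1) p
  rw [sub_one_pow_p ρ hσ, LinearMap.ker_zero, top_le_iff, LinearMap.ker_eq_top] at h1
  exact h1

/-- the Jordan blocks have equal size -/
theorem equal_blocks [IsAlgClosed k] [Module.Finite k V] [Nontrivial V] (ρ : Representation k G V)
    (hirr : ∀ U : Submodule k V, (∀ g, ∀ v ∈ U, ρ g v ∈ U) → U = ⊥ ∨ U = ⊤)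
    {σ : G} (hσ : orderOf σ = p) (hp2 : ¬ p ^ 2 ∣ Nat.card G) (hdim : Module.finrank k V < p)
    {r : ℕ} (hr : (ρ σ - 1) ^ (r + 1) = 0) (hr0 : (ρ σ - 1) ^ r ≠ 0) {v : V} (hv : ρ σ v = v) :
    v ∈ LinearMap.range ((ρ σ - 1) ^ r) := by
  classical
  let _ := Fintype.ofFinite (G ⧸ Subgroup.zpowers σ)
  obtain ⟨F, hFs, hF1, hF2⟩ := exists_proj (ρ σ - 1) hr
  have hFσ : Commute F (ρ σ) := by
    have := hFs.add_right (Commute.one_right F)
    rwa [sub_add_cancel] at this
  have hT : TT p (ρ σ) = 0 := by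
    rw [TT_eq]
    have h1 := sub_one_pow_finrank ρ hσ
    have h2 : p - 1 = Module.finrank k V + (p - 1 - Module.finrank k V) := by omega
    rw [h2, pow_add, h1, zero_mul]
  have hker : ∀ w : V, ρ σ w = w → (ρ σ - 1) w = 0 := by
    intro w hw
    rw [LinearMap.sub_apply, Module.End.one_apply, hw, sub_self]
  have hker' : ∀ w : V, (ρ σ - 1) w = 0 → ρ σ w = w := by
    intro w hw
    rw [LinearMap.sub_apply, Module.End.one_apply, sub_eq_zero] at hw
    exact hw
  set n := ((univ : Finset (G ⧸ Subgroup.zpowers σ)).filter (fun q => σ • q = q)).card with hn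
  have hn0 : (n : k) ≠ 0 := by
    intro h
    exact card_fixed hσ hp2 ((CharP.cast_eq_zero_iff k p n).1 h)
  obtain ⟨c, hc⟩ := schur ρ hirr (relTr ρ σ F) (fun g => relTr_commute ρ hFσ g)
  have hrange : ∀ g ∈ Subgroup.normalizer (Subgroup.zpowers σ : Set G),
      ∀ w ∈ LinearMap.range ((ρ σ - 1) ^ r), ρ g w ∈ LinearMap.range ((ρ σ - 1) ^ r) := by
    rintro g hg _ ⟨w, rfl⟩
    obtain ⟨u, _, hu2⟩ := conj_sub_pow ρ hg r
    refine ⟨u (ρ g w), ?_⟩
    have := LinearMap.congr_fun hu2 w
    exact this.symm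
  have hfix : ∀ g ∈ Subgroup.normalizer (Subgroup.zpowers σ : Set G),
      ∀ w, (ρ σ - 1) w = 0 → (ρ σ - 1) (ρ g w) = 0 := by
    intro g hg w hw
    obtain ⟨u, _, hu2⟩ := exists_conj_sub (σ := σ) ρ (inv_mem hg)
    -- conjugate back
    have h1 := LinearMap.congr_fun hu2 (ρ g w)
    have h2 : ρ g⁻¹ (ρ g w) = w := by
      rw [← Module.End.mul_apply, ← map_mul, inv_mul_cancel, map_one, Module.End.one_apply]
    rw [Module.End.mul_apply, Module.End.mul_apply, h2, Module.End.mul_apply] at h1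
    have hcomm : (ρ σ - 1) (u w) = 0 := by
      have h3 : Commute u (ρ σ - 1) := by assumption
      rw [← Module.End.mul_apply, ← h3.eq, Module.End.mul_apply, hw, map_zero]
    rw [hcomm] at h1
    have h4 : ρ g (ρ g⁻¹ ((ρ σ - 1) (ρ g w))) = 0 := by rw [h1, map_zero]
    rwa [← Module.End.mul_apply, ← map_mul, mul_inv_cancel, map_one, Module.End.one_apply] at h4
  have hsr : ∀ w ∈ LinearMap.range ((ρ σ - 1) ^ r), (ρ σ - 1) w = 0 := by
    rintro _ ⟨w, rfl⟩
    rw [← Module.End.mul_apply, ← pow_succ', hr, LinearMap.zero_apply]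
  -- the scalar
  have hcn : c = n := by
    obtain ⟨w, hw⟩ : ∃ w, ((ρ σ - 1) ^ r) w ≠ 0 := by
      by_contra hcon
      push Not at hcon
      exact hr0 (LinearMap.ext hcon)
    set z := ((ρ σ - 1) ^ r) w with hz
    have hzr : z ∈ LinearMap.range ((ρ σ - 1) ^ r) := ⟨w, rfl⟩
    have h1 := relTr_fix ρ hσ hT hFσ (hker' z (hsr z hzr))
    rw [hc] at h1
    have h2 : ∀ q ∈ (univ : Finset (G ⧸ Subgroup.zpowers σ)).filter (fun q => σ • q = q),
        cjE ρ F q.out z = z := by
      intro q hq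
      rw [mem_filter] at hq
      have hqN := out_mem hσ hq.2
      have h3 := hrange _ (inv_mem hqN) z hzr
      rw [cjE, Module.End.mul_apply, Module.End.mul_apply, hF2 _ (hsr _ h3) h3, ← Module.End.mul_apply,
        ← map_mul, mul_inv_cancel, map_one, Module.End.one_apply]
    rw [sum_congr rfl h2, sum_const, ← hn, LinearMap.smul_apply, Module.End.one_apply,
      ← Nat.cast_smul_eq_nsmul k, ← sub_eq_zero, ← sub_smul] at h1
    rcases smul_eq_zero.1 h1 with h3 | h3
    · exact sub_eq_zero.1 h3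
    · exact absurd h3 hw
  have h1 := relTr_fix ρ hσ hT hFσ hv
  rw [hc, hcn, LinearMap.smul_apply, Module.End.one_apply] at h1
  have h2 : (n : k) • v ∈ LinearMap.range ((ρ σ - 1) ^ r) := by
    rw [h1]
    apply Submodule.sum_mem
    intro q hq
    rw [mem_filter] at hq
    have hqN := out_mem hσ hq.2
    rw [cjE, Module.End.mul_apply, Module.End.mul_apply]
    apply hrange _ hqN
    apply hF1
    exact hfix _ (inv_mem hqN) _ (hker v hv)
  have h3 := Submodule.smul_mem _ ((n : k)⁻¹) h2
  rwa [smul_smul, inv_mul_cancel₀ hn0, one_smul] at h3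

end H67.Mod
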