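import Mathlib
import Cfsg.Agent.Lib.H67.Mod2
import Cfsg.Agent.Lib.H13.PSolvMap
import Cfsg.Agent.S0633

set_option autoImplicit false
set_option linter.unusedSectionVars false

/-! An application of the theorem of Hall and Higman. -/

namespace H67.Mod

open Finset
open scoped Pointwise

theorem pCore_ne_bot_of_small {k : Type*} [Field k] {p : ℕ} [hp : Fact p.Prime] [CharP k p] {Γ : Type*} [Group Γ]
    [Finite Γ] {V : Type*} [AddCommGroup V] [Module k V] [Module.Finite k V] (τ : Representation k Γ V)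
    (hτ : ∀ g, τ g = 1 → g = 1) {σ : Γ} (hσ : orderOf σ = p) (N : Subgroup Γ) [hNn : N.Normal]
    (hN : (Nat.card N).Coprime p) (hNi : N.index = p) (hdim : Module.finrank k V + 1 < p) :
    Cfsg.pCore p Γ ≠ ⊥ := by
  intro hcore
  classical
  let f : Γ →* (V ≃ₗ[k] V) :=
    (LinearMap.GeneralLinearGroup.generalLinearEquiv k V).toMonoidHom.comp τ.toHomUnits
  have hf : ∀ g v, f g v = τ g v := fun g v => rfl
  have hfinj : Function.Injective f := by
    rw [injective_iff_map_eq_one]
    intro g hg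
    apply hτ
    ext v
    rw [← hf, hg]
    rfl
  let e : Γ ≃* f.range := MonoidHom.ofInjective hfinj
  have hsol : Cfsg.IsPSolvable p Γ := by
    refine ⟨2, ![⊥, N, ⊤], rfl, rfl, ?_, ?_, ?_⟩
    · rw [Fin.monotone_iff_le_succ]
      intro i
      fin_cases i
      · exact bot_le
      · exact le_top
    · intro i
      fin_cases i
      · exact Subgroup.normal_bot
      · exact hNn
      · exact Subgroup.normal_top
    · intro i
      fin_cases i
      · right
        change ((⊥ : Subgroup Γ).relIndex N).Coprime p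
        rw [Subgroup.relIndex_bot_left]
        exact hN
      · left
        refine ⟨1, ?_⟩
        change N.relIndex ⊤ = p ^ 1
        rw [Subgroup.relIndex_top_right, hNi, pow_one]
  have hσ1 : σ ≠ 1 := by
    rintro rfl
    rw [orderOf_one] at hσ
    exact hp.out.one_lt.ne hσ
  have hnt : Nontrivial V := by
    by_contra hcon
    rw [not_nontrivial_iff_subsingleton] at hcon
    exact hσ1 (hτ σ (LinearMap.ext (fun v => Subsingleton.elim _ _)))
  have hfin : Finite f.range := Finite.of_equiv Γ e.toEquiv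
  have hcore' : Cfsg.pCore p f.range = ⊥ := by
    rw [Cfsg.pCore, sSup_eq_bot]
    rintro M ⟨hM1, hM2⟩
    have h1 : M.comap e.toMonoidHom ≤ Cfsg.pCore p Γ := by
      apply le_sSup
      refine ⟨hM1.comap _, ?_⟩
      exact hM2.comap_of_injective e.toMonoidHom e.injective
    rw [hcore, le_bot_iff] at h1
    rw [eq_bot_iff]
    intro x hx
    have h2 : e.symm x ∈ M.comap e.toMonoidHom := by
      rw [Subgroup.mem_comap]
      change e (e.symm x) ∈ M
      rwa [MulEquiv.apply_symm_apply]
    rw [h1, Subgroup.mem_bot] at h2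
    rw [Subgroup.mem_bot, ← e.apply_symm_apply x, h2, map_one]
  have hord : orderOf (f σ) = p ^ 1 := by
    rw [orderOf_injective f hfinj, hσ, pow_one]
  have hnil : (τ σ - 1) ^ (Module.finrank k V) = 0 := sub_one_pow_finrank τ hσ
  have hcoe : ((f σ : V ≃ₗ[k] V) : Module.End k V) = τ σ := rfl
  obtain ⟨r, hr, hr2⟩ : ∃ r ≤ Module.finrank k V, minpoly k ((f σ : V ≃ₗ[k] V) : Module.End k V) =
      (Polynomial.X - 1) ^ r := by
    have h1 : minpoly k (τ σ) ∣ (Polynomial.X - Polynomial.C 1) ^ (Module.finrank k V) := by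
      apply minpoly.dvd
      rw [map_pow, map_sub, Polynomial.aeval_X, Polynomial.aeval_C, map_one, hnil]
    obtain ⟨r, hr, hr2⟩ := (dvd_prime_pow (Polynomial.prime_X_sub_C (1 : k)) _).1 h1
    refine ⟨r, hr, ?_⟩
    rw [hcoe]
    have h2 := Polynomial.eq_of_monic_of_associated (minpoly.monic (Algebra.IsIntegral.isIntegral (τ σ)))
      ((Polynomial.monic_X_sub_C (1 : k)).pow r) hr2
    rw [h2, Polynomial.C_1]
  rcases Cfsg.Agent.S0633.result f.range (H13.PSolvMap.of_equiv hsol e) hcore' (f σ) ⟨σ, rfl⟩ 1 hord r hr2 with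
    h | ⟨n₀, q, m, h1, h2, _, _, _, _, h3⟩
  · rw [pow_one] at h
    omega
  · have h4 : n₀ = 1 := le_antisymm h2 h1
    rw [h4, pow_one, Nat.sub_self, pow_zero, one_mul] at h3
    omega

/-- the core is then the normal Sylow subgroup -/
theorem zpowers_normal_of_small {k : Type*} [Field k] {p : ℕ} [hp : Fact p.Prime] [CharP k p] {Γ : Type*} [Group Γ]
    [Finite Γ] {V : Type*} [AddCommGroup V] [Module k V] [Module.Finite k V] (τ : Representation k Γ V)
    (hτ : ∀ g, τ g = 1 → g = 1) {σ : Γ} (hσ : orderOf σ = p) (N : Subgroup Γ) [hNn : N.Normal]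
    (hN : (Nat.card N).Coprime p) (hNi : N.index = p) (hdim : Module.finrank k V + 1 < p) :
    (Subgroup.zpowers σ).Normal := by
  have h1 := pCore_ne_bot_of_small τ hτ hσ N hN hNi hdim
  have hcard : Nat.card Γ = Nat.card N * p := by rw [← hNi, Subgroup.card_mul_index]
  have hex : ∃ M : Subgroup Γ, M.Normal ∧ IsPGroup p M ∧ M ≠ ⊥ := by
    by_contra hcon
    push Not at hcon
    apply h1
    rw [Cfsg.pCore, sSup_eq_bot]
    rintro M ⟨hM1, hM2⟩
    exact hcon M hM1 hM2
  obtain ⟨M, hM1, hM2, hM3⟩ := hex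
  obtain ⟨j, hj⟩ := IsPGroup.iff_card.1 hM2
  have hj1 : j ≤ 1 := by
    by_contra hcon
    have h2 : p ^ 2 ∣ Nat.card Γ :=
      (pow_dvd_pow p (by omega)).trans (hj ▸ Subgroup.card_subgroup_dvd_card M)
    rw [hcard, pow_two] at h2
    have h3 : p ∣ Nat.card N := Nat.dvd_of_mul_dvd_mul_right hp.out.pos h2
    exact hp.out.coprime_iff_not_dvd.1 hN.symm h3
  have hj0 : j ≠ 0 := by
    rintro rfl
    rw [pow_zero] at hj
    exact hM3 (Subgroup.eq_bot_of_card_eq M hj)
  have hMp : Nat.card M = p := by rw [hj, show j = 1 by omega, pow_one]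
  have hzc : Nat.card (Subgroup.zpowers σ) = p := by rw [Nat.card_zpowers, hσ]
  have hpart : ∀ K : Subgroup Γ, Nat.card K = p → Nat.card K = p ^ (Nat.card Γ).factorization p := by
    intro K hK
    rw [hK, hcard, Nat.factorization_mul Nat.card_pos.ne' hp.out.ne_zero, Finsupp.add_apply,
      Nat.factorization_eq_zero_of_not_dvd (hp.out.coprime_iff_not_dvd.1 hN.symm), hp.out.factorization_self,
      zero_add, pow_one]
  obtain ⟨g, hg⟩ := MulAction.exists_smul_eq Γ (Sylow.ofCard M (hpart M hMp))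
    (Sylow.ofCard (Subgroup.zpowers σ) (hpart _ hzc))
  have h2 : Subgroup.zpowers σ = M := by
    have h3 := congrArg (fun Q : Sylow p Γ => (Q : Subgroup Γ)) hg
    simp only [Sylow.coe_subgroup_smul, Sylow.coe_ofCard] at h3
    rw [← h3]
    have h4 : MulAut.conj g • M = M := Subgroup.Normal.conj_smul_eq_self g M
    exact h4
  rw [h2]
  exact hM1

end H67.Mod
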