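import Mathlib

set_option autoImplicit false
set_option linter.unusedSectionVars false

/-! Truncated exponentials in characteristic `p`. -/

namespace H67.Mod

open Finset Polynomial

section EE

variable (k : Type*) [Field k] (p : ℕ) [hp : Fact p.Prime] [CharP k p]
variable {A : Type*} [Ring A] [Algebra k A]

/-- truncated exponential -/
noncomputable def EE (x : A) : A := ∑ i ∈ range p, ((i.factorial : k)⁻¹) • x ^ i

variable {k p}

theorem factorial_ne {i : ℕ} (hi : i < p) : (i.factorial : k) ≠ 0 := by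
  rw [ne_eq, CharP.cast_eq_zero_iff k p, hp.out.dvd_factorial]
  omega

variable (k p) in
theorem EE_map {B : Type*} [Ring B] [Algebra k B] (f : A →ₐ[k] B) (x : A) : f (EE k p x) = EE k p (f x) := by
  rw [EE, EE, map_sum]
  refine sum_congr rfl (fun i _ => ?_)
  rw [map_smul, map_pow]

variable (k p) in
theorem EE_zero : EE k p (0 : A) = 1 := by
  rw [EE, sum_eq_single 0]
  · simp
  · intro i _ hi
    rw [zero_pow hi, smul_zero]
  · intro h
    exact absurd (mem_range.2 hp.out.pos) h

theorem EE_add {x y : A} (h : Commute x y) {r : ℕ} (hx : x ^ r = 0) (hy : y ^ r = 0)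
    (hr : 2 * r ≤ p + 1) : EE k p (x + y) = EE k p x * EE k p y := by
  classical
  have hzero : ∀ i j : ℕ, p ≤ i + j → x ^ i * y ^ j = 0 := by
    intro i j hij
    by_cases hi : r ≤ i
    · rw [show i = r + (i - r) by omega, pow_add, hx, zero_mul, zero_mul]
    · have hj : r ≤ j := by omega
      rw [show j = r + (j - r) by omega, pow_add, hy, zero_mul, mul_zero]
  let F : ℕ → ℕ → A := fun i j => (((i.factorial : k)⁻¹) * ((j.factorial : k)⁻¹)) • (x ^ i * y ^ j)
  have h1 : EE k p x * EE k p y = ∑ i ∈ range p, ∑ j ∈ range p, F i j := by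
    rw [EE, EE, sum_mul_sum]
    refine sum_congr rfl (fun i _ => sum_congr rfl (fun j _ => ?_))
    rw [smul_mul_smul_comm]
  have h2 : EE k p (x + y) = ∑ n ∈ range p, ∑ m ∈ antidiagonal n, F m.1 m.2 := by
    rw [EE]
    refine sum_congr rfl (fun n hn => ?_)
    rw [mem_range] at hn
    rw [h.add_pow', smul_sum]
    refine sum_congr rfl (fun m hm => ?_)
    rw [HasAntidiagonal.mem_antidiagonal] at hm
    rw [← Nat.cast_smul_eq_nsmul k, smul_smul]
    simp only [F]
    congr 1
    have h3 : m.1 ≤ n := by omega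
    have h4 : n - m.1 = m.2 := by omega
    have h5 := Nat.choose_mul_factorial_mul_factorial h3
    rw [h4] at h5
    have h6 : (n.choose m.1 : k) * (m.1.factorial : k) * (m.2.factorial : k) = (n.factorial : k) := by
      exact_mod_cast congrArg (Nat.cast : ℕ → k) h5
    have h7 := factorial_ne (k := k) (p := p) hn
    have h8 := factorial_ne (k := k) (p := p) (i := m.1) (by omega)
    have h9 := factorial_ne (k := k) (p := p) (i := m.2) (by omega)
    field_simp
    linear_combination h6
  rw [h1, h2]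
  -- compare the two sums
  rw [← sum_product' (f := F)]
  have h3 : ∑ m ∈ range p ×ˢ range p, F m.1 m.2 =
      ∑ m ∈ (range p ×ˢ range p).filter (fun m => m.1 + m.2 < p), F m.1 m.2 := by
    symm
    apply sum_filter_of_ne
    intro m _ hm
    by_contra hlt
    apply hm
    simp only [F]
    rw [hzero _ _ (by omega), smul_zero]
  have h4 : ∀ m ∈ (range p ×ˢ range p).filter (fun m => m.1 + m.2 < p), m.1 + m.2 ∈ range p := by
    intro m hm
    rw [mem_filter] at hm
    exact mem_range.2 hm.2
  rw [h3, ← sum_fiberwise_of_maps_to h4]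
  refine sum_congr rfl (fun n hn => sum_congr ?_ (fun _ _ => rfl))
  rw [mem_range] at hn
  ext m
  rw [HasAntidiagonal.mem_antidiagonal, mem_filter, mem_filter, mem_product, mem_range, mem_range]
  omega

theorem EE_nsmul {x : A} {r : ℕ} (hx : x ^ r = 0) (hr : 2 * r ≤ p + 1) (m : ℕ) :
    EE k p (m • x) = EE k p x ^ m := by
  induction m with
  | zero => rw [zero_smul, EE_zero, pow_zero]
  | succ m ih =>
    rw [succ_nsmul, EE_add (r := r) ((Commute.refl x).smul_left m) (by rw [_root_.smul_pow, hx, smul_zero]) hx hr, ih,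
      pow_succ]

theorem EE_commute {x y : A} (h : Commute x y) : Commute (EE k p x) y := by
  apply Commute.sum_left
  intro i _
  exact (h.pow_left i).smul_left _

/-- the exponential is `1 + x` times a unipotent element -/
theorem EE_eq (hp1 : 1 < p) (x : A) : ∃ w : A, Commute w x ∧ EE k p x = 1 + x * (1 + x * w) := by
  obtain ⟨q, hq⟩ : ∃ q, p = q + 2 := ⟨p - 2, by omega⟩
  refine ⟨∑ i ∈ range q, (((i + 2).factorial : k)⁻¹) • x ^ i, ?_, ?_⟩
  · apply Commute.sum_left
    intro i _
    exact ((Commute.refl x).pow_left i).smul_left _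
  · have h1 : EE k p x = ∑ i ∈ range (q + 2), ((i.factorial : k)⁻¹) • x ^ i := by
      rw [EE, hq]
    rw [h1, sum_range_succ', sum_range_succ']
    simp only [Nat.factorial, zero_add, Nat.cast_one, inv_one, one_smul, pow_zero, pow_one, mul_one]
    rw [mul_add, mul_one, mul_sum, mul_sum]
    have h2 : ∀ i ∈ range q, (((((i + 1 + 1) * ((i + 1) * i.factorial) : ℕ) : k))⁻¹) • x ^ (i + 1 + 1) =
        x * (x * ((((((i + 1 + 1) * ((i + 1) * i.factorial) : ℕ) : k))⁻¹) • x ^ i)) := by
      intro i _
      rw [mul_smul_comm, mul_smul_comm, ← pow_succ', ← pow_succ']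
    rw [sum_congr rfl h2]
    abel

theorem EE_eq_one {x : A} (hx : IsNilpotent x) (h : EE k p x = 1) : x = 0 := by
  obtain ⟨w, hw, h1⟩ := EE_eq (k := k) (p := p) hp.out.one_lt x
  rw [h] at h1
  have h2 : x * (1 + x * w) = 0 := by
    have := h1.symm
    rwa [add_eq_left] at this
  have h3 : IsUnit (1 + x * w) := by
    apply IsNilpotent.isUnit_one_add
    exact (hw.symm).isNilpotent_mul_right hx
  exact (h3.mul_left_eq_zero).1 h2

theorem EE_inj {x y : A} (h : Commute x y) {r : ℕ} (hx : x ^ r = 0) (hy : y ^ r = 0)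
    (hr : 2 * r ≤ p + 1) (he : EE k p x = EE k p y) : x = y := by
  have hy' : (-y) ^ r = 0 := by rw [neg_pow, hy, mul_zero]
  have h1 := EE_add (k := k) (p := p) (h.neg_right) hx hy' hr
  have h2 := EE_add (k := k) (p := p) ((Commute.refl y).neg_right) hy hy' hr
  rw [add_neg_cancel, EE_zero] at h2
  rw [he, ← h2] at h1
  have h3 : IsNilpotent (x + -y) := by
    apply Commute.isNilpotent_add h.neg_right
    · exact ⟨r, hx⟩
    · exact ⟨r, hy'⟩
  have h4 := EE_eq_one h3 h1
  exact eq_of_sub_eq_zero (by rw [sub_eq_add_neg]; exact h4)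

/-- truncated logarithm -/
theorem exists_log_poly (n : ℕ) : ∃ f : k[X], X ∣ f ∧ X ^ n ∣ EE k p f - (1 + X) := by
  induction n with
  | zero => exact ⟨0, dvd_zero _, by rw [pow_zero]; exact one_dvd _⟩
  | succ n ih =>
    rcases Nat.eq_zero_or_pos n with hn | hn
    · subst hn
      refine ⟨0, dvd_zero _, ?_⟩
      rw [EE_zero, zero_add, pow_one]
      exact ⟨-1, by ring⟩
    obtain ⟨f, hf, g, hg⟩ := ih
    set δ : k[X] := -(X ^ n * g) with hδ
    have hXδ : X ∣ δ := by
      rw [hδ, dvd_neg]
      exact (dvd_pow_self X hn.ne').mul_right g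
    refine ⟨f + δ, dvd_add hf hXδ, ?_⟩
    have h1 : EE k p (f + δ) - (1 + X) = (EE k p (f + δ) - EE k p f - δ) := by
      have : δ = -(EE k p f - (1 + X)) := by rw [hg, hδ]
      rw [this]; ring
    rw [h1]
    have h2 : EE k p (f + δ) - EE k p f - δ = ∑ i ∈ range p,
        ((i.factorial : k)⁻¹) • ((f + δ) ^ i - f ^ i - if i = 1 then δ else 0) := by
      simp only [smul_sub, sum_sub_distrib]
      rw [EE, EE]
      congr 1
      rw [sum_eq_single 1]
      · simp
      · intro i _ hi
        rw [if_neg hi, smul_zero]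
      · intro h
        exact absurd (mem_range.2 hp.out.one_lt) h
    rw [h2]
    apply dvd_sum
    intro i _
    rw [smul_eq_C_mul]
    apply Dvd.dvd.mul_left
    have hδn : X ^ (n + 1) ∣ δ ^ 2 := by
      have : X ^ n ∣ δ := by rw [hδ, dvd_neg]; exact Dvd.intro _ rfl
      have h3 := pow_dvd_pow_of_dvd this 2
      rw [← pow_mul] at h3
      exact (pow_dvd_pow X (by omega)).trans h3
    rcases i with _ | _ | i
    · simp
    · simp
    · rw [if_neg (by omega), sub_zero]
      obtain ⟨z, hz⟩ := Polynomial.powAddExpansion f δ (i + 1 + 1)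
      rw [hz]
      have h3 : f ^ (i + 1 + 1) + ((i + 1 + 1 : ℕ) : k[X]) * f ^ (i + 1 + 1 - 1) * δ + z * δ ^ 2 -
          f ^ (i + 1 + 1) = ((i + 1 + 1 : ℕ) : k[X]) * f ^ i * (f * δ) + z * δ ^ 2 := by
        rw [show i + 1 + 1 - 1 = i + 1 by omega, pow_succ]
        ring
      rw [h3]
      apply dvd_add
      · apply Dvd.dvd.mul_left
        rw [pow_succ, mul_comm (X ^ n)]
        apply mul_dvd_mul hf
        rw [hδ, dvd_neg]
        exact Dvd.intro _ rfl
      · exact hδn.mul_left z

variable (k p) in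
theorem exists_log {s : A} {n : ℕ} (hs : s ^ n = 0) : ∃ f : k[X], X ∣ f ∧ EE k p (aeval s f) = 1 + s := by
  obtain ⟨f, hf, g, hg⟩ := exists_log_poly (k := k) (p := p) n
  refine ⟨f, hf, ?_⟩
  rw [← EE_map k p (aeval s) f]
  have h1 : EE k p f = (1 + X) + X ^ n * g := by rw [← hg]; ring
  rw [h1, map_add, map_add, map_one, aeval_X, map_mul, map_pow, aeval_X, hs, zero_mul, add_zero]

end EE

end H67.Mod
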