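import Mathlib

set_option autoImplicit false
set_option linter.unusedSectionVars false

/-! `sl₂`-triples attached to a nilpotent endomorphism with Jordan blocks of equal size. -/

namespace H67.Mod

open Finset

variable {k : Type*} [Field k] {V : Type*} [AddCommGroup V] [Module k V]

section free

variable {x : Module.End k V} {r : ℕ} (hx : x ^ (r + 1) = 0)
  (hker : ∀ v, x v = 0 → v ∈ LinearMap.range (x ^ r))

include hx hker in
theorem ker_pow_le (j : ℕ) (hj : j ≤ r + 1) (v : V) (hv : (x ^ j) v = 0) :
    v ∈ LinearMap.range (x ^ (r + 1 - j)) := by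
  induction j generalizing v with
  | zero =>
    rw [pow_zero, Module.End.one_apply] at hv
    rw [hv]
    exact Submodule.zero_mem _
  | succ j ih =>
    rw [pow_succ', Module.End.mul_apply] at hv
    obtain ⟨w, hw⟩ := hker _ hv
    have h1 : (x ^ j) (v - (x ^ (r - j)) w) = 0 := by
      rw [map_sub, ← Module.End.mul_apply, ← pow_add, show j + (r - j) = r by omega, hw, sub_self]
    obtain ⟨w', hw'⟩ := ih (by omega) _ h1
    refine ⟨w + x w', ?_⟩
    rw [show r + 1 - (j + 1) = r - j by omega, map_add, ← Module.End.mul_apply, ← pow_succ,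
      show r - j + 1 = r + 1 - j by omega, hw']
    abel

variable (x r) in
/-- the graded vectors -/
def gvec {m : ℕ} (b : Fin m → V) (a : Fin (r + 1) × Fin m) : V := (x ^ (a.1 : ℕ)) (b a.2)

include hx hker in
theorem exists_gbasis [Module.Finite k V] : ∃ (m : ℕ) (b : Fin m → V)
    (B : Module.Basis (Fin (r + 1) × Fin m) k V), (⇑B = gvec x r b) := by
  obtain ⟨U, hU⟩ := Submodule.exists_isCompl (LinearMap.range x)
  let bU := Module.finBasis k U
  let b : Fin (Module.finrank k U) → V := fun j => (bU j : V)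
  have hsum : ∀ v : V, ∃ u ∈ U, ∃ w, v = u + x w := by
    intro v
    have h1 : v ∈ U ⊔ LinearMap.range x := by
      rw [sup_comm, hU.sup_eq_top]; trivial
    obtain ⟨u, hu, _, ⟨w, rfl⟩, h⟩ := Submodule.mem_sup.1 h1
    exact ⟨u, hu, w, h.symm⟩
  have hUspan : ∀ u ∈ U, ∀ i ≤ r, (x ^ i) u ∈ Submodule.span k (Set.range (gvec x r b)) := by
    intro u hu i hi
    have h1 := bU.sum_repr ⟨u, hu⟩
    have h2 : u = ∑ j, bU.repr ⟨u, hu⟩ j • b j := by
      have h3 := congrArg Subtype.val h1
      rw [Submodule.coe_sum] at h3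
      exact h3.symm
    rw [h2, map_sum]
    apply Submodule.sum_mem
    intro j _
    rw [map_smul]
    apply Submodule.smul_mem
    apply Submodule.subset_span
    exact ⟨(⟨i, by omega⟩, j), rfl⟩
  have hsp : ∀ n ≤ r + 1, ∀ v : V, ∃ s ∈ Submodule.span k (Set.range (gvec x r b)), ∃ w, v - s = (x ^ n) w := by
    intro n
    induction n with
    | zero =>
      intro _ v
      exact ⟨0, Submodule.zero_mem _, v, by simp⟩
    | succ n ih =>
      intro hn v
      obtain ⟨s, hs, w, hw⟩ := ih (by omega) v
      obtain ⟨u, hu, w', hw'⟩ := hsum w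
      refine ⟨s + (x ^ n) u, Submodule.add_mem _ hs (hUspan u hu n (by omega)), w', ?_⟩
      rw [pow_succ, Module.End.mul_apply, ← sub_sub, hw, hw', map_add]
      abel
  have hspan : ⊤ ≤ Submodule.span k (Set.range (gvec x r b)) := by
    intro v _
    obtain ⟨s, hs, w, hw⟩ := hsp (r + 1) le_rfl v
    rw [hx, LinearMap.zero_apply, sub_eq_zero] at hw
    rw [hw]; exact hs
  have hli : LinearIndependent k (gvec x r b) := by
    rw [Fintype.linearIndependent_iff]
    intro g hg
    let u : Fin (r + 1) → U := fun i => ∑ j, g (i, j) • bU j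
    have hu : ∀ i, (u i : V) = ∑ j, g (i, j) • b j := by
      intro i
      simp only [u]
      rw [Submodule.coe_sum]
      rfl
    have hg' : ∑ i : Fin (r + 1), (x ^ (i : ℕ)) (u i : V) = 0 := by
      rw [← hg, Fintype.sum_prod_type]
      refine sum_congr rfl (fun i _ => ?_)
      rw [hu, map_sum]
      refine sum_congr rfl (fun j _ => ?_)
      rw [map_smul]
      rfl
    have hzero : ∀ n : ℕ, ∀ hn : n < r + 1, u ⟨n, hn⟩ = 0 := by
      intro n
      induction n using Nat.strong_induction_on with
      | _ n ih =>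
        intro hn
        have h1 : (x ^ (r - n)) (∑ i : Fin (r + 1), (x ^ (i : ℕ)) (u i : V)) = 0 := by
          rw [hg', map_zero]
        rw [map_sum, Finset.sum_eq_single (⟨n, hn⟩ : Fin (r + 1))] at h1
        · rw [← Module.End.mul_apply, ← pow_add, show r - n + ((⟨n, hn⟩ : Fin (r + 1)) : ℕ) = r by
            simp only; omega] at h1
          have h2 := ker_pow_le hx hker r (by omega) _ h1
          rw [show r + 1 - r = 1 by omega, pow_one] at h2
          have h3 : (u ⟨n, hn⟩ : V) ∈ LinearMap.range x ⊓ U := ⟨h2, (u ⟨n, hn⟩).2⟩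
          rw [hU.inf_eq_bot, Submodule.mem_bot] at h3
          exact Subtype.ext h3
        · intro i _ hi
          rcases lt_or_gt_of_ne (fun h : (i : ℕ) = n => hi (Fin.ext h)) with h2 | h2
          · have h3 := ih i h2 i.2
            have h4 : u i = 0 := h3
            rw [h4]
            simp
          · rw [← Module.End.mul_apply, ← pow_add, show r - n + (i : ℕ) = (r + 1) + (i - n - 1) by omega,
              pow_add, hx, zero_mul, LinearMap.zero_apply]
        · intro h; exact absurd (mem_univ _) h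
    rintro ⟨i, j⟩
    have h1 := hzero i i.2
    have h2 : ∑ j, g (i, j) • bU j = 0 := h1
    exact (Fintype.linearIndependent_iff.1 bU.linearIndependent) _ h2 j
  exact ⟨_, b, Module.Basis.mk hli hspan, Module.Basis.coe_mk hli hspan⟩

end free

/-- existence of the triple -/
theorem exists_triple [Module.Finite k V] {x : Module.End k V} {r : ℕ} (hx : x ^ (r + 1) = 0)
    (hker : ∀ v, x v = 0 → v ∈ LinearMap.range (x ^ r)) :
    ∃ (h y : Module.End k V) (m : ℕ), x * y - y * x = h ∧ h * x - x * h = (2 : k) • x ∧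
      h * y - y * h = (-2 : k) • y ∧ (r + 1) * m = Module.finrank k V ∧
      LinearMap.trace k V (x * y) = (m : k) * ∑ i ∈ range (r + 1), ((i : k) * ((r + 1 : ℕ) - (i : k))) := by
  classical
  obtain ⟨m, b, B, hB⟩ := exists_gbasis hx hker
  let y : Module.End k V := B.constr k (fun a => (((a.1 : ℕ) : k) * (((r + 1 : ℕ) : k) - ((a.1 : ℕ) : k))) •
    (x ^ ((a.1 : ℕ) - 1)) (b a.2))
  let h : Module.End k V := B.constr k (fun a => ((2 : k) * ((a.1 : ℕ) : k) - (r : k)) • (x ^ (a.1 : ℕ)) (b a.2))
  have hBv : ∀ a : Fin (r + 1) × Fin m, B a = (x ^ (a.1 : ℕ)) (b a.2) := fun a => by rw [hB]; rfl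
  have hyB : ∀ (i : ℕ) (j : Fin m), i ≤ r + 1 → y ((x ^ i) (b j)) =
      ((i : k) * (((r + 1 : ℕ) : k) - (i : k))) • (x ^ (i - 1)) (b j) := by
    intro i j hi
    by_cases hi' : i = r + 1
    · rw [hi', hx, LinearMap.zero_apply, map_zero, sub_self, mul_zero, zero_smul]
    · have h1 := hBv (⟨i, by omega⟩, j)
      simp only at h1
      rw [← h1]
      simp only [y]
      rw [Module.Basis.constr_basis]
  have hhB : ∀ (i : ℕ) (j : Fin m), i ≤ r + 1 → h ((x ^ i) (b j)) =
      ((2 : k) * (i : k) - (r : k)) • (x ^ i) (b j) := by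
    intro i j hi
    by_cases hi' : i = r + 1
    · rw [hi', hx, LinearMap.zero_apply, map_zero, smul_zero]
    · have h1 := hBv (⟨i, by omega⟩, j)
      simp only at h1
      rw [← h1]
      simp only [h]
      rw [Module.Basis.constr_basis, h1]
  refine ⟨h, y, m, ?_, ?_, ?_, ?_, ?_⟩
  · apply B.ext
    rintro ⟨⟨i, hi⟩, j⟩
    rw [LinearMap.sub_apply, Module.End.mul_apply, Module.End.mul_apply, hBv]
    simp only
    rw [hyB i j (by omega), hhB i j (by omega), ← Module.End.mul_apply x, ← pow_succ', hyB (i + 1) j (by omega),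
      map_smul, ← Module.End.mul_apply x, ← pow_succ', Nat.add_sub_cancel, ]
    rcases Nat.eq_zero_or_pos i with h0 | h0
    · subst h0
      rw [Nat.cast_zero, zero_mul, zero_smul, zero_sub, ← neg_smul]
      congr 1
      push_cast; ring
    · rw [show i - 1 + 1 = i by omega, ← sub_smul]
      congr 1
      push_cast; ring
  · apply B.ext
    rintro ⟨⟨i, hi⟩, j⟩
    rw [LinearMap.sub_apply, Module.End.mul_apply, Module.End.mul_apply, hBv, LinearMap.smul_apply]
    simp only
    rw [← Module.End.mul_apply x, ← pow_succ', hhB (i + 1) j (by omega), hhB i j (by omega), map_smul,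
      ← Module.End.mul_apply x, ← pow_succ', ← sub_smul]
    congr 1
    push_cast; ring
  · apply B.ext
    rintro ⟨⟨i, hi⟩, j⟩
    rw [LinearMap.sub_apply, Module.End.mul_apply, Module.End.mul_apply, hBv, LinearMap.smul_apply]
    simp only
    rw [hhB i j (by omega), hyB i j (by omega), map_smul, map_smul, hhB (i - 1) j (by omega),
      hyB i j (by omega), smul_smul, smul_smul, smul_smul, ← sub_smul]
    rcases Nat.eq_zero_or_pos i with h0 | h0
    · subst h0
      simp
    · congr 1
      rw [Nat.cast_sub (by omega)]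
      push_cast; ring
  · have h1 := Module.finrank_eq_card_basis B
    rw [h1, Fintype.card_prod, Fintype.card_fin, Fintype.card_fin]
  · rw [LinearMap.trace_eq_matrix_trace k B, Matrix.trace]
    have h1 : ∀ a : Fin (r + 1) × Fin m, Matrix.diag (LinearMap.toMatrix B B (x * y)) a =
        (((a.1 : ℕ) : k) * (((r + 1 : ℕ) : k) - ((a.1 : ℕ) : k))) := by
      rintro ⟨⟨i, hi⟩, j⟩
      rw [Matrix.diag_apply, LinearMap.toMatrix_apply, Module.End.mul_apply, hBv]
      simp only
      rw [hyB i j (by omega), map_smul, ← Module.End.mul_apply x, ← pow_succ']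
      rcases Nat.eq_zero_or_pos i with h0 | h0
      · subst h0
        simp
      · rw [show i - 1 + 1 = i by omega]
        have h2 := hBv (⟨i, hi⟩, j)
        simp only at h2
        rw [← h2, map_smul, Module.Basis.repr_self, Finsupp.smul_apply, Finsupp.single_eq_same, smul_eq_mul,
          mul_one]
    rw [Finset.sum_congr rfl (fun a _ => h1 a), Fintype.sum_prod_type]
    simp only [sum_const, card_univ, Fintype.card_fin, nsmul_eq_mul]
    rw [← mul_sum, Fin.sum_univ_eq_sum_range (fun i => (i : k) * (((r + 1 : ℕ) : k) - (i : k)))]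

/-- the value of the sum -/
theorem six_mul_sum (r : ℕ) : (6 : k) * ∑ i ∈ range (r + 1), ((i : k) * ((r + 1 : ℕ) - (i : k))) =
    (r : k) * (r + 1) * (r + 2) := by
  have h1 : ∀ n : ℕ, (6 : k) * ∑ i ∈ range (n + 1), ((i : k) * ((r + 1 : ℕ) - (i : k))) =
      (n : k) * (n + 1) * (3 * (r + 1) - (2 * n + 1)) := by
    intro n
    induction n with
    | zero => simp
    | succ n ih =>
      rw [sum_range_succ, mul_add, ih]
      push_cast
      ring
  rw [h1]
  ring

end H67.Mod
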