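import Mathlib
import Cfsg.Agent.Lib.H67.Mod2
import Cfsg.Agent.Lib.H67.Mod3
import Cfsg.Agent.Lib.H67.Mod4

set_option autoImplicit false
set_option linter.unusedSectionVars false

/-! The `sl₂`-triple in the endomorphism algebra of a small irreducible modular representation. -/

namespace H67.Mod

open Finset H67.Lat

variable {k : Type*} [Field k] {p : ℕ} [hp : Fact p.Prime] [CharP k p]
variable {V : Type*} [AddCommGroup V] [Module k V]
variable {G : Type*} [Group G] [Finite G]

/-- conjugation by `ρ g` as an algebra endomorphism -/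
def cjA (ρ : Representation k G V) (g : G) : Module.End k V →ₐ[k] Module.End k V where
  toFun a := ρ g * a * ρ g⁻¹
  map_one' := by rw [mul_one, rho_mul_inv]
  map_mul' a b := by
    calc ρ g * (a * b) * ρ g⁻¹ = ρ g * a * 1 * b * ρ g⁻¹ := by rw [mul_one]; simp only [mul_assoc]
      _ = _ := by rw [← rho_inv_mul ρ g]; simp only [mul_assoc]
  map_zero' := by rw [mul_zero, zero_mul]
  map_add' a b := by rw [mul_add, add_mul]
  commutes' c := by
    rw [← Algebra.commutes, mul_assoc, rho_mul_inv, mul_one]

theorem cjA_apply (ρ : Representation k G V) (g : G) (a : Module.End k V) : cjA ρ g a = ρ g * a * ρ g⁻¹ := rfl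

theorem cjA_rho (ρ : Representation k G V) (g h : G) : cjA ρ g (ρ h) = ρ (g * h * g⁻¹) := by
  rw [cjA_apply, map_mul, map_mul]

theorem exists_data [IsAlgClosed k] [Module.Finite k V] [Nontrivial V] (ρ : Representation k G V)
    (hirr : ∀ U : Submodule k V, (∀ g, ∀ v ∈ U, ρ g v ∈ U) → U = ⊥ ∨ U = ⊤)
    {σ : G} (hσ : orderOf σ = p) (hp2 : ¬ p ^ 2 ∣ Nat.card G) (hdim : 2 * Module.finrank k V < p)
    (hne : ρ σ ≠ 1) :
    ∃ (x h y : Module.End k V) (r : ℕ), x ^ (r + 1) = 0 ∧ 2 * (r + 1) < p ∧ EE k p x = ρ σ ∧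
      (∀ g ∈ Subgroup.normalizer (Subgroup.zpowers σ : Set G), ∃ c : k, cjA ρ g x = c • x) ∧
      x * y - y * x = h ∧ h * x - x * h = (2 : k) • x ∧ h * y - y * h = (-2 : k) • y ∧
      LinearMap.trace k V (x * y) ≠ 0 := by
  classical
  set s := ρ σ - 1 with hs
  have hs0 : s ≠ 0 := sub_ne_zero.2 hne
  have hnil : s ^ (Module.finrank k V) = 0 := sub_one_pow_finrank ρ hσ
  -- the size of the blocks
  obtain ⟨r, hr, hr0⟩ : ∃ r, s ^ (r + 1) = 0 ∧ s ^ r ≠ 0 := by
    have hex : ∃ n, s ^ n = 0 := ⟨_, hnil⟩
    have h1 := Nat.find_spec hex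
    have h2 : Nat.find hex ≠ 0 := by
      intro h
      rw [h, pow_zero] at h1
      apply hs0
      rw [← one_mul s, h1, zero_mul]
    refine ⟨Nat.find hex - 1, ?_, ?_⟩
    · rw [Nat.sub_add_cancel (Nat.pos_of_ne_zero h2)]
      exact h1
    · exact Nat.find_min hex (Nat.sub_lt (Nat.pos_of_ne_zero h2) one_pos)
  have hrpos : 0 < r := by
    rcases Nat.eq_zero_or_pos r with h | h
    · rw [h, zero_add, pow_one] at hr
      exact absurd hr hs0
    · exact h
  obtain ⟨f, ⟨f', hf⟩, hEx⟩ := exists_log k p hr
  set x := Polynomial.aeval s f with hx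
  set u := Polynomial.aeval s f' with hu
  have hxs : x = s * u := by rw [hx, hf, map_mul, Polynomial.aeval_X]
  have hcomm : ∀ g : Polynomial k, Commute (Polynomial.aeval s g) s := by
    intro g
    have h1 := Commute.all g (Polynomial.X : Polynomial k)
    have h2 := h1.map (Polynomial.aeval s)
    rwa [Polynomial.aeval_X] at h2
  have hus : Commute u s := hcomm f'
  have hxs' : Commute x s := hcomm f
  have hx1 : x ^ (r + 1) = 0 := by
    rw [hxs, hus.symm.mul_pow, hr, zero_mul]
  have hEx' : EE k p x = ρ σ := by rw [hEx, hs]; abel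
  obtain ⟨w, hw, hw2⟩ := EE_eq (k := k) (p := p) hp.out.one_lt x
  have hsx : s = x * (1 + x * w) := by
    have h1 : 1 + s = 1 + x * (1 + x * w) := by rw [← hEx, hw2]
    exact add_left_cancel h1
  have hxw : Commute (1 + x * w) x :=
    (Commute.one_left x).add_left ((Commute.refl x).mul_left hw)
  have hker : ∀ v, x v = 0 → v ∈ LinearMap.range (x ^ r) := by
    intro v hv
    have h1 : ρ σ v = v := by
      have h2 : s v = 0 := by
        rw [hsx, ← hxw.eq, Module.End.mul_apply, hv, map_zero]
      rw [hs, LinearMap.sub_apply, Module.End.one_apply, sub_eq_zero] at h2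
      exact h2
    obtain ⟨z, hz⟩ := equal_blocks ρ hirr hσ hp2 (by omega) hr hr0 h1
    refine ⟨((1 + x * w) ^ r) z, ?_⟩
    rw [← hz, ← hs, ← Module.End.mul_apply, ← hxw.symm.mul_pow, ← hsx]
  obtain ⟨h, y, m, e1, e2, e3, e4, e5⟩ := exists_triple hx1 hker
  have hm : m ≠ 0 := by
    rintro rfl
    rw [mul_zero] at e4
    exact Module.finrank_pos.ne e4
  have hrm : r + 1 ≤ Module.finrank k V := by
    rw [← e4]
    exact Nat.le_mul_of_pos_right _ (Nat.pos_of_ne_zero hm)
  have hmm : m ≤ Module.finrank k V := by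
    rw [← e4]
    exact Nat.le_mul_of_pos_left _ (Nat.succ_pos r)
  have hcast : ∀ n : ℕ, n ≠ 0 → n < p → (n : k) ≠ 0 := by
    intro n hn hnp hn0
    have h2 := (CharP.cast_eq_zero_iff k p n).1 hn0
    have h3 := Nat.le_of_dvd (Nat.pos_of_ne_zero hn) h2
    omega
  refine ⟨x, h, y, r, hx1, by omega, hEx', ?_, e1, e2, e3, ?_⟩
  · intro g hg
    obtain ⟨n, hn⟩ := mem_powers_iff_mem_zpowers.2
      ((Subgroup.mem_normalizer_iff.1 hg σ).1 (Subgroup.mem_zpowers σ))
    have hn : σ ^ n = g * σ * g⁻¹ := hn
    refine ⟨n, ?_⟩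
    rw [Nat.cast_smul_eq_nsmul]
    apply EE_inj (k := k) (p := p) (r := r + 1)
    · -- commute
      apply Commute.smul_right
      have h1 : cjA ρ g x = Polynomial.aeval (cjA ρ g s) f := by
        rw [hx, Polynomial.aeval_algHom_apply]
      have h2 : cjA ρ g s = (ρ σ) ^ n - 1 := by
        rw [hs, map_sub, map_one, cjA_rho, ← hn, map_pow]
      have h3 : Commute (cjA ρ g s) s := by
        rw [h2, hs]
        exact (((Commute.refl (ρ σ)).pow_left n).sub_left (Commute.one_left _)).sub_right (Commute.one_right _)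
      have h4 : ∀ (F : Polynomial k) (z : Module.End k V), Commute (cjA ρ g s) z →
          Commute (Polynomial.aeval (cjA ρ g s) F) z := by
        intro F z hz
        induction F using Polynomial.induction_on' with
        | add a b ha hb => rw [map_add]; exact ha.add_left hb
        | monomial i a =>
          rw [Polynomial.aeval_monomial]
          exact (Algebra.commute_algebraMap_left a z).mul_left (hz.pow_left i)
      have h5 : ∀ (F : Polynomial k) (z : Module.End k V), Commute s z →
          Commute (Polynomial.aeval s F) z := by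
        intro F z hz
        induction F using Polynomial.induction_on' with
        | add a b ha hb => rw [map_add]; exact ha.add_left hb
        | monomial i a =>
          rw [Polynomial.aeval_monomial]
          exact (Algebra.commute_algebraMap_left a z).mul_left (hz.pow_left i)
      rw [h1]
      apply h4
      exact (h5 f _ h3.symm).symm
    · rw [← map_pow, hx1, map_zero]
    · rw [_root_.smul_pow, hx1, smul_zero]
    · omega
    · rw [← EE_map k p (cjA ρ g), hEx', cjA_rho, ← hn, map_pow, ← hEx']
      exact (EE_nsmul (k := k) (p := p) hx1 (by omega) n).symm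
  · rw [e5]
    apply mul_ne_zero
    · exact hcast m hm (by omega)
    · intro h0
      have h1 := six_mul_sum (k := k) r
      rw [h0, mul_zero] at h1
      have h2 : (r : k) * (r + 1) * (r + 2) = ((r * (r + 1) * (r + 2) : ℕ) : k) := by push_cast; ring
      rw [h2] at h1
      have h3 := (CharP.cast_eq_zero_iff k p _).1 h1.symm
      rcases (Nat.Prime.dvd_mul hp.out).1 h3 with h4 | h4
      · rcases (Nat.Prime.dvd_mul hp.out).1 h4 with h5 | h5
        · have := Nat.le_of_dvd hrpos h5
          omega
        · have := Nat.le_of_dvd (by omega) h5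
          omega
      · have := Nat.le_of_dvd (by omega) h4
        omega

end H67.Mod
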