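import Mathlib
import Cfsg.Agent.Lib.H67.Mod5

set_option autoImplicit false
set_option linter.unusedSectionVars false

/-! The exponential of the nilpotent element of an `sl₂`-triple. -/

namespace H67.Mod

open Finset H67.Lat

section rel

variable {k : Type*} [Field k] {A : Type*} [Ring A] [Algebra k A] {x h y : A}
  (e1 : x * y - y * x = h) (e2 : h * x - x * h = (2 : k) • x)

include e2 in
theorem pow_mul_h (n : ℕ) : x ^ n * h = h * x ^ n - (2 * n : k) • x ^ n := by
  have e2' : x * h = h * x - (2 : k) • x := by rw [← e2]; abel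
  induction n with
  | zero => simp
  | succ n ih =>
    rw [pow_succ', mul_assoc, ih, mul_sub, ← mul_assoc, e2', sub_mul, mul_smul_comm, smul_mul_assoc,
      mul_assoc, sub_sub, ← add_smul]
    congr 2
    push_cast
    ring

include e1 e2 in
theorem pow_mul_y (n : ℕ) : x ^ (n + 1) * y = y * x ^ (n + 1) + ((n + 1 : ℕ) : k) • (h * x ^ n) -
    (((n + 1) * n : ℕ) : k) • x ^ n := by
  have e1' : x * y = y * x + h := by rw [← e1]; abel
  induction n with
  | zero => simp [e1']
  | succ n ih =>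
    have h1 : x ^ (n + 1 + 1) * y = x * (x ^ (n + 1) * y) := by rw [pow_succ' x (n + 1), mul_assoc]
    rw [h1, ih, mul_sub, mul_add, mul_smul_comm, mul_smul_comm, ← mul_assoc x y, e1', add_mul,
      ← pow_succ' x n, mul_assoc y, ← pow_succ', ← mul_assoc x h]
    have h2 : x * h = h * x - (2 : k) • x := by rw [← e2]; abel
    rw [h2, sub_mul, mul_assoc h x, smul_mul_assoc, ← pow_succ', smul_sub, smul_smul]
    have h3 : (((n + 1 + 1 : ℕ) : k)) • (h * x ^ (n + 1)) = ((n + 1 : ℕ) : k) • (h * x ^ (n + 1)) +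
        h * x ^ (n + 1) := by
      push_cast
      rw [add_smul _ (1 : k), one_smul]
    have h4 : ((((n + 1 + 1) * (n + 1) : ℕ) : k)) • x ^ (n + 1) =
        ((((n + 1 : ℕ) : k)) * 2) • x ^ (n + 1) + (((n + 1) * n : ℕ) : k) • x ^ (n + 1) := by
      rw [← add_smul]
      congr 1
      push_cast
      ring
    rw [h3, h4]
    abel

variable {p : ℕ} [hp : Fact p.Prime] [CharP k p] {r : ℕ} (hx : x ^ (r + 1) = 0) (hr : r + 3 ≤ p)

include hx hr in
theorem sum_n_smul : ∑ n ∈ range p, ((n.factorial : k)⁻¹ * (n : k)) • x ^ n = x * EE k p x := by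
  obtain ⟨q, hq⟩ : ∃ q, p = q + 1 := ⟨p - 1, by omega⟩
  have h1 : x ^ q = 0 := by
    rw [show q = (r + 1) + (q - (r + 1)) by omega, pow_add, hx, zero_mul]
  have h2 : EE k p x = ∑ i ∈ range q, ((i.factorial : k)⁻¹) • x ^ i := by
    rw [EE, hq, sum_range_succ, h1, smul_zero, add_zero]
  rw [h2, mul_sum]
  have h3 : ∑ n ∈ range p, ((n.factorial : k)⁻¹ * (n : k)) • x ^ n =
      ∑ n ∈ range (q + 1), ((n.factorial : k)⁻¹ * (n : k)) • x ^ n := by rw [hq]
  rw [h3, sum_range_succ']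
  simp only [Nat.cast_zero, mul_zero, zero_smul, add_zero]
  refine sum_congr rfl (fun n hn => ?_)
  rw [mem_range] at hn
  rw [mul_smul_comm, ← pow_succ']
  congr 1
  have h4 : ((n + 1 : ℕ) : k) ≠ 0 := by
    intro h0
    have := Nat.le_of_dvd (Nat.succ_pos n) ((CharP.cast_eq_zero_iff k p _).1 h0)
    omega
  rw [Nat.factorial_succ, Nat.cast_mul, mul_inv, mul_comm, ← mul_assoc, mul_inv_cancel₀ h4, one_mul]

include e2 hx hr in
theorem E_h : EE k p x * h = (h - (2 : k) • x) * EE k p x := by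
  have h1 : EE k p x * h = h * EE k p x - (2 : k) • ∑ n ∈ range p, ((n.factorial : k)⁻¹ * (n : k)) • x ^ n := by
    rw [EE, sum_mul, mul_sum, smul_sum, ← sum_sub_distrib]
    refine sum_congr rfl (fun n _ => ?_)
    rw [smul_mul_assoc, pow_mul_h e2, smul_sub, mul_smul_comm, smul_smul, smul_smul]
    congr 2
    ring
  rw [h1, sum_n_smul hx hr, sub_mul, smul_mul_assoc]

include e1 e2 hx hr in
theorem E_y : EE k p x * y = (y + h - x) * EE k p x := by
  obtain ⟨q, hq⟩ : ∃ q, p = q + 2 := ⟨p - 2, by omega⟩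
  have h1 : x ^ q = 0 := by
    rw [show q = (r + 1) + (q - (r + 1)) by omega, pow_add, hx, zero_mul]
  have h1' : x ^ (q + 1) = 0 := by rw [pow_succ, h1, zero_mul]
  have h2 : EE k p x = ∑ i ∈ range (q + 1), ((i.factorial : k)⁻¹) • x ^ i := by
    rw [EE, hq, sum_range_succ, h1', smul_zero, add_zero]
  have h2' : EE k p x = ∑ i ∈ range q, ((i.factorial : k)⁻¹) • x ^ i := by
    rw [h2, sum_range_succ, h1, smul_zero, add_zero]
  have h2'' : EE k p x = ∑ i ∈ range (q + 2), ((i.factorial : k)⁻¹) • x ^ i := by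
    rw [EE, hq]
  have hcast : ∀ n : ℕ, n ≤ q → ((n + 1 : ℕ) : k) ≠ 0 := by
    intro n hn h0
    have := Nat.le_of_dvd (Nat.succ_pos n) ((CharP.cast_eq_zero_iff k p _).1 h0)
    omega
  have h3 : EE k p x * y = y + ∑ n ∈ range (q + 1), (((n + 1).factorial : k)⁻¹) • (y * x ^ (n + 1) +
      ((n + 1 : ℕ) : k) • (h * x ^ n) - (((n + 1) * n : ℕ) : k) • x ^ n) := by
    rw [h2'', sum_range_succ', add_mul, sum_mul, add_comm]
    congr 1
    · simp
    · refine sum_congr rfl (fun n _ => ?_)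
      rw [smul_mul_assoc, pow_mul_y e1 e2]
  rw [h3]
  simp only [smul_sub, smul_add, sum_add_distrib, sum_sub_distrib]
  have h4 : y + ∑ n ∈ range (q + 1), (((n + 1).factorial : k)⁻¹) • (y * x ^ (n + 1)) = y * EE k p x := by
    have h8 : EE k p x = (∑ i ∈ range (q + 1), (((i + 1).factorial : k)⁻¹) • x ^ (i + 1)) +
        (((0 : ℕ).factorial : k)⁻¹) • x ^ 0 := by
      rw [h2'', sum_range_succ' (fun i => ((i.factorial : k)⁻¹) • x ^ i) (q + 1)]
    rw [h8, mul_add, mul_sum, add_comm]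
    congr 1
    · refine sum_congr rfl (fun n _ => ?_)
      rw [mul_smul_comm]
    · simp
  have h5 : ∑ n ∈ range (q + 1), (((n + 1).factorial : k)⁻¹) • ((n + 1 : ℕ) : k) • (h * x ^ n) =
      h * EE k p x := by
    rw [h2, mul_sum]
    refine sum_congr rfl (fun n hn => ?_)
    rw [mem_range] at hn
    rw [smul_smul, mul_smul_comm]
    congr 1
    rw [Nat.factorial_succ, Nat.cast_mul, mul_inv, mul_comm, ← mul_assoc, mul_inv_cancel₀ (hcast n (by omega)),
      one_mul]
  have h6 : ∑ n ∈ range (q + 1), (((n + 1).factorial : k)⁻¹) • (((n + 1) * n : ℕ) : k) • x ^ n =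
      x * EE k p x := by
    rw [← sum_n_smul hx hr]
    have h7 : ∑ n ∈ range p, ((n.factorial : k)⁻¹ * (n : k)) • x ^ n =
        ∑ n ∈ range (q + 1), ((n.factorial : k)⁻¹ * (n : k)) • x ^ n := by
      rw [hq, sum_range_succ, h1', smul_zero, add_zero]
    rw [h7]
    refine sum_congr rfl (fun n hn => ?_)
    rw [mem_range] at hn
    rw [smul_smul]
    congr 1
    rw [Nat.factorial_succ, Nat.cast_mul, Nat.cast_mul, mul_inv, mul_comm (((n + 1 : ℕ) : k))⁻¹, mul_assoc,
      ← mul_assoc (((n + 1 : ℕ) : k))⁻¹, inv_mul_cancel₀ (hcast n (by omega)), one_mul]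
  rw [← add_sub_assoc, ← add_assoc, h4, h5, h6, sub_mul, add_mul]

end rel

end H67.Mod
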