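import Mathlib
import Cfsg.Agent.Lib.H67.Mod6

set_option autoImplicit false
set_option linter.unusedSectionVars false

/-! A three-dimensional quadratic summand. -/

namespace H67.Mod

open Finset H67.Lat

variable {k : Type*} [Field k] {p : ℕ} [hp : Fact p.Prime] [CharP k p]
variable {M : Type*} [AddCommGroup M] [Module k M]
variable {G : Type*} [Group G] [Finite G]

theorem fixed_of_mem_normalizer (τ : Representation k G M) {σ g : G}
    (hg : g ∈ Subgroup.normalizer (Subgroup.zpowers σ : Set G)) {m : M} (hm : τ σ m = m) :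
    τ σ (τ g⁻¹ m) = τ g⁻¹ m := by
  obtain ⟨j, hj⟩ := mem_powers_iff_mem_zpowers.2
    ((Subgroup.mem_normalizer_iff.1 hg σ).1 (Subgroup.mem_zpowers σ))
  have hj : σ ^ j = g * σ * g⁻¹ := hj
  rw [← Module.End.mul_apply, ← map_mul, show σ * g⁻¹ = g⁻¹ * (g * σ * g⁻¹) by group, ← hj, map_mul,
    map_pow, Module.End.mul_apply, pow_fix hm]

/-- the equivariant endomorphism -/
theorem exists_equivariant (τ : Representation k G M) (B : M →ₗ[k] M →ₗ[k] k)
    (hsymm : ∀ a b, B a b = B b a) (hinv : ∀ g a b, B (τ g a) (τ g b) = B a b)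
    {σ : G} (hσ : orderOf σ = p) (hp2 : ¬ p ^ 2 ∣ Nat.card G) (hTT : TT p (τ σ) = 0)
    (h2 : (2 : k) ≠ 0) {x h y : M} {c : k} (hc : c ≠ 0) (hx : τ σ x = x) (hh : τ σ h = h - (2 : k) • x)
    (hy : τ σ y = y + h - x) (bxx : B x x = 0) (bxh : B x h = 0) (bxy : B x y = c)
    (hN : ∀ g ∈ Subgroup.normalizer (Subgroup.zpowers σ : Set G), ∃ a : k, τ g x = a • x) :
    ∃ f : Module.End k M, (∀ g, Commute f (τ g)) ∧ f x = x ∧ (∀ m, τ σ m = m → ∃ a : k, f m = a • x) ∧
      ∀ a b, B (f a) b = B a (f b) := by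
  classical
  let _ := Fintype.ofFinite (G ⧸ Subgroup.zpowers σ)
  set F₀ : Module.End k M := c⁻¹ • ((B y).smulRight x + (2⁻¹ : k) • (B h).smulRight h + (B x).smulRight y)
    with hF₀
  have hF : ∀ m, F₀ m = c⁻¹ • (B y m • x + (2⁻¹ : k) • B h m • h + B x m • y) := by
    intro m; rfl
  have b1 : ∀ m, B x (τ σ m) = B x m := by
    intro m
    conv_lhs => rw [← hx]
    rw [hinv]
  have b2 : ∀ m, B h (τ σ m) = B h m + 2 * B x m := by
    intro m
    have h3 : h = τ σ (h + (2 : k) • x) := by rw [map_add, map_smul, hx, hh]; abel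
    conv_lhs => rw [h3]
    rw [hinv, map_add, map_smul, LinearMap.add_apply, LinearMap.smul_apply, smul_eq_mul]
  have b3 : ∀ m, B y (τ σ m) = B y m - B h m - B x m := by
    intro m
    have h3 : y = τ σ (y - h - x) := by
      rw [map_sub, map_sub, hx, hh, hy, two_smul]; abel
    conv_lhs => rw [h3]
    rw [hinv, map_sub, map_sub, LinearMap.sub_apply, LinearMap.sub_apply]
  have hcomm : Commute F₀ (τ σ) := by
    ext m
    rw [Module.End.mul_apply, Module.End.mul_apply, hF, hF, map_smul, b1, b2, b3]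
    simp only [map_add, map_smul]
    rw [hx, hh, hy]
    congr 1
    have h4 : (2 : k)⁻¹ * 2 = 1 := inv_mul_cancel₀ h2
    have h5 : (2⁻¹ : k) • (B h m + 2 * B x m) • h = (2⁻¹ : k) • B h m • h + B x m • h := by
      rw [add_smul, smul_add, mul_smul, smul_smul 2⁻¹ 2, h4, one_smul]
    have h6 : (2⁻¹ : k) • B h m • (h - (2 : k) • x) = (2⁻¹ : k) • B h m • h - B h m • x := by
      rw [smul_sub, smul_sub, smul_comm (B h m) (2 : k), smul_smul 2⁻¹ 2, h4, one_smul]
    rw [h5, h6]
    module
  have hfix : ∀ m, τ σ m = m → ∃ a : k, F₀ m = a • x := by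
    intro m hm
    have h3 : B x m = 0 := by
      have h4 := b2 m
      rw [hm] at h4
      have h5 : 2 * B x m = 0 := by linear_combination -h4
      exact (mul_eq_zero.1 h5).resolve_left h2
    have h4 : B h m = 0 := by
      have h5 := b3 m
      rw [hm, h3] at h5
      linear_combination h5
    refine ⟨c⁻¹ * B y m, ?_⟩
    rw [hF, h3, h4]
    simp [smul_smul]
  have hFx : F₀ x = x := by
    rw [hF, bxx, hsymm h x, bxh, hsymm y x, bxy]
    simp [smul_smul, hc]
  have hself : ∀ a b, B (F₀ a) b = B a (F₀ b) := by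
    intro a b
    rw [hF, hF]
    simp only [map_smul, map_add, LinearMap.smul_apply, LinearMap.add_apply, smul_eq_mul]
    rw [hsymm a x, hsymm a h, hsymm a y]
    ring
  set S := (univ : Finset (G ⧸ Subgroup.zpowers σ)).filter (fun q => σ • q = q) with hS
  have hn : ((S.card : ℕ) : k) ≠ 0 := by
    intro h0
    exact card_fixed hσ hp2 ((CharP.cast_eq_zero_iff k p _).1 h0)
  have hrel : ∀ v, τ σ v = v → relTr τ σ F₀ v = ∑ q ∈ S, cjE τ F₀ q.out v := by
    intro v hv
    convert relTr_fix τ hσ hTT hcomm hv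
  refine ⟨(S.card : k)⁻¹ • relTr τ σ F₀, ?_, ?_, ?_, ?_⟩
  · intro g
    exact (relTr_commute τ hcomm g).smul_left _
  · rw [LinearMap.smul_apply, hrel x hx]
    have h3 : ∀ q ∈ S, cjE τ F₀ q.out x = x := by
      intro q hq
      have h4 : q.out ∈ Subgroup.normalizer (Subgroup.zpowers σ : Set G) :=
        out_mem hσ (mem_filter.1 hq).2
      obtain ⟨a, ha⟩ := hN _ (inv_mem h4)
      change τ q.out (F₀ (τ q.out⁻¹ x)) = x
      rw [ha, map_smul, hFx, ← ha, ← Module.End.mul_apply, rho_mul_inv, Module.End.one_apply]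
    rw [sum_congr rfl h3, sum_const, ← Nat.cast_smul_eq_nsmul k, smul_smul, inv_mul_cancel₀ hn, one_smul]
  · intro m hm
    have h3 : ∀ q ∈ S, ∃ a : k, cjE τ F₀ q.out m = a • x := by
      intro q hq
      have h4 : q.out ∈ Subgroup.normalizer (Subgroup.zpowers σ : Set G) :=
        out_mem hσ (mem_filter.1 hq).2
      obtain ⟨a, ha⟩ := hN _ h4
      obtain ⟨b, hb⟩ := hfix _ (fixed_of_mem_normalizer τ h4 hm)
      refine ⟨b * a, ?_⟩
      change τ q.out (F₀ (τ q.out⁻¹ m)) = _
      rw [hb, map_smul, ha, smul_smul]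
    choose! a ha using h3
    refine ⟨(S.card : k)⁻¹ * ∑ q ∈ S, a q, ?_⟩
    rw [LinearMap.smul_apply, hrel m hm, sum_congr rfl ha, ← sum_smul, smul_smul]
  · intro a b
    have h3 : ∀ g : G, ∀ a b, B (cjE τ F₀ g a) b = B a (cjE τ F₀ g b) := by
      intro g a b
      change B (τ g (F₀ (τ g⁻¹ a))) b = B a (τ g (F₀ (τ g⁻¹ b)))
      have h4 : ∀ v : M, v = τ g (τ g⁻¹ v) := by
        intro v
        rw [← Module.End.mul_apply, rho_mul_inv, Module.End.one_apply]
      conv_lhs => rw [h4 b, hinv]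
      conv_rhs => rw [h4 a, hinv]
      exact hself _ _
    rw [LinearMap.smul_apply, LinearMap.smul_apply, map_smul, map_smul, LinearMap.smul_apply, relTr,
      LinearMap.sum_apply, LinearMap.sum_apply, map_sum, map_sum, LinearMap.sum_apply]
    congr 1
    exact sum_congr rfl (fun q _ => h3 _ _ _)

/-- the quadratic form -/
def QQ (k : Type*) [Field k] : Matrix (Fin 3) (Fin 3) k := !![0, 0, 1; 0, 2, 0; 1, 0, 0]

/-- a matrix representation from a basis -/
theorem exists_matrix_rep (τ : Representation k G M) (B : M →ₗ[k] M →ₗ[k] k)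
    (hinv : ∀ g a b, B (τ g a) (τ g b) = B a b) (X : Submodule k M) (hX : ∀ g, ∀ v ∈ X, τ g v ∈ X)
    {c : k} (hc : c ≠ 0) (b : Fin 3 → M) (hb : ∀ i, b i ∈ X) (cf : Fin 3 → M →ₗ[k] k)
    (hcf : ∀ i j, cf i (b j) = (1 : Matrix (Fin 3) (Fin 3) k) i j)
    (hspan : ∀ v ∈ X, v = ∑ i, cf i v • b i) (hgram : ∀ i j, B (b i) (b j) = c * QQ k i j) :
    ∃ R : G →* Matrix (Fin 3) (Fin 3) k, (∀ g, (R g).transpose * QQ k * R g = QQ k) ∧
      ∀ g i j, R g i j = cf i (τ g (b j)) := by
  classical
  have h1 : ∀ g j, τ g (b j) = ∑ i, cf i (τ g (b j)) • b i := fun g j => hspan _ (hX g _ (hb j))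
  refine ⟨⟨⟨fun g => Matrix.of (fun i j => cf i (τ g (b j))), ?_⟩, ?_⟩, ?_, ?_⟩
  · ext i j
    rw [Matrix.of_apply, map_one, Module.End.one_apply, hcf]
  · intro g g'
    ext i j
    rw [Matrix.mul_apply]
    simp only [Matrix.of_apply]
    rw [map_mul, Module.End.mul_apply, h1 g' j, map_sum, map_sum]
    refine sum_congr rfl (fun l _ => ?_)
    rw [map_smul, map_smul, smul_eq_mul, mul_comm]
    congr 1
    rw [← h1]
  · intro g
    ext i j
    rw [Matrix.mul_apply]
    simp only [Matrix.mul_apply, Matrix.transpose_apply]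
    change ∑ l, (∑ m, cf m (τ g (b i)) * QQ k m l) * cf l (τ g (b j)) = _
    have h2 : c * ∑ l, (∑ m, cf m (τ g (b i)) * QQ k m l) * cf l (τ g (b j)) = c * QQ k i j := by
      rw [← hgram i j, ← hinv g (b i) (b j)]
      conv_rhs => rw [h1 g i, h1 g j]
      simp only [map_sum, map_smul, LinearMap.smul_apply, LinearMap.sum_apply, smul_eq_mul, hgram, sum_mul, mul_sum]
      refine sum_congr rfl (fun m _ => sum_congr rfl (fun l _ => ?_))
      ring
    exact mul_left_cancel₀ hc h2
  · intro g i j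
    rfl

theorem exists_so3 [Module.Finite k M] (τ : Representation k G M) (B : M →ₗ[k] M →ₗ[k] k)
    (hsymm : ∀ a b, B a b = B b a) (hinv : ∀ g a b, B (τ g a) (τ g b) = B a b)
    {σ : G} (hσ : orderOf σ = p) (hp2 : ¬ p ^ 2 ∣ Nat.card G) (hTT : TT p (τ σ) = 0)
    (h2 : (2 : k) ≠ 0) {x h y : M} {c : k} (hc : c ≠ 0) (hx : τ σ x = x) (hh : τ σ h = h - (2 : k) • x)
    (hy : τ σ y = y + h - x) (bxx : B x x = 0) (bxh : B x h = 0) (bxy : B x y = c)
    (hN : ∀ g ∈ Subgroup.normalizer (Subgroup.zpowers σ : Set G), ∃ a : k, τ g x = a • x) :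
    ∃ R : G →* Matrix (Fin 3) (Fin 3) k, (∀ g, (R g).transpose * QQ k * R g = QQ k) ∧
      R σ = !![1, -2, -1; 0, 1, 1; 0, 0, 1] := by
  classical
  obtain ⟨f, hf1, hf2, hf3, hf4⟩ := exists_equivariant τ B hsymm hinv hσ hp2 hTT h2 hc hx hh hy bxx bxh bxy hN
  obtain ⟨n, hn, hn1⟩ : ∃ n, IsCompl (LinearMap.ker (f ^ n)) (LinearMap.range (f ^ n)) ∧ 1 ≤ n := by
    have h3 := (f.eventually_isCompl_ker_pow_range_pow).and (Filter.eventually_ge_atTop 1)
    exact h3.exists
  set X := LinearMap.range (f ^ n) with hX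
  set K := LinearMap.ker (f ^ n) with hK
  have hXst : ∀ g, ∀ v ∈ X, τ g v ∈ X := by
    rintro g _ ⟨w, rfl⟩
    refine ⟨τ g w, ?_⟩
    rw [← Module.End.mul_apply, ← Module.End.mul_apply, ((hf1 g).pow_left n).eq]
  have hKst : ∀ g, ∀ v ∈ K, τ g v ∈ K := by
    intro g v hv
    rw [LinearMap.mem_ker] at hv ⊢
    rw [← Module.End.mul_apply, ((hf1 g).pow_left n).eq, Module.End.mul_apply, hv, map_zero]
  have hfn : ∀ m, (f ^ m) x = x := fun m => pow_fix hf2 m
  have hxX : x ∈ X := ⟨x, hfn n⟩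
  have hadj : ∀ m, ∀ a b, B ((f ^ m) a) b = B a ((f ^ m) b) := by
    intro m
    induction m with
    | zero => intro a b; simp
    | succ m ih =>
      intro a b
      rw [pow_succ, Module.End.mul_apply, ih, hf4, ← Module.End.mul_apply, ← pow_succ', ← pow_succ]
  have hXK : ∀ v ∈ X, ∀ w ∈ K, B v w = 0 := by
    rintro _ ⟨v, rfl⟩ w hw
    rw [hadj, LinearMap.mem_ker.1 hw, map_zero]
  have hfixX : ∀ v ∈ X, τ σ v = v → ∃ a : k, v = a • x := by
    intro v hv hv1
    obtain ⟨a, ha⟩ := hf3 v hv1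
    refine ⟨a, ?_⟩
    have h3 : v - a • x ∈ X := X.sub_mem hv (X.smul_mem a hxX)
    have h4 : v - a • x ∈ K := by
      rw [LinearMap.mem_ker]
      obtain ⟨m, rfl⟩ : ∃ m, n = m + 1 := ⟨n - 1, by omega⟩
      rw [pow_succ, Module.End.mul_apply, map_sub, ha, map_smul, hf2, sub_self, map_zero]
    exact sub_eq_zero.1 ((Submodule.disjoint_def.1 hn.disjoint) _ h4 h3)
  -- decompose y
  obtain ⟨yK, hyK, z, hz, hyz⟩ : ∃ yK ∈ K, ∃ z ∈ X, yK + z = y := by
    have h3 : y ∈ K ⊔ X := by rw [hn.sup_eq_top]; trivial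
    exact Submodule.mem_sup.1 h3
  have bxz : B x z = c := by
    have h3 : B x y = B x yK + B x z := by rw [← hyz, map_add]
    rw [hXK x hxX yK hyK, zero_add] at h3
    rw [← h3, bxy]
  set T : Module.End k M := τ σ - 1 with hT
  have hTa : ∀ v, T v = τ σ v - v := fun v => rfl
  have hTX : ∀ v ∈ X, T v ∈ X := fun v hv => X.sub_mem (hXst σ v hv) hv
  have hTK : ∀ v ∈ K, T v ∈ K := fun v hv => K.sub_mem (hKst σ v hv) hv
  have hTx : T x = 0 := by rw [hTa, hx, sub_self]
  have hTTy : T (T y) = (-2 : k) • x := by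
    rw [hTa y, hy, hTa]
    simp only [map_add, map_sub]
    rw [hy, hh, hx]
    module
  have hTTz : T (T z) = (-2 : k) • x := by
    have h3 : T (T yK) + T (T z) = (-2 : k) • x := by rw [← map_add, ← map_add, hyz, hTTy]
    have h4 : T (T yK) = (-2 : k) • x - T (T z) := by rw [← h3]; abel
    have h5 : (-2 : k) • x - T (T z) ∈ X := X.sub_mem (X.smul_mem _ hxX) (hTX _ (hTX _ hz))
    have h6 : T (T yK) = 0 :=
      (Submodule.disjoint_def.1 hn.disjoint) _ (hTK _ (hTK _ hyK)) (by rw [h4]; exact h5)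
    rw [h6, zero_add] at h3
    exact h3
  -- the adjoint of T
  have hTadj : ∀ a b, B (T a) b = B a (τ σ⁻¹ b - b) := by
    intro a b
    have h4 : b = τ σ (τ σ⁻¹ b) := by
      rw [← Module.End.mul_apply, rho_mul_inv, Module.End.one_apply]
    rw [hTa, map_sub, map_sub, LinearMap.sub_apply]
    conv_lhs => rw [h4, hinv, ← h4]
  have hinvx : τ σ⁻¹ x = x := by
    have h3 : τ σ⁻¹ (τ σ x) = x := by
      rw [← Module.End.mul_apply, rho_inv_mul, Module.End.one_apply]
    rwa [hx] at h3
  have hinvh : τ σ⁻¹ h = h + (2 : k) • x := by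
    have h3 : τ σ⁻¹ (τ σ h) = h := by
      rw [← Module.End.mul_apply, rho_inv_mul, Module.End.one_apply]
    rw [hh, map_sub, map_smul, hinvx] at h3
    exact sub_eq_iff_eq_add.1 h3
  have hinvy : τ σ⁻¹ y = y - h - x := by
    have h3 : τ σ⁻¹ (τ σ y) = y := by
      rw [← Module.End.mul_apply, rho_inv_mul, Module.End.one_apply]
    rw [hy, map_sub, map_add, hinvx, hinvh] at h3
    linear_combination (norm := module) h3
  -- T³ = 0 on X
  have hTpow : T ^ (p - 1) = 0 := by rw [hT, ← TT_eq, hTT]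
  have hT3 : ∀ v ∈ X, T (T (T v)) = 0 := by
    have hex : ∃ m, ∀ v ∈ X, (T ^ m) v = 0 := ⟨p - 1, fun v _ => by rw [hTpow]; rfl⟩
    set m := Nat.find hex with hm
    have hm1 : ∀ v ∈ X, (T ^ m) v = 0 := Nat.find_spec hex
    have hm3 : m ≤ 3 := by
      by_contra hlt
      have h3 := Nat.find_min hex (show m - 1 < m by omega)
      push Not at h3
      obtain ⟨v, hv, hv0⟩ := h3
      have h4 : T ((T ^ (m - 1)) v) = 0 := by
        rw [← Module.End.mul_apply, ← pow_succ', Nat.sub_add_cancel (by omega), hm1 v hv]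
      have hTm : ∀ j, (T ^ j) v ∈ X := by
        intro j
        induction j with
        | zero => simpa using hv
        | succ j ih => rw [pow_succ', Module.End.mul_apply]; exact hTX _ ih
      obtain ⟨a, ha⟩ := hfixX _ (hTm (m - 1)) (by rw [hTa, sub_eq_zero] at h4; exact h4)
      have ha0 : a ≠ 0 := by
        rintro rfl
        rw [zero_smul] at ha
        exact hv0 ha
      have h5 : B ((T ^ (m - 1)) v) y = a * c := by
        rw [ha, map_smul, LinearMap.smul_apply, bxy, smul_eq_mul]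
      have h6 : B ((T ^ (m - 1)) v) y = 0 := by
        have h7 : (T ^ (m - 1)) v = T (T (T ((T ^ (m - 4)) v))) := by
          obtain ⟨j, hj⟩ : ∃ j, m = j + 4 := ⟨m - 4, by omega⟩
          rw [hj, show j + 4 - 1 = j + 3 by omega, show j + 4 - 4 = j by omega, pow_succ', pow_succ', pow_succ']
          rfl
        have e1 : τ σ⁻¹ y - y = -h - x := by rw [hinvy]; abel
        have e2 : τ σ⁻¹ (-h - x) - (-h - x) = (-2 : k) • x := by
          rw [map_sub, map_neg, hinvh, hinvx]; module
        have e3 : τ σ⁻¹ ((-2 : k) • x) - (-2 : k) • x = 0 := by rw [map_smul, hinvx, sub_self]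
        rw [h7, hTadj, hTadj, hTadj, e1, e2, e3, map_zero]
      rw [h6] at h5
      exact mul_ne_zero ha0 hc h5.symm
    intro v hv
    have h3 : T (T (T v)) = (T ^ 3) v := rfl
    rw [h3, show (3 : ℕ) = (3 - m) + m by omega, pow_add, Module.End.mul_apply, hm1 v hv, map_zero]
  -- the basis
  set u := T z with hu
  have huX : u ∈ X := hTX _ hz
  have bux : B u x = 0 := by rw [hu, hTadj, hinvx, sub_self, map_zero]
  have hinvu : τ σ⁻¹ u = u + (2 : k) • x := by
    have h3 : τ σ⁻¹ (τ σ u) = u := by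
      rw [← Module.End.mul_apply, rho_inv_mul, Module.End.one_apply]
    have h4 : τ σ u = u + (-2 : k) • x := by rw [← hTTz, hTa]; abel
    rw [h4, map_add, map_smul, hinvx] at h3
    linear_combination (norm := module) h3
  have hσu : τ σ u = u + (-2 : k) • x := by rw [← hTTz, hTa]; abel
  have hσz : τ σ z = z + u := by rw [hu, hTa]; abel
  have buu : B u u = 2 * c := by
    conv_lhs => rw [hu]
    rw [hTadj, ← hu, hinvu, add_sub_cancel_left, map_smul, smul_eq_mul, hsymm z x, bxz]
  have buz : B u z = -c := by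
    have h3 := hinv σ z z
    rw [hσz] at h3
    simp only [map_add, LinearMap.add_apply] at h3
    rw [hsymm z u, buu] at h3
    have h4 : 2 * (B u z + c) = 0 := by linear_combination h3
    have h5 := (mul_eq_zero.1 h4).resolve_left h2
    linear_combination h5
  set β := B z z with hβ
  have hlin : ∀ v ∈ X, ∃ a b d : k, v = a • x + b • u + d • z := by
    intro v hv
    obtain ⟨a, ha⟩ := hfixX _ (hTX _ (hTX _ hv)) (by
      have h3 := hT3 v hv
      rw [hTa, sub_eq_zero] at h3
      exact h3)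
    have hw : v + (a * 2⁻¹) • z ∈ X := X.add_mem hv (X.smul_mem _ hz)
    obtain ⟨b, hb⟩ := hfixX _ (hTX _ hw) (by
      rw [← sub_eq_zero, ← hTa, map_add, map_smul, map_add, map_smul, ha, ← hu, hTTz, smul_smul, mul_assoc,
        show (2⁻¹ : k) * -2 = -1 by rw [mul_neg, inv_mul_cancel₀ h2], ← add_smul]
      rw [show a + a * -1 = 0 by ring, zero_smul])
    have hw' : v + (a * 2⁻¹) • z + (b * 2⁻¹) • u ∈ X := X.add_mem hw (X.smul_mem _ huX)
    obtain ⟨d, hd⟩ := hfixX _ hw' (by
      rw [← sub_eq_zero, ← hTa, map_add, hb, map_smul, hTTz, smul_smul, mul_assoc,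
        show (2⁻¹ : k) * -2 = -1 by rw [mul_neg, inv_mul_cancel₀ h2], ← add_smul]
      rw [show b + b * -1 = 0 by ring, zero_smul])
    refine ⟨d, -(b * 2⁻¹), -(a * 2⁻¹), ?_⟩
    linear_combination (norm := module) hd
  have e0 : ∀ a b d : k, B x (a • x + b • u + d • z) = d * c := by
    intro a b d
    simp only [map_add, map_smul, smul_eq_mul]
    rw [bxx, hsymm x u, bux, bxz]; ring
  have e1 : ∀ a b d : k, B u (a • x + b • u + d • z) = b * (2 * c) - d * c := by
    intro a b d
    simp only [map_add, map_smul, smul_eq_mul]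
    rw [bux, buu, buz]; ring
  have e2 : ∀ a b d : k, B z (a • x + b • u + d • z) = a * c - b * c + d * β := by
    intro a b d
    simp only [map_add, map_smul, smul_eq_mul]
    rw [hsymm z x, bxz, hsymm z u, buz, ← hβ]; ring
  set γ := β * (2 * c)⁻¹ with hγ
  have h2c : 2 * c ≠ 0 := mul_ne_zero h2 hc
  let b : Fin 3 → M := ![x, (1 : k) • x + (1 : k) • u, (-γ) • x + (1 : k) • z]
  let cf : Fin 3 → M →ₗ[k] k := ![c⁻¹ • B ((-γ) • x + (1 : k) • z), (2 * c)⁻¹ • B ((1 : k) • x + (1 : k) • u), c⁻¹ • B x]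
  have f0 : ∀ a b d : k, cf 0 (a • x + b • u + d • z) = a - b + d * γ := by
    intro a b d
    change (c⁻¹ • B ((-γ) • x + (1 : k) • z)) _ = _
    have g2 : ∀ w, B ((-γ) • x + (1 : k) • z) w = -γ * B x w + B z w := by
      intro w
      simp only [map_add, map_smul, LinearMap.add_apply, LinearMap.smul_apply, smul_eq_mul, one_mul]
    rw [LinearMap.smul_apply, g2, e0, e2]
    simp only [smul_eq_mul, hγ]
    field_simp
    ring
  have f1 : ∀ a b d : k, cf 1 (a • x + b • u + d • z) = b := by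
    intro a b d
    change ((2 * c)⁻¹ • B ((1 : k) • x + (1 : k) • u)) _ = _
    have g2 : ∀ w, B ((1 : k) • x + (1 : k) • u) w = B x w + B u w := by
      intro w
      simp only [map_add, map_smul, LinearMap.add_apply, LinearMap.smul_apply, smul_eq_mul, one_mul]
    rw [LinearMap.smul_apply, g2, e0, e1]
    simp only [smul_eq_mul]
    field_simp
    ring
  have f2 : ∀ a b d : k, cf 2 (a • x + b • u + d • z) = d := by
    intro a b d
    change (c⁻¹ • B x) _ = _
    rw [LinearMap.smul_apply, e0]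
    simp only [smul_eq_mul]
    field_simp
  have b0 : b 0 = (1 : k) • x + (0 : k) • u + (0 : k) • z := by
    change x = _
    module
  have b1 : b 1 = (1 : k) • x + (1 : k) • u + (0 : k) • z := by
    change (1 : k) • x + (1 : k) • u = _
    module
  have b2 : b 2 = (-γ) • x + (0 : k) • u + (1 : k) • z := by
    change (-γ) • x + (1 : k) • z = _
    module
  obtain ⟨R, hR1, hR2⟩ := exists_matrix_rep τ B hinv X hXst hc b (by
      intro i
      fin_cases i
      · exact hxX
      · exact X.add_mem (X.smul_mem _ hxX) (X.smul_mem _ huX)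
      · exact X.add_mem (X.smul_mem _ hxX) (X.smul_mem _ hz)) cf (by
      intro i j
      fin_cases j
      · change cf i (b 0) = (1 : Matrix (Fin 3) (Fin 3) k) i 0
        rw [b0]
        fin_cases i
        · change cf 0 _ = (1 : Matrix (Fin 3) (Fin 3) k) 0 0
          rw [f0]; simp
        · change cf 1 _ = (1 : Matrix (Fin 3) (Fin 3) k) 1 0
          rw [f1]; simp
        · change cf 2 _ = (1 : Matrix (Fin 3) (Fin 3) k) 2 0
          rw [f2]; simp
      · change cf i (b 1) = (1 : Matrix (Fin 3) (Fin 3) k) i 1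
        rw [b1]
        fin_cases i
        · change cf 0 _ = (1 : Matrix (Fin 3) (Fin 3) k) 0 1
          rw [f0]; simp
        · change cf 1 _ = (1 : Matrix (Fin 3) (Fin 3) k) 1 1
          rw [f1]; simp
        · change cf 2 _ = (1 : Matrix (Fin 3) (Fin 3) k) 2 1
          rw [f2]; simp
      · change cf i (b 2) = (1 : Matrix (Fin 3) (Fin 3) k) i 2
        rw [b2]
        fin_cases i
        · change cf 0 _ = (1 : Matrix (Fin 3) (Fin 3) k) 0 2
          rw [f0]; simp
        · change cf 1 _ = (1 : Matrix (Fin 3) (Fin 3) k) 1 2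
          rw [f1]; simp
        · change cf 2 _ = (1 : Matrix (Fin 3) (Fin 3) k) 2 2
          rw [f2]; simp) (by
      intro v hv
      obtain ⟨a, b', d, rfl⟩ := hlin v hv
      rw [Fin.sum_univ_three, f0, f1, f2, b0, b1, b2]
      module) (by
      intro i j
      have g0 : ∀ w, B (b 0) w = B x w := fun w => rfl
      have g1 : ∀ w, B (b 1) w = B x w + B u w := by
        intro w
        rw [b1]
        simp only [map_add, map_smul, LinearMap.add_apply, LinearMap.smul_apply, smul_eq_mul]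
        ring
      have g2 : ∀ w, B (b 2) w = -γ * B x w + B z w := by
        intro w
        rw [b2]
        simp only [map_add, map_smul, LinearMap.add_apply, LinearMap.smul_apply, smul_eq_mul]
        ring
      have hγ2 : 2 * c * γ = β := by
        rw [hγ]; field_simp
      fin_cases i <;> fin_cases j
      · change B (b 0) (b 0) = _
        rw [g0, b0, e0]; simp [QQ]
      · change B (b 0) (b 1) = _
        rw [g0, b1, e0]; simp [QQ]
      · change B (b 0) (b 2) = _
        rw [g0, b2, e0]; simp [QQ]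
      · change B (b 1) (b 0) = _
        rw [g1, b0, e0, e1]; simp [QQ]
      · change B (b 1) (b 1) = _
        rw [g1, b1, e0, e1]; simp [QQ]; ring
      · change B (b 1) (b 2) = _
        rw [g1, b2, e0, e1]; simp [QQ]
      · change B (b 2) (b 0) = _
        rw [g2, b0, e0, e2]; simp [QQ]
      · change B (b 2) (b 1) = _
        rw [g2, b1, e0, e2]; simp [QQ]
      · change B (b 2) (b 2) = _
        rw [g2, b2, e0, e2]; simp [QQ]
        linear_combination -hγ2)
  refine ⟨R, hR1, ?_⟩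
  have s0 : τ σ (b 0) = (1 : k) • x + (0 : k) • u + (0 : k) • z := by
    rw [b0]
    simp only [map_add, map_smul]
    rw [hx, hσu, hσz]
    module
  have s1 : τ σ (b 1) = (-1 : k) • x + (1 : k) • u + (0 : k) • z := by
    rw [b1]
    simp only [map_add, map_smul]
    rw [hx, hσu, hσz]
    module
  have s2 : τ σ (b 2) = (-γ) • x + (1 : k) • u + (1 : k) • z := by
    rw [b2]
    simp only [map_add, map_smul]
    rw [hx, hσu, hσz]
    module
  ext i j
  rw [hR2]
  fin_cases j
  · change cf i (τ σ (b 0)) = _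
    rw [s0]
    fin_cases i
    · change cf 0 _ = _
      rw [f0]; simp
    · change cf 1 _ = _
      rw [f1]; simp
    · change cf 2 _ = _
      rw [f2]; simp
  · change cf i (τ σ (b 1)) = _
    rw [s1]
    fin_cases i
    · change cf 0 _ = _
      rw [f0]; simp; ring
    · change cf 1 _ = _
      rw [f1]; simp
    · change cf 2 _ = _
      rw [f2]; simp
  · change cf i (τ σ (b 2)) = _
    rw [s2]
    fin_cases i
    · change cf 0 _ = _
      rw [f0]; simp; ring
    · change cf 1 _ = _
      rw [f1]; simp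
    · change cf 2 _ = _
      rw [f2]; simp

end H67.Mod
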