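import Mathlib
import Cfsg.Agent.Lib.H67.Mod7
import Cfsg.Agent.Lib.H98.Moebius

set_option autoImplicit false
set_option linter.unusedSectionVars false

/-! `SO₃ ≅ PGL₂` over an algebraically closed field. -/

namespace H67.Mod

open Matrix

variable {k : Type*} [Field k]

/-- the symmetric square -/
def SM (A : Matrix (Fin 2) (Fin 2) k) : Matrix (Fin 3) (Fin 3) k :=
  !![A 0 0 ^ 2, -2 * (A 0 0 * A 0 1), -A 0 1 ^ 2; -(A 0 0 * A 1 0), A 0 0 * A 1 1 + A 0 1 * A 1 0, A 0 1 * A 1 1;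
    -A 1 0 ^ 2, 2 * (A 1 0 * A 1 1), A 1 1 ^ 2]

theorem SM_mul (A B : Matrix (Fin 2) (Fin 2) k) : SM (A * B) = SM A * SM B := by
  ext i j
  fin_cases i <;> fin_cases j <;>
    simp [SM, Matrix.mul_apply, Fin.sum_univ_three, Fin.sum_univ_two] <;> ring

theorem SM_one : SM (1 : Matrix (Fin 2) (Fin 2) k) = 1 := by
  ext i j
  fin_cases i <;> fin_cases j <;> simp [SM]

theorem SM_form (A : Matrix (Fin 2) (Fin 2) k) (hA : A.det = 1) : (SM A).transpose * QQ k * SM A = QQ k := by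
  rw [Matrix.det_fin_two] at hA
  ext i j
  fin_cases i <;> fin_cases j <;>
    simp [SM, QQ, Matrix.mul_apply, Fin.sum_univ_three]
  · ring
  · ring
  · linear_combination (A 0 0 * A 1 1 - A 0 1 * A 1 0 + 1) * hA
  · ring
  · linear_combination 2 * (A 0 0 * A 1 1 - A 0 1 * A 1 0 + 1) * hA
  · ring
  · linear_combination (A 0 0 * A 1 1 - A 0 1 * A 1 0 + 1) * hA
  · ring
  · ring

theorem SM_det (A : Matrix (Fin 2) (Fin 2) k) (hA : A.det = 1) : (SM A).det = 1 := by
  rw [Matrix.det_fin_two] at hA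
  rw [Matrix.det_fin_three]
  simp [SM]
  have : (A 0 0 * A 1 1 - A 0 1 * A 1 0) ^ 3 = 1 := by rw [hA, one_pow]
  linear_combination this

/-- the kernel -/
theorem SM_ker (A : Matrix (Fin 2) (Fin 2) k) (hA : A.det = 1) (h : SM A = 1) :
    A 0 0 ≠ 0 ∧ A = A 0 0 • (1 : Matrix (Fin 2) (Fin 2) k) := by
  rw [Matrix.det_fin_two] at hA
  have h1 := congrFun (congrFun h 0) 2
  have h2 := congrFun (congrFun h 2) 0
  have h3 := congrFun (congrFun h 0) 0
  simp [SM] at h1 h2 h3
  rw [h1, zero_mul, sub_zero] at hA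
  have h4 : A 0 0 ≠ 0 := by
    rintro h0
    rw [h0, zero_mul] at hA
    exact zero_ne_one hA
  have h5 : A 1 1 = A 0 0 := by
    apply mul_left_cancel₀ h4
    rw [hA]
    rcases h3 with h3 | h3 <;> rw [h3] <;> ring
  refine ⟨h4, ?_⟩
  ext i j
  fin_cases i <;> fin_cases j
  · simp
  · simpa using h1
  · simpa using h2
  · simpa using h5

theorem form_entries {N : Matrix (Fin 3) (Fin 3) k} (hN : N.transpose * QQ k * N = QQ k) (i j : Fin 3) :
    N 0 i * N 2 j + 2 * (N 1 i * N 1 j) + N 2 i * N 0 j = QQ k i j := by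
  rw [← hN, Matrix.mul_apply, Fin.sum_univ_three, Matrix.mul_apply, Matrix.mul_apply, Matrix.mul_apply,
    Fin.sum_univ_three, Fin.sum_univ_three, Fin.sum_univ_three]
  simp only [Matrix.transpose_apply]
  have q00 : QQ k 0 0 = 0 := rfl
  have q01 : QQ k 0 1 = 0 := rfl
  have q02 : QQ k 0 2 = 1 := rfl
  have q10 : QQ k 1 0 = 0 := rfl
  have q11 : QQ k 1 1 = 2 := rfl
  have q12 : QQ k 1 2 = 0 := rfl
  have q20 : QQ k 2 0 = 1 := rfl
  have q21 : QQ k 2 1 = 0 := rfl
  have q22 : QQ k 2 2 = 0 := rfl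
  rw [q00, q01, q02, q10, q11, q12, q20, q21, q22]
  ring

theorem upper_case (h2 : (2 : k) ≠ 0) {N : Matrix (Fin 3) (Fin 3) k} (hN : N.transpose * QQ k * N = QQ k)
    (hd : N.det = 1) (h00 : N 0 0 = 1) (h10 : N 1 0 = 0) (h20 : N 2 0 = 0) :
    ∃ s : k, N = SM !![1, s; 0, 1] := by
  have e01 := form_entries hN 0 1
  have e02 := form_entries hN 0 2
  have e11 := form_entries hN 1 1
  have e12 := form_entries hN 1 2
  have e22 := form_entries hN 2 2
  have q01 : QQ k 0 1 = 0 := rfl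
  have q02 : QQ k 0 2 = 1 := rfl
  have q11 : QQ k 1 1 = 2 := rfl
  have q12 : QQ k 1 2 = 0 := rfl
  have q22 : QQ k 2 2 = 0 := rfl
  rw [h00, h10, h20, q01] at e01
  rw [h00, h10, h20, q02] at e02
  rw [q11] at e11
  rw [q12] at e12
  rw [q22] at e22
  have h21 : N 2 1 = 0 := by linear_combination e01
  have h22 : N 2 2 = 1 := by linear_combination e02
  rw [Matrix.det_fin_three, h00, h10, h20, h21, h22] at hd
  have h11 : N 1 1 = 1 := by linear_combination hd
  rw [h21, h22, h11] at e12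
  have h01 : N 0 1 = -2 * N 1 2 := by linear_combination e12
  rw [h22] at e22
  have h02 : N 0 2 = -N 1 2 ^ 2 := by
    apply mul_left_cancel₀ h2
    linear_combination e22
  refine ⟨N 1 2, ?_⟩
  ext i j
  fin_cases i <;> fin_cases j
  · simpa [SM] using h00
  · simpa [SM] using h01
  · simpa [SM] using h02
  · simpa [SM] using h10
  · simpa [SM] using h11
  · simp [SM]
  · simpa [SM] using h20
  · simpa [SM] using h21
  · simpa [SM] using h22

theorem SM_surj [IsAlgClosed k] (h2 : (2 : k) ≠ 0) {N : Matrix (Fin 3) (Fin 3) k}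
    (hN : N.transpose * QQ k * N = QQ k) (hd : N.det = 1) :
    ∃ A : Matrix (Fin 2) (Fin 2) k, A.det = 1 ∧ SM A = N := by
  -- the first column
  have e00 := form_entries hN 0 0
  have q00 : QQ k 0 0 = 0 := rfl
  rw [q00] at e00
  have e00' : N 0 0 * N 2 0 + N 1 0 ^ 2 = 0 := by
    apply mul_left_cancel₀ h2
    linear_combination e00
  obtain ⟨a, ha⟩ := IsAlgClosed.exists_pow_nat_eq (N 0 0) (n := 2) (by norm_num)
  obtain ⟨c₀, hc₀⟩ := IsAlgClosed.exists_pow_nat_eq (-N 2 0) (n := 2) (by norm_num)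
  obtain ⟨c, hc, hac⟩ : ∃ c : k, c ^ 2 = -N 2 0 ∧ a * c = -N 1 0 := by
    have h3 : (a * c₀ - N 1 0) * (a * c₀ + N 1 0) = 0 := by
      have : (a * c₀) ^ 2 = N 0 0 * -N 2 0 := by rw [mul_pow, ha, hc₀]
      linear_combination this - e00'
    rcases mul_eq_zero.1 h3 with h | h
    · refine ⟨-c₀, by rw [neg_sq, hc₀], ?_⟩
      linear_combination -h
    · refine ⟨c₀, hc₀, ?_⟩
      linear_combination h
  have hne : ¬ (a = 0 ∧ c = 0) := by
    rintro ⟨rfl, rfl⟩
    have g0 : N 0 0 = 0 := by rw [← ha]; ring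
    have g2 : N 2 0 = 0 := by
      have : -N 2 0 = 0 := by rw [← hc]; ring
      linear_combination -this
    have g1 : N 1 0 = 0 := by
      have : -N 1 0 = 0 := by rw [← hac]; ring
      linear_combination -this
    rw [Matrix.det_fin_three, g0, g1, g2] at hd
    have : (0 : k) = 1 := by linear_combination hd
    exact zero_ne_one this
  obtain ⟨b, d, hbd⟩ : ∃ b d : k, a * d - b * c = 1 := by
    by_cases ha0 : a = 0
    · have hc0 : c ≠ 0 := fun h => hne ⟨ha0, h⟩
      exact ⟨-c⁻¹, 0, by rw [ha0]; field_simp; ring⟩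
    · exact ⟨0, a⁻¹, by field_simp; ring⟩
  let A₁ : Matrix (Fin 2) (Fin 2) k := !![a, b; c, d]
  let A₂ : Matrix (Fin 2) (Fin 2) k := !![d, -b; -c, a]
  have hA1 : A₁.det = 1 := by rw [Matrix.det_fin_two_of]; exact hbd
  have hA2 : A₂.det = 1 := by rw [Matrix.det_fin_two_of]; linear_combination hbd
  have h12 : A₁ * A₂ = 1 := by
    ext i j
    fin_cases i <;> fin_cases j <;> simp [A₁, A₂, Matrix.mul_apply, Fin.sum_univ_two]
    · linear_combination hbd
    · ring
    · ring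
    · linear_combination hbd
  have h21 : A₂ * A₁ = 1 := mul_eq_one_comm.1 h12
  set N' := SM A₂ * N with hN'
  have hN'1 : N'.transpose * QQ k * N' = QQ k := by
    rw [hN', Matrix.transpose_mul]
    calc N.transpose * (SM A₂).transpose * QQ k * (SM A₂ * N)
        = N.transpose * ((SM A₂).transpose * QQ k * SM A₂) * N := by simp only [Matrix.mul_assoc]
      _ = _ := by rw [SM_form A₂ hA2, hN]
  have hN'2 : N'.det = 1 := by rw [hN', Matrix.det_mul, SM_det A₂ hA2, hd, one_mul]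
  have hcol : ∀ i, N' i 0 = (1 : Matrix (Fin 3) (Fin 3) k) i 0 := by
    intro i
    have h3 : SM A₂ * SM A₁ = 1 := by rw [← SM_mul, h21, SM_one]
    rw [← h3, hN', Matrix.mul_apply, Matrix.mul_apply]
    refine Finset.sum_congr rfl (fun j _ => ?_)
    congr 1
    fin_cases j
    · simp [SM, A₁, ha]
    · simp [SM, A₁, hac]
    · simp [SM, A₁, hc]
  obtain ⟨s, hs⟩ := upper_case h2 hN'1 hN'2 (by rw [hcol]; simp) (by rw [hcol]; simp) (by rw [hcol]; simp)
  refine ⟨A₁ * !![1, s; 0, 1], ?_, ?_⟩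
  · rw [Matrix.det_mul, hA1, Matrix.det_fin_two_of]; simp
  · rw [SM_mul, ← hs, hN', ← Matrix.mul_assoc, ← SM_mul, h12, SM_one, Matrix.one_mul]

theorem exists_pgl [IsAlgClosed k] (h2 : (2 : k) ≠ 0) {G : Type*} [Group G]
    (R : G →* Matrix (Fin 3) (Fin 3) k) (hR : ∀ g, (R g).transpose * QQ k * R g = QQ k) {σ : G}
    (hσ : R σ = !![1, -2, -1; 0, 1, 1; 0, 0, 1]) :
    ∃ φ : G →* Matrix.ProjGenLinGroup (Fin 2) k, φ σ ≠ 1 := by
  classical
  have hdet : ∀ g, (R g).det * (R g).det = 1 := by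
    intro g
    have h3 := congrArg Matrix.det (hR g)
    rw [Matrix.det_mul, Matrix.det_mul, Matrix.det_transpose] at h3
    have h4 : (QQ k).det ≠ 0 := by
      rw [Matrix.det_fin_three]
      simp [QQ]
      exact h2
    apply mul_right_cancel₀ h4
    linear_combination h3
  have hex : ∀ g, ∃ A : Matrix (Fin 2) (Fin 2) k, A.det = 1 ∧ SM A = (R g).det • R g := by
    intro g
    apply SM_surj h2
    · rw [Matrix.transpose_smul, Matrix.smul_mul, Matrix.smul_mul, Matrix.mul_smul, smul_smul, hdet, one_smul, hR]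
    · rw [Matrix.det_smul, Fintype.card_fin]
      linear_combination ((R g).det * (R g).det + 1) * hdet g
  choose A hA1 hA2 using hex
  have hmk : ∀ (X Y : Matrix (Fin 2) (Fin 2) k) (hX : X.det ≠ 0) (hY : Y.det ≠ 0), X.det = 1 → Y.det = 1 →
      SM X = SM Y → Matrix.ProjGenLinGroup.mk (Matrix.GeneralLinearGroup.mkOfDetNeZero X hX) =
        Matrix.ProjGenLinGroup.mk (Matrix.GeneralLinearGroup.mkOfDetNeZero Y hY) := by
    intro X Y hX hY hX1 hY1 hXY
    have hYY : Y * Y.adjugate = 1 := by rw [Matrix.mul_adjugate, hY1, one_smul]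
    have hYY' : Y.adjugate * Y = 1 := by rw [Matrix.adjugate_mul, hY1, one_smul]
    have hC1 : (X * Y.adjugate).det = 1 := by
      have h3 : (Y * Y.adjugate).det = 1 := by rw [hYY, Matrix.det_one]
      rw [Matrix.det_mul, hY1, one_mul] at h3
      rw [Matrix.det_mul, hX1, one_mul, h3]
    have hC2 : SM (X * Y.adjugate) = 1 := by rw [SM_mul, hXY, ← SM_mul, hYY, SM_one]
    obtain ⟨h4, h5⟩ := SM_ker _ hC1 hC2
    set t := (X * Y.adjugate) 0 0 with ht
    have h6 : X = t • Y := by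
      calc X = X * (Y.adjugate * Y) := by rw [hYY', Matrix.mul_one]
        _ = (X * Y.adjugate) * Y := by rw [Matrix.mul_assoc]
        _ = t • Y := by rw [h5, Matrix.smul_mul, Matrix.one_mul]
    rw [eq_comm, Matrix.ProjGenLinGroup.mk_eq_mk_iff]
    refine ⟨Units.mk0 t h4, ?_⟩
    apply Units.ext
    rw [Units.val_mul, Matrix.GeneralLinearGroup.coe_scalar]
    change Y * Matrix.scalar (Fin 2) (t : k) = X
    rw [h6]
    ext i j
    simp [Matrix.scalar_apply, mul_comm]
  have hne : ∀ g, (A g).det ≠ 0 := fun g => by rw [hA1]; exact one_ne_zero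
  refine ⟨MonoidHom.mk' (fun g => Matrix.ProjGenLinGroup.mk (Matrix.GeneralLinearGroup.mkOfDetNeZero (A g) (hne g)))
    ?_, ?_⟩
  · intro g h
    rw [← map_mul]
    have hdm : (A g * A h).det ≠ 0 := by rw [Matrix.det_mul, hA1, hA1, one_mul]; exact one_ne_zero
    have h3 : Matrix.GeneralLinearGroup.mkOfDetNeZero (A g) (hne g) *
        Matrix.GeneralLinearGroup.mkOfDetNeZero (A h) (hne h) =
        Matrix.GeneralLinearGroup.mkOfDetNeZero (A g * A h) hdm := by
      apply Units.ext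
      rfl
    rw [h3]
    apply hmk
    · exact hA1 _
    · rw [Matrix.det_mul, hA1, hA1, one_mul]
    · rw [SM_mul, hA2, hA2, hA2, map_mul, Matrix.det_mul, Matrix.smul_mul, Matrix.mul_smul, smul_smul]
  · change Matrix.ProjGenLinGroup.mk (Matrix.GeneralLinearGroup.mkOfDetNeZero (A σ) (hne σ)) ≠ 1
    have hdm : (!![1, 1; 0, 1] : Matrix (Fin 2) (Fin 2) k).det = 1 := by
      rw [Matrix.det_fin_two_of]; simp
    have hRσ : (R σ).det = 1 := by
      rw [hσ, Matrix.det_fin_three]; simp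
    have h3 : Matrix.ProjGenLinGroup.mk (Matrix.GeneralLinearGroup.mkOfDetNeZero (A σ) (hne σ)) =
        H98.Moebius.aff (1 : kˣ) (1 : k) := by
      rw [H98.Moebius.aff]
      apply hmk
      · exact hA1 _
      · simp
      · rw [hA2, hRσ, one_smul, hσ]
        ext i j
        fin_cases i <;> fin_cases j <;> simp [SM]
    rw [h3]
    intro h4
    rw [← H98.Moebius.aff_one] at h4
    exact one_ne_zero (H98.Moebius.aff_inj h4).2

end H67.Mod
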