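import Mathlib
import Cfsg.Agent.Lib.H67.Mod8

set_option autoImplicit false
set_option linter.unusedSectionVars false

/-! The homomorphism to `PGL₂` given by a small modular representation. -/

namespace H67.Mod

open Finset H67.Lat

variable {k : Type*} [Field k] {p : ℕ} [hp : Fact p.Prime] [CharP k p]
variable {V : Type*} [AddCommGroup V] [Module k V]
variable {G : Type*} [Group G] [Finite G]

/-- the conjugation representation -/
def cjR (ρ : Representation k G V) : Representation k G (Module.End k V) where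
  toFun g := (cjA ρ g).toLinearMap
  map_one' := by
    ext a : 1
    change ρ 1 * a * ρ 1⁻¹ = a
    rw [inv_one, map_one, one_mul, mul_one]
  map_mul' g h := by
    ext a : 1
    change ρ (g * h) * a * ρ (g * h)⁻¹ = ρ g * (ρ h * a * ρ h⁻¹) * ρ g⁻¹
    rw [mul_inv_rev, map_mul, map_mul]
    simp only [mul_assoc]

theorem cjR_apply (ρ : Representation k G V) (g : G) (a : Module.End k V) : cjR ρ g a = ρ g * a * ρ g⁻¹ := rfl

/-- the trace form -/
noncomputable def trF (k : Type*) [Field k] (V : Type*) [AddCommGroup V] [Module k V] :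
    Module.End k V →ₗ[k] Module.End k V →ₗ[k] k :=
  (LinearMap.mul k (Module.End k V)).compr₂ (LinearMap.trace k V)

theorem trF_apply (a b : Module.End k V) : trF k V a b = LinearMap.trace k V (a * b) := rfl

theorem trF_inv (ρ : Representation k G V) (g : G) (a b : Module.End k V) :
    trF k V (cjR ρ g a) (cjR ρ g b) = trF k V a b := by
  rw [trF_apply, trF_apply, cjR_apply, cjR_apply]
  have h1 : ρ g * a * ρ g⁻¹ * (ρ g * b * ρ g⁻¹) = ρ g * (a * b) * ρ g⁻¹ := by
    calc ρ g * a * ρ g⁻¹ * (ρ g * b * ρ g⁻¹) = ρ g * a * (ρ g⁻¹ * ρ g) * b * ρ g⁻¹ := by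
          simp only [mul_assoc]
      _ = _ := by rw [rho_inv_mul, mul_one]; simp only [mul_assoc]
  rw [h1, LinearMap.trace_mul_comm, ← mul_assoc, rho_inv_mul, one_mul]

theorem cjR_sub_pow (ρ : Representation k G V) {σ : G} {m n : ℕ} (hs : (ρ σ - 1) ^ m = 0) (hn : 2 * m ≤ n + 1) :
    (cjR ρ σ - 1) ^ n = 0 := by
  set L := LinearMap.mulLeft k (ρ σ) with hL
  set R := LinearMap.mulRight k (ρ σ⁻¹) with hR
  have h1 : cjR ρ σ - 1 = (L - 1) + L * (R - 1) := by
    ext a : 1
    change ρ σ * a * ρ σ⁻¹ - a = (ρ σ * a - a) + ρ σ * (a * ρ σ⁻¹ - a)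
    rw [mul_sub, mul_assoc]
    abel
  have hLR : Commute L R := by
    ext a : 1
    change ρ σ * (a * ρ σ⁻¹) = ρ σ * a * ρ σ⁻¹
    rw [mul_assoc]
  have h2 : (L - 1) ^ m = 0 := by
    have h3 : L - 1 = LinearMap.mulLeft k (ρ σ - 1) := by
      ext a : 1
      change ρ σ * a - a = (ρ σ - 1) * a
      rw [sub_mul, one_mul]
    rw [h3, LinearMap.pow_mulLeft, hs]
    ext a : 1
    change 0 * a = 0
    rw [zero_mul]
  have h4 : (R - 1) ^ m = 0 := by
    have h3 : R - 1 = LinearMap.mulRight k (ρ σ⁻¹ - 1) := by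
      ext a : 1
      change a * ρ σ⁻¹ - a = a * (ρ σ⁻¹ - 1)
      rw [mul_sub, mul_one]
    have h5 : ρ σ⁻¹ - 1 = (-ρ σ⁻¹) * (ρ σ - 1) := by
      rw [neg_mul, mul_sub, rho_inv_mul, mul_one, neg_sub]
    have h6 : Commute (-ρ σ⁻¹) (ρ σ - 1) := by
      apply Commute.neg_left
      apply Commute.sub_right
      · rw [commute_iff_eq, rho_inv_mul, rho_mul_inv]
      · exact Commute.one_right _
    rw [h3, LinearMap.pow_mulRight, h5, h6.mul_pow, hs, mul_zero]
    ext a : 1
    change a * 0 = 0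
    rw [mul_zero]
  have h5 : (L * (R - 1)) ^ m = 0 := by
    rw [(hLR.sub_right (Commute.one_right L)).mul_pow, h4, mul_zero]
  rw [h1]
  apply Commute.add_pow_eq_zero_of_add_le_succ_of_pow_eq_zero _ h2 h5 (by omega)
  have h6 : Commute (L - 1) L := (Commute.refl L).sub_left (Commute.one_left L)
  have h7 : Commute (L - 1) (R - 1) :=
    (hLR.sub_left (Commute.one_left R)).sub_right (Commute.one_right _)
  exact h6.mul_right h7

theorem exists_pgl_hom [IsAlgClosed k] [Module.Finite k V] [Nontrivial V] (ρ : Representation k G V)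
    (hirr : ∀ U : Submodule k V, (∀ g, ∀ v ∈ U, ρ g v ∈ U) → U = ⊥ ∨ U = ⊤)
    {σ : G} (hσ : orderOf σ = p) (hp2 : ¬ p ^ 2 ∣ Nat.card G) (hdim : 2 * Module.finrank k V < p)
    (hne : ρ σ ≠ 1) : ∃ φ : G →* Matrix.ProjGenLinGroup (Fin 2) k, φ σ ≠ 1 := by
  obtain ⟨x, h, y, r, hx, hr, hE, hN, e1, e2, e3, htr⟩ := exists_data ρ hirr hσ hp2 hdim hne
  have hr1 : 1 ≤ r := by
    rcases Nat.eq_zero_or_pos r with h0 | h0
    · exfalso
      rw [h0, zero_add, pow_one] at hx
      rw [hx, zero_mul, map_zero] at htr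
      exact htr rfl
    · exact h0
  have h2 : (2 : k) ≠ 0 := by
    intro h0
    have h3 : ((2 : ℕ) : k) = 0 := by exact_mod_cast h0
    have h4 := Nat.le_of_dvd (by norm_num) ((CharP.cast_eq_zero_iff k p _).1 h3)
    omega
  have hEh := E_h (p := p) e2 hx (by omega)
  have hEy := E_y (p := p) e1 e2 hx (by omega)
  have hEx : EE k p x * x = x * EE k p x := by
    rw [EE, sum_mul, mul_sum]
    exact sum_congr rfl (fun i _ => by rw [smul_mul_assoc, mul_smul_comm, ← pow_succ, ← pow_succ'])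
  rw [hE] at hEh hEy hEx
  have hs : (ρ σ - 1) ^ (r + 1) = 0 := by
    obtain ⟨w, hw, hw2⟩ := EE_eq (k := k) (p := p) hp.out.one_lt x
    have hsx : ρ σ - 1 = x * (1 + x * w) := by
      rw [← hE, hw2, add_sub_cancel_left]
    have hxw : Commute x (1 + x * w) :=
      ((Commute.one_left x).add_left ((Commute.refl x).mul_left hw)).symm
    rw [hsx, hxw.mul_pow, hx, zero_mul]
  have hTT : TT p (cjR ρ σ) = 0 := by
    rw [TT_eq]
    exact cjR_sub_pow ρ hs (by omega)
  have t1 : LinearMap.trace k V (x * x) = 0 := by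
    have h3 : LinearMap.trace k V ((h * x - x * h) * x) = 0 := by
      rw [sub_mul, map_sub, sub_eq_zero, LinearMap.trace_mul_comm, ← mul_assoc]
    rw [e2, smul_mul_assoc, map_smul, smul_eq_mul] at h3
    exact (mul_eq_zero.1 h3).resolve_left h2
  have t2 : LinearMap.trace k V (x * h) = 0 := by
    rw [← e1, mul_sub, map_sub, sub_eq_zero, ← mul_assoc x y x]
    exact LinearMap.trace_mul_comm k x (x * y)
  have hcx : ∀ a b : Module.End k V, ρ σ * a = b * ρ σ → cjR ρ σ a = b := by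
    intro a b hab
    rw [cjR_apply, hab, mul_assoc, rho_mul_inv, mul_one]
  obtain ⟨R, hR1, hR2⟩ := exists_so3 (cjR ρ) (trF k V) (fun a b => LinearMap.trace_mul_comm k a b)
    (trF_inv ρ) hσ hp2 hTT h2 (x := x) (h := h) (y := y) (c := LinearMap.trace k V (x * y)) htr
    (hcx _ _ hEx) (hcx _ _ hEh) (hcx _ _ hEy) t1 t2 rfl hN
  exact exists_pgl h2 R hR1 hR2

end H67.Mod
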