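import Mathlib
import Cfsg.Agent.Lib.H67.Mod9
import Cfsg.Agent.Lib.H67.Mod10
import Cfsg.Agent.Lib.H67.Mod12

set_option autoImplicit false
set_option linter.unusedSectionVars false

/-! Small faithful representations of groups with `p ‖ |G|`: the map to `PGL₂`. -/

namespace H67.Mod

open Finset
open scoped Pointwise

section grp

variable {p : ℕ} [hp : Fact p.Prime] {G : Type*} [Group G] [Finite G]

theorem conj_of_order (hsq : ¬ p ^ 2 ∣ Nat.card G) {s t : G} (hs : orderOf s = p) (ht : orderOf t = p) :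
    ∃ g : G, g * s * g⁻¹ ∈ Subgroup.zpowers t := by
  have hdiv : p ∣ Nat.card G := hs ▸ orderOf_dvd_natCard s
  have hf : (Nat.card G).factorization p = 1 := by
    have h1 : 1 ≤ (Nat.card G).factorization p :=
      (hp.out.dvd_iff_one_le_factorization Nat.card_pos.ne').1 hdiv
    have h2 : ¬ 2 ≤ (Nat.card G).factorization p := by
      intro h
      exact hsq ((hp.out.pow_dvd_iff_le_factorization Nat.card_pos.ne').2 h)
    omega
  have hpart : ∀ u : G, orderOf u = p → Nat.card (Subgroup.zpowers u) = p ^ (Nat.card G).factorization p := by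
    intro u hu
    rw [hf, pow_one, Nat.card_zpowers, hu]
  obtain ⟨g, hg⟩ := MulAction.exists_smul_eq G (Sylow.ofCard (Subgroup.zpowers s) (hpart s hs))
    (Sylow.ofCard (Subgroup.zpowers t) (hpart t ht))
  refine ⟨g, ?_⟩
  have h3 := congrArg (fun Q : Sylow p G => (Q : Subgroup G)) hg
  simp only [Sylow.coe_subgroup_smul, Sylow.coe_ofCard] at h3
  rw [← h3]
  exact Subgroup.smul_mem_pointwise_smul s (MulAut.conj g) _ (Subgroup.mem_zpowers s)

theorem centralizes_of_small {k : Type*} [Field k] [CharP k p] {V : Type*} [AddCommGroup V] [Module k V]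
    [Module.Finite k V] (τ : Representation k G V) (hτ : ∀ g, τ g = 1 → g = 1)
    (hdim : Module.finrank k V + 1 < p) (N : Subgroup G) [hNn : N.Normal] (hN : (Nat.card N).Coprime p)
    {σ : G} (hσ : orderOf σ = p) : ∀ m ∈ N, m * σ = σ * m := by
  intro m hm
  set H := N ⊔ Subgroup.zpowers σ with hH
  have hNH : N ≤ H := le_sup_left
  have hσH : σ ∈ H := (le_sup_right : Subgroup.zpowers σ ≤ H) (Subgroup.mem_zpowers σ)
  have hinf : N ⊓ Subgroup.zpowers σ = ⊥ := by
    apply Disjoint.eq_bot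
    apply Subgroup.disjoint_of_coprime_natCard
    rw [Nat.card_zpowers, hσ]
    exact hN
  have hidx : (N.subgroupOf H).index = p := by
    change N.relIndex H = p
    rw [hH, sup_comm, Subgroup.relIndex_sup_right, ← Subgroup.inf_relIndex_right, hinf, Subgroup.relIndex_bot_left,
      Nat.card_zpowers, hσ]
  have hcard : (Nat.card (N.subgroupOf H)).Coprime p := by
    rw [Nat.card_congr (Subgroup.subgroupOfEquivOfLe hNH).toEquiv]
    exact hN
  have hσ' : orderOf (⟨σ, hσH⟩ : H) = p := by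
    rw [← hσ]
    exact (orderOf_injective H.subtype H.subtype_injective ⟨σ, hσH⟩).symm
  have h1 := zpowers_normal_of_small (Γ := H) (k := k) (p := p) (V := V) (τ.comp H.subtype)
    (fun g hg => Subtype.ext (hτ g hg)) hσ' (N.subgroupOf H) hcard hidx hdim
  have h2 := h1.conj_mem _ (Subgroup.mem_zpowers _) (⟨m, hNH hm⟩ : H)
  have h3 : m * σ * m⁻¹ ∈ Subgroup.zpowers σ := by
    obtain ⟨j, hj⟩ := Subgroup.mem_zpowers_iff.1 h2
    refine Subgroup.mem_zpowers_iff.2 ⟨j, ?_⟩
    have h4 := congrArg Subtype.val hj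
    simpa using h4
  have h4 : m * σ * m⁻¹ * σ⁻¹ ∈ N ⊓ Subgroup.zpowers σ := by
    refine ⟨?_, (Subgroup.zpowers σ).mul_mem h3 ((Subgroup.zpowers σ).inv_mem (Subgroup.mem_zpowers σ))⟩
    have h5 : m * σ * m⁻¹ * σ⁻¹ = m * (σ * m⁻¹ * σ⁻¹) := by group
    rw [h5]
    exact N.mul_mem hm (hNn.conj_mem _ (N.inv_mem hm) σ)
  rw [hinf, Subgroup.mem_bot, mul_inv_eq_one, mul_inv_eq_iff_eq_mul] at h4
  exact h4

/-- a product of commuting elements of orders dividing `p` and prime to `p` -/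
theorem eq_one_of_comm_pow {N : Subgroup G} (hN : (Nat.card N).Coprime p) {s m : G} (hs : s ^ p = 1) (hm : m ∈ N)
    (hc : Commute s m) (h : (s * m) ^ p = 1) : m = 1 := by
  rw [hc.mul_pow, hs, one_mul] at h
  have h1 : orderOf m ∣ p := orderOf_dvd_of_pow_eq_one h
  have h2 : orderOf m ∣ Nat.card N := by
    have := orderOf_dvd_natCard (⟨m, hm⟩ : N)
    rwa [← Subgroup.orderOf_coe] at this
  have h3 := Nat.dvd_gcd h2 h1
  rw [hN] at h3
  exact orderOf_eq_one_iff.1 (Nat.dvd_one.1 h3)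

end grp

section red

variable {p : ℕ} [hp : Fact p.Prime] {G : Type*} [Group G] [Finite G]

theorem card_of_pgroup (hsq : ¬ p ^ 2 ∣ Nat.card G)
    (hnn : ∀ H : Subgroup G, H.Normal → Nat.card H ≠ p) (K : Subgroup G) (hK : K.Normal)
    (h : ∀ g ∈ K, ¬ p ∣ orderOf g → g = 1) : K = ⊥ := by
  have h1 : IsPGroup p K := by
    intro g
    have h2 : orderOf (g : G) ≠ 0 := (orderOf_pos (g : G)).ne'
    obtain ⟨a, m, hm, ham⟩ := Nat.exists_eq_pow_mul_and_not_dvd h2 p hp.out.one_lt.ne'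
    refine ⟨a, ?_⟩
    apply Subtype.ext
    rw [Subgroup.coe_pow, Subgroup.coe_one]
    apply h _ (pow_mem g.2 _)
    rw [orderOf_pow_of_dvd (pow_ne_zero _ hp.out.ne_zero) ⟨m, ham⟩, ham,
      Nat.mul_div_cancel_left _ (pow_pos hp.out.pos _)]
    exact hm
  obtain ⟨j, hj⟩ := IsPGroup.iff_card.1 h1
  have hj1 : j ≤ 1 := by
    by_contra hcon
    exact hsq ((pow_dvd_pow p (by omega)).trans (hj ▸ Subgroup.card_subgroup_dvd_card K))
  rcases Nat.le_one_iff_eq_zero_or_eq_one.1 hj1 with h3 | h3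
  · rw [h3, pow_zero] at hj
    exact Subgroup.eq_bot_of_card_eq K hj
  · rw [h3, pow_one] at hj
    exact absurd hj (hnn K hK)

theorem faithful_mod (hsq : ¬ p ^ 2 ∣ Nat.card G)
    (hnn : ∀ H : Subgroup G, H.Normal → Nat.card H ≠ p) {n : ℕ}
    (ρ : Representation ℂ G (Fin n → ℂ)) (hρ : ∀ g, ρ g = 1 → g = 1) :
    ∃ (k : Type) (_ : Field k) (_ : IsAlgClosed k) (_ : CharP k p) (τ : Representation k G (Fin n → k)),
      ∀ g, τ g = 1 → g = 1 := by
  obtain ⟨k, i1, i2, i3, τ, hτ⟩ := exists_reduction p ρ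
  refine ⟨k, i1, i2, i3, τ, ?_⟩
  have h1 := card_of_pgroup hsq hnn (MonoidHom.ker τ) inferInstance (fun g hg hpg => hρ g (hτ g hg hpg))
  intro g hg
  have h2 : g ∈ MonoidHom.ker τ := hg
  rwa [h1, Subgroup.mem_bot] at h2

theorem exists_phi (hsq : ¬ p ^ 2 ∣ Nat.card G)
    (hnn : ∀ H : Subgroup G, H.Normal → Nat.card H ≠ p) {n : ℕ} {k : Type} [Field k] [IsAlgClosed k] [CharP k p]
    (τ : Representation k G (Fin n → k)) (hτ : ∀ g, τ g = 1 → g = 1) (hn : 2 * n < p) {σ : G} (hσ : orderOf σ = p) :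
    ∃ φ : G →* Matrix.ProjGenLinGroup (Fin 2) k, φ σ ≠ 1 := by
  have hσ1 : σ ≠ 1 := by
    rintro rfl
    rw [orderOf_one] at hσ
    exact hp.out.one_lt.ne hσ
  obtain ⟨g, hg, hgp, hg1⟩ : ∃ g ∈ Subgroup.normalClosure {σ}, ¬ p ∣ orderOf g ∧ g ≠ 1 := by
    by_contra hcon
    push Not at hcon
    have h1 := card_of_pgroup hsq hnn (Subgroup.normalClosure {σ}) inferInstance hcon
    have h2 : σ ∈ Subgroup.normalClosure {σ} := Subgroup.subset_normalClosure rfl
    rw [h1, Subgroup.mem_bot] at h2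
    exact hσ1 h2
  have hq : (orderOf g : k) ≠ 0 := fun h => hgp ((CharP.cast_eq_zero_iff k p _).1 h)
  obtain ⟨W, i1, i2, i3, ρ', h1, h2, h3⟩ := exists_constituent hq (pow_orderOf_eq_one g) n (Fin n → k) τ
    (by rw [Module.finrank_fin_fun]) (fun h => hg1 (hτ g h))
  have hnt : Nontrivial W := by
    by_contra hcon
    rw [not_nontrivial_iff_subsingleton] at hcon
    exact h3 (LinearMap.ext (fun v => Subsingleton.elim _ _))
  have h4 : ρ' σ ≠ 1 := by
    intro h5
    apply h3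
    have h6 : Subgroup.normalClosure {σ} ≤ MonoidHom.ker ρ' := by
      apply Subgroup.normalClosure_le_normal
      intro x hx
      rw [Set.mem_singleton_iff] at hx
      rw [hx]
      exact h5
    exact h6 hg
  exact exists_pgl_hom ρ' h2 hσ hsq (by omega) h4

end red

end H67.Mod
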