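import Mathlib

set_option autoImplicit false
set_option linter.unusedSectionVars false

/-! An eigenvalue count. -/

namespace H67.Mod

open Finset

theorem exists_eig {W : Type*} [AddCommGroup W] [Module ℂ W] [Module.Finite ℂ W] {p : ℕ} (hp : p.Prime)
    (S : Module.End ℂ W) (hS : S ^ p = 1) (hS1 : S ≠ 1) :
    ∃ (ζ : ℂ) (w : W), w ≠ 0 ∧ S w = ζ • w ∧ ζ ≠ 1 ∧ ζ ^ p = 1 := by
  set Φ : Module.End ℂ W := ∑ i ∈ range p, S ^ i with hΦ
  have h1 : Φ * (S - 1) = 0 := by rw [hΦ, geom_sum_mul, hS, sub_self]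
  have h2 : ∃ u, (S - 1) u ≠ 0 := by
    by_contra hcon
    push Not at hcon
    exact hS1 (sub_eq_zero.1 (LinearMap.ext hcon))
  obtain ⟨u, hu⟩ := h2
  have h3 : (S - 1) u ∈ LinearMap.ker Φ := by
    rw [LinearMap.mem_ker, ← Module.End.mul_apply, h1, LinearMap.zero_apply]
  have hcomm : Commute Φ S := Commute.sum_left _ _ _ (fun i _ => (Commute.refl S).pow_left i)
  have hst : ∀ v ∈ LinearMap.ker Φ, S v ∈ LinearMap.ker Φ := by
    intro v hv
    rw [LinearMap.mem_ker] at hv ⊢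
    rw [← Module.End.mul_apply, hcomm.eq, Module.End.mul_apply, hv, map_zero]
  have : Nontrivial (LinearMap.ker Φ) := ⟨⟨⟨_, h3⟩, 0, fun h => hu (congrArg Subtype.val h)⟩⟩
  obtain ⟨c, hc⟩ := Module.End.exists_eigenvalue (S.restrict hst)
  obtain ⟨w, hw⟩ := hc.exists_hasEigenvector
  have hw0 : (w : W) ≠ 0 := fun h => hw.2 (Subtype.ext h)
  have hw1 : S (w : W) = c • (w : W) := congrArg Subtype.val hw.apply_eq_smul
  have hpow : ∀ i : ℕ, (S ^ i) (w : W) = c ^ i • (w : W) := by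
    intro i
    induction i with
    | zero => simp
    | succ i ih => rw [pow_succ', Module.End.mul_apply, ih, map_smul, hw1, smul_smul, pow_succ]
  refine ⟨c, w, hw0, hw1, ?_, ?_⟩
  · rintro rfl
    have h4 : (∑ i ∈ range p, S ^ i) (w : W) = 0 := w.2
    rw [LinearMap.sum_apply, sum_congr rfl (fun i _ => hpow i)] at h4
    simp only [one_pow, one_smul, sum_const, card_range] at h4
    rw [← Nat.cast_smul_eq_nsmul ℂ] at h4
    rcases smul_eq_zero.1 h4 with h5 | h5
    · exact hp.ne_zero (by exact_mod_cast h5)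
    · exact hw0 h5
  · have h4 := hpow p
    rw [hS, Module.End.one_apply] at h4
    have h5 : (c ^ p - 1) • (w : W) = 0 := by rw [sub_smul, ← h4, one_smul, sub_self]
    exact sub_eq_zero.1 ((smul_eq_zero.1 h5).resolve_right hw0)

theorem eig_bound {W : Type*} [AddCommGroup W] [Module ℂ W] [Module.Finite ℂ W] {p : ℕ} (hp : p.Prime)
    (S : Module.End ℂ W) (hS : S ^ p = 1) (hS1 : S ≠ 1) (A : Finset ℕ) (hA : ∀ a ∈ A, 0 < a ∧ a < p)
    (hT : ∀ a ∈ A, ∃ T T' : Module.End ℂ W, T' * T = 1 ∧ T * S * T' = S ^ a) :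
    A.card ≤ Module.finrank ℂ W := by
  classical
  have : Fact p.Prime := ⟨hp⟩
  obtain ⟨ζ, w, hw0, hw1, hζ1, hζp⟩ := exists_eig hp S hS hS1
  have hprim : IsPrimitiveRoot ζ p := by
    have := IsPrimitiveRoot.orderOf ζ
    rwa [orderOf_eq_prime hζp hζ1] at this
  have hinv : ∀ a ∈ A, a * ((a : ZMod p)⁻¹).val % p = 1 := by
    intro a ha
    have h1 : (a : ZMod p) ≠ 0 := by
      intro h0
      have := Nat.le_of_dvd (hA a ha).1 ((ZMod.natCast_eq_zero_iff a p).1 h0)
      have := (hA a ha).2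
      omega
    have h2 : ((a * ((a : ZMod p)⁻¹).val : ℕ) : ZMod p) = ((1 : ℕ) : ZMod p) := by
      push_cast
      rw [ZMod.natCast_zmod_val, mul_inv_cancel₀ h1]
    have h3 := (ZMod.natCast_eq_natCast_iff' _ _ _).1 h2
    rw [h3, Nat.mod_eq_of_lt hp.one_lt]
  choose! T T' hT1 hT2 using hT
  have hvec : ∀ a : A, S.HasEigenvector (ζ ^ (((a : ℕ) : ZMod p)⁻¹).val) (T a w) := by
    intro a
    constructor
    · rw [Module.End.mem_eigenspace_iff]
      have h1 : (S ^ (a : ℕ)) (T a w) = ζ • T a w := by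
        rw [← hT2 a a.2]
        rw [Module.End.mul_apply, Module.End.mul_apply, ← Module.End.mul_apply (T' _) (T _), hT1 a a.2,
          Module.End.one_apply, hw1, map_smul]
      have h2 : ∀ i : ℕ, (S ^ ((a : ℕ) * i)) (T a w) = ζ ^ i • T a w := by
        intro i
        induction i with
        | zero => simp
        | succ i ih =>
          rw [mul_add, mul_one, add_comm, pow_add, Module.End.mul_apply, ih, map_smul, h1, smul_smul, pow_succ]
      rw [← h2]
      have h3 : S ^ ((a : ℕ) * (((a : ℕ) : ZMod p)⁻¹).val) = S := by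
        rw [pow_eq_pow_mod _ hS, hinv a a.2, pow_one]
      rw [h3]
    · intro h0
      apply hw0
      rw [← Module.End.one_apply w (R := ℂ), ← hT1 a a.2, Module.End.mul_apply, h0, map_zero]
  have hinj : Function.Injective (fun a : A => ζ ^ (((a : ℕ) : ZMod p)⁻¹).val) := by
    intro a b hab
    have h1 := hprim.pow_inj (ZMod.val_lt _) (ZMod.val_lt _) hab
    have h2 := ZMod.val_injective p h1
    have h3 := inv_injective h2
    rw [ZMod.natCast_eq_natCast_iff', Nat.mod_eq_of_lt (hA a a.2).2, Nat.mod_eq_of_lt (hA b b.2).2] at h3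
    exact Subtype.ext h3
  have hli := Module.End.eigenvectors_linearIndependent' S _ hinj _ hvec
  have := hli.fintype_card_le_finrank
  simpa using this

/-- the version for invariant subspaces -/
theorem eig_bound_sub {V : Type*} [AddCommGroup V] [Module ℂ V] [Module.Finite ℂ V] {p : ℕ} (hp : p.Prime)
    {G : Type*} [Group G] (ρ : Representation ℂ G V) (R : Subgroup G) (W : Submodule ℂ V)
    (hW : ∀ g ∈ R, ∀ w ∈ W, ρ g w ∈ W) {σ : G} (hσR : σ ∈ R) (hσ : σ ^ p = 1) (A : Finset ℕ)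
    (hA : ∀ a ∈ A, 0 < a ∧ a < p) (hconj : ∀ a ∈ A, ∃ r ∈ R, r * σ * r⁻¹ = σ ^ a)
    (hne : ∃ w ∈ W, ρ σ w ≠ w) : A.card ≤ Module.finrank ℂ W := by
  let ρW : Representation ℂ R W :=
    { toFun := fun g => (ρ g).restrict (hW g g.2)
      map_one' := by ext v; simp [LinearMap.restrict_apply]
      map_mul' := fun g h => by ext v; simp [LinearMap.restrict_apply] }
  have hρ : ∀ (g : R) (w : W), (ρW g w : V) = ρ g w := fun g w => rfl
  apply eig_bound hp (ρW ⟨σ, hσR⟩) _ _ A hA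
  · intro a ha
    obtain ⟨r, hr, h1⟩ := hconj a ha
    refine ⟨ρW ⟨r, hr⟩, ρW ⟨r, hr⟩⁻¹, ?_, ?_⟩
    · rw [← map_mul, inv_mul_cancel, map_one]
    · rw [← map_mul, ← map_mul, ← map_pow]
      congr 1
      exact Subtype.ext h1
  · rw [← map_pow]
    have : (⟨σ, hσR⟩ : R) ^ p = 1 := Subtype.ext hσ
    rw [this, map_one]
  · intro h1
    obtain ⟨w, hw, hw1⟩ := hne
    apply hw1
    have h2 : ρW ⟨σ, hσR⟩ ⟨w, hw⟩ = ⟨w, hw⟩ := by rw [h1]; rfl
    exact congrArg Subtype.val h2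

end H67.Mod
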