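import Mathlib
import Cfsg.Agent.Lib.H67.Mod11
import Cfsg.Agent.Lib.H67.Mod13
import Cfsg.Agent.Lib.H98.Dickson
import Cfsg.Agent.Lib.H98.DicksonAbs
import Cfsg.Agent.Lib.H98.DicksonPGL

set_option autoImplicit false
set_option linter.unusedSectionVars false

/-! Brauer's bound for groups with `p ‖ |G|`. -/

namespace H67.Mod

open Finset MulAction
open scoped Pointwise H98.Moebius

variable {p : ℕ} [hp : Fact p.Prime] {G : Type*} [Group G] [Finite G]

theorem five_le (hnn : ∀ H : Subgroup G, H.Normal → Nat.card H ≠ p) {n : ℕ}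
    (ρ : Representation ℂ G (Fin n → ℂ)) (hρ : ∀ g, ρ g = 1 → g = 1) (hn : 2 * n < p)
    {σ : G} (hσ : orderOf σ = p) : 5 ≤ p := by
  by_contra hcon
  have hp4 : p ≠ 4 := by
    rintro rfl
    exact absurd hp.out (by norm_num)
  have hn1 : n ≤ 1 := by omega
  have hsub : Subsingleton (Fin n) := Fin.subsingleton_iff_le_one.2 hn1
  have hcomm : ∀ g h : G, g * h = h * g := by
    intro g h
    have h1 : ρ (g * h) = ρ (h * g) := by
      rw [map_mul, map_mul]
      apply (LinearMap.toMatrixAlgEquiv' (R := ℂ) (n := Fin n)).injective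
      rw [map_mul, map_mul]
      ext i j
      rw [Matrix.mul_apply, Matrix.mul_apply]
      refine sum_congr rfl (fun l _ => ?_)
      rw [Subsingleton.elim i l, Subsingleton.elim j l, mul_comm]
    have h2 : (h * g)⁻¹ * (g * h) = 1 := by
      apply hρ
      rw [map_mul, h1, ← map_mul, inv_mul_cancel, map_one]
    exact (inv_mul_eq_one.1 h2).symm
  apply hnn (Subgroup.zpowers σ)
  · constructor
    intro x hx g
    rw [hcomm g x, mul_assoc, mul_inv_cancel, mul_one]
    exact hx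
  · rw [Nat.card_zpowers, hσ]

theorem main (hdiv : p ∣ Nat.card G) (hsq : ¬ p ^ 2 ∣ Nat.card G)
    (hnn : ∀ H : Subgroup G, H.Normal → Nat.card H ≠ p) {n : ℕ}
    (ρ : Representation ℂ G (Fin n → ℂ)) (hρ : ∀ g, ρ g = 1 → g = 1) (hn : 2 * n < p) :
    5 ≤ p ∧ 2 * n + 1 = p ∧ ∃ (k : Type) (_ : Field k) (φ : G →* Matrix.ProjGenLinGroup (Fin 2) k) (K : Subfield k),
      Nat.card K = p ∧ Nonempty (φ.range ≃* Matrix.ProjectiveSpecialLinearGroup (Fin 2) K) ∧
      (∀ m ∈ φ.ker, ∀ s : G, orderOf s = p → m * s = s * m) ∧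
      ∃ σ : G, orderOf σ = p ∧ ∃ A : Finset ℕ, n ≤ A.card ∧
        ∀ a ∈ A, (0 < a ∧ a < p) ∧ ∃ g, g * σ * g⁻¹ = σ ^ a := by
  classical
  obtain ⟨σ₀, hσ₀⟩ := exists_prime_orderOf_dvd_card' p hdiv
  have h5 := five_le hnn ρ hρ hn hσ₀
  obtain ⟨k, i1, i2, i3, τ, hτ⟩ := faithful_mod hsq hnn ρ hρ
  obtain ⟨φ, hφ⟩ := exists_phi hsq hnn τ hτ hn hσ₀
  have hcop : (Nat.card φ.ker).Coprime p := by
    rw [Nat.coprime_comm, hp.out.coprime_iff_not_dvd]
    intro hd
    obtain ⟨t, ht⟩ := exists_prime_orderOf_dvd_card' p hd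
    have ht' : orderOf (t : G) = p := by rw [Subgroup.orderOf_coe, ht]
    obtain ⟨g, hg⟩ := conj_of_order hsq hσ₀ ht'
    have h1 : g * σ₀ * g⁻¹ ∈ φ.ker := (Subgroup.zpowers_le.2 t.2) hg
    rw [MonoidHom.mem_ker, map_mul, map_mul, map_inv, mul_inv_eq_one] at h1
    exact hφ (mul_eq_left.1 h1)
  have hE : ∀ m ∈ φ.ker, ∀ s : G, orderOf s = p → m * s = s * m := by
    intro m hm s hs
    exact centralizes_of_small τ hτ (by rw [Module.finrank_fin_fun]; omega) φ.ker hcop hs m hm
  have hL : ∀ s t : G, s ^ p = 1 → t ^ p = 1 → φ t = φ s → t = s := by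
    intro s t hs ht hst
    have hm : s⁻¹ * t ∈ φ.ker := by
      rw [MonoidHom.mem_ker, map_mul, map_inv, hst, inv_mul_cancel]
    have hc : Commute s (s⁻¹ * t) := by
      by_cases hs1 : s = 1
      · rw [hs1]; exact Commute.one_left _
      · exact (hE _ hm s (orderOf_eq_prime hs hs1)).symm
    have h1 := eq_one_of_comm_pow hcop hs hm hc (by rw [mul_inv_cancel_left]; exact ht)
    exact (inv_mul_eq_one.1 h1).symm
  have hfinR : Finite φ.range := (Set.finite_range φ).to_subtype
  let act : MulAction φ.range (OnePoint k) := MulAction.compHom (OnePoint k) φ.range.subtype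
  have hM : H98.DicksonMoeb.Moeb p φ.range (OnePoint k) :=
    H98.Moebius.moeb p φ.range.subtype φ.range.subtype_injective
  have hΓsq : ¬ p ^ 2 ∣ Nat.card φ.range := by
    intro h
    exact hsq (h.trans (Subgroup.card_range_dvd φ))
  have hord : ∀ s : G, orderOf s = p → orderOf (⟨φ s, s, rfl⟩ : φ.range) = p := by
    intro s hs
    apply orderOf_eq_prime
    · apply Subtype.ext
      change (φ s) ^ p = 1
      rw [← map_pow, ← hs, pow_orderOf_eq_one, map_one]
    · intro h
      have h1 : φ s = φ 1 := by rw [map_one]; exact congrArg Subtype.val h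
      have h2 := hL 1 s (one_pow p) (by rw [← hs]; exact pow_orderOf_eq_one s) h1
      rw [h2, orderOf_one] at hs
      exact hp.out.one_lt.ne hs
  have hΓdiv : p ∣ Nat.card φ.range := hord σ₀ hσ₀ ▸ orderOf_dvd_natCard _
  -- cardinality of Sylow subgroups
  have hcardP : ∀ P : Sylow p φ.range, Nat.card (P : Subgroup φ.range) = p := by
    intro P
    obtain ⟨j, hj⟩ := IsPGroup.iff_card.1 P.isPGroup'
    have hj1 : j ≤ 1 := by
      by_contra hcon
      exact hΓsq ((pow_dvd_pow p (by omega)).trans (hj ▸ Subgroup.card_subgroup_dvd_card (P : Subgroup φ.range)))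
    have hj0 : j ≠ 0 := by
      intro h
      rw [h, pow_zero] at hj
      exact P.ne_bot_of_dvd_card hΓdiv (Subgroup.eq_bot_of_card_eq _ hj)
    rw [hj, show j = 1 by omega, pow_one]
  have hconjP : ∀ P : Sylow p φ.range, ∃ σ : G, orderOf σ = p ∧ (⟨φ σ, σ, rfl⟩ : φ.range) ∈ P := by
    intro P
    obtain ⟨t, ht⟩ := exists_prime_orderOf_dvd_card' (G := (P : Subgroup φ.range)) p (by rw [hcardP])
    have ht' : orderOf (t : φ.range) = p := by rw [Subgroup.orderOf_coe, ht]
    obtain ⟨⟨_, g, rfl⟩, hg⟩ := conj_of_order hΓsq (hord σ₀ hσ₀) ht'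
    refine ⟨g * σ₀ * g⁻¹, ?_, ?_⟩
    · rw [← MulAut.conj_apply, MulEquiv.orderOf_eq, hσ₀]
    · have h1 := (Subgroup.zpowers_le.2 t.2) hg
      have h2 : (⟨φ (g * σ₀ * g⁻¹), g * σ₀ * g⁻¹, rfl⟩ : φ.range) =
          ⟨φ g, g, rfl⟩ * ⟨φ σ₀, σ₀, rfl⟩ * ⟨φ g, g, rfl⟩⁻¹ := Subtype.ext (by simp)
      change (⟨φ (g * σ₀ * g⁻¹), g * σ₀ * g⁻¹, rfl⟩ : φ.range) ∈ (P : Subgroup φ.range)
      rw [h2]
      exact h1
  have hzp : ∀ (P : Sylow p φ.range) (σ : G), orderOf σ = p → (⟨φ σ, σ, rfl⟩ : φ.range) ∈ P →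
      (P : Subgroup φ.range) = Subgroup.zpowers (⟨φ σ, σ, rfl⟩ : φ.range) := by
    intro P σ hσ hσP
    symm
    apply Subgroup.eq_of_le_of_card_ge
    · rw [Subgroup.zpowers_le]; exact hσP
    · rw [Nat.card_zpowers, hord σ hσ, hcardP]
  rcases H98.DicksonAbs.dickson_abs hM with h | ⟨c, _, _, h, _⟩ | ⟨_, x₀, hx₀, γ, hγ1, hγ⟩ | ⟨h, _, _⟩ | ⟨h, _, _⟩ |
    ⟨h, _, _⟩ | ⟨P, x₀, k', hx₀, hP2, hstab, horb, hk'⟩
  · exact absurd hΓdiv h.1
  · have := h hΓdiv
    omega
  · exfalso
    obtain ⟨P, hP⟩ := H98.Dickson.exists_sylow_of_fixed hM x₀ γ hγ1 hγ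
    have hnorm : (P : Subgroup φ.range).Normal := by
      rw [← Subgroup.normalizer_eq_top_iff, eq_top_iff]
      intro x _
      exact H98.Dickson.stabilizer_le_normalizer (P : Subgroup φ.range) x₀ hP (hx₀ x)
    obtain ⟨σ, hσ, hσP⟩ := hconjP P
    have hPz := hzp P σ hσ hσP
    apply hnn (Subgroup.zpowers σ)
    · have key : ∀ g : G, g * σ * g⁻¹ ∈ Subgroup.zpowers σ := by
        intro g
        have h1 : (⟨φ (g * σ * g⁻¹), _, rfl⟩ : φ.range) ∈ (P : Subgroup φ.range) := by
          have h2 := hnorm.conj_mem _ hσP ⟨φ g, g, rfl⟩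
          convert h2 using 1
          apply Subtype.ext
          simp
        rw [hPz] at h1
        obtain ⟨j, hj⟩ := mem_powers_iff_mem_zpowers.2 h1
        have hj' : φ (g * σ * g⁻¹) = φ (σ ^ j) := by
          rw [map_pow]
          exact (congrArg Subtype.val hj).symm
        have hσp : σ ^ p = 1 := by rw [← hσ]; exact pow_orderOf_eq_one σ
        have h2 := hL (σ ^ j) (g * σ * g⁻¹) (by rw [← pow_mul, mul_comm, pow_mul, hσp, one_pow])
          (by rw [conj_pow, hσp, mul_one, mul_inv_cancel]) hj'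
        rw [h2]
        exact pow_mem (Subgroup.mem_zpowers σ) j
      constructor
      intro x hx g
      obtain ⟨j, rfl⟩ := mem_powers_iff_mem_zpowers.2 hx
      change g * σ ^ j * g⁻¹ ∈ _
      rw [← conj_pow]
      exact pow_mem (key g) j
    · rw [Nat.card_zpowers, hσ]
  · exact absurd hΓdiv h
  · exact absurd hΓdiv h
  · have := h hΓdiv
    omega
  · obtain ⟨σ, hσ, hσP⟩ := hconjP P
    have hPz := hzp P σ hσ hσP
    set s : φ.range := ⟨φ σ, σ, rfl⟩ with hs
    have hso : orderOf s = p := hord σ hσ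
    have hs1 : s ≠ 1 := by
      intro h
      rw [h, orderOf_one] at hso
      exact hp.out.one_lt.ne hso
    have hsfix : fixedBy (OnePoint k) s = {x₀} := ((hx₀ s).1 hσP).resolve_left hs1
    have hsp : s ^ p = 1 := by rw [← hso]; exact pow_orderOf_eq_one s
    have hσp : σ ^ p = 1 := by rw [← hσ]; exact pow_orderOf_eq_one σ
    have hex : ∀ γ : stabilizer φ.range x₀, ∃ a : ℕ, (0 < a ∧ a < p) ∧ (γ : φ.range) * s * (γ : φ.range)⁻¹ = s ^ a := by
      intro γ
      have h1 := H98.Dickson.stabilizer_le_normalizer (P : Subgroup φ.range) x₀ hx₀ γ.2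
      have h2 := (Subgroup.mem_normalizer_iff.1 h1 s).1 hσP
      have h2' : (γ : φ.range) * s * (γ : φ.range)⁻¹ ∈ (P : Subgroup φ.range) := h2
      rw [hPz] at h2'
      obtain ⟨j, hj⟩ := mem_powers_iff_mem_zpowers.2 h2'
      have hj : s ^ j = (γ : φ.range) * s * (γ : φ.range)⁻¹ := hj
      refine ⟨j % p, ⟨?_, Nat.mod_lt _ hp.out.pos⟩, ?_⟩
      · rw [Nat.pos_iff_ne_zero]
        intro h0
        rw [pow_eq_pow_mod j hsp, h0, pow_zero] at hj
        have h3 : (γ : φ.range) * s = γ := by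
          rw [eq_comm, mul_inv_eq_one] at hj
          exact hj
        exact hs1 (mul_eq_left.1 h3)
      · rw [← pow_eq_pow_mod j hsp, hj]
    choose a ha1 ha2 using hex
    let _ : Fintype (stabilizer φ.range x₀) := Fintype.ofFinite _
    set A : Finset ℕ := (univ : Finset (stabilizer φ.range x₀)).image a with hA
    have hAk : k' ≤ A.card := by
      have h1 : (univ : Finset (stabilizer φ.range x₀)).card ≤ p * A.card := by
        apply Finset.card_le_mul_card_image
        intro b hb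
        obtain ⟨γ₁, _, hγ₁⟩ := mem_image.1 hb
        let _ : Fintype (P : Subgroup φ.range) := Fintype.ofFinite _
        have h2 : (univ : Finset (P : Subgroup φ.range)).card = p := by
          rw [card_univ, ← Nat.card_eq_fintype_card, hcardP]
        rw [← h2]
        have h3 : ∀ γ₂ : stabilizer φ.range x₀, a γ₂ = b → (γ₁ : φ.range)⁻¹ * (γ₂ : φ.range) ∈ (P : Subgroup φ.range) := by
          intro γ₂ h4
          have h5 : (γ₁ : φ.range) * s * (γ₁ : φ.range)⁻¹ = (γ₂ : φ.range) * s * (γ₂ : φ.range)⁻¹ := by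
            rw [ha2, ha2, hγ₁, h4]
          by_cases h6 : (γ₁ : φ.range)⁻¹ * (γ₂ : φ.range) = 1
          · rw [h6]; exact (P : Subgroup φ.range).one_mem
          · apply (hx₀ _).2
            right
            apply hM.comm' s _ x₀ hs1 hsfix _ h6
            calc (γ₁ : φ.range)⁻¹ * (γ₂ : φ.range) * s
                = (γ₁ : φ.range)⁻¹ * ((γ₂ : φ.range) * s * (γ₂ : φ.range)⁻¹) * (γ₂ : φ.range) := by group
              _ = (γ₁ : φ.range)⁻¹ * ((γ₁ : φ.range) * s * (γ₁ : φ.range)⁻¹) * (γ₂ : φ.range) := by rw [h5]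
              _ = s * ((γ₁ : φ.range)⁻¹ * (γ₂ : φ.range)) := by group
        apply Finset.card_le_card_of_injOn (fun γ₂ => if h : a γ₂ = b then
          (⟨(γ₁ : φ.range)⁻¹ * (γ₂ : φ.range), h3 γ₂ h⟩ : (P : Subgroup φ.range)) else 1)
        · intro x _
          exact Finset.mem_coe.2 (mem_univ _)
        · intro x hx y hy hxy
          have hx' : a x = b := by simpa using hx
          have hy' : a y = b := by simpa using hy
          simp only [hx', hy', dif_pos] at hxy
          have h4 := congrArg Subtype.val hxy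
          exact Subtype.ext (mul_left_cancel h4)
      rw [card_univ, ← Nat.card_eq_fintype_card, hstab, hcardP] at h1
      exact Nat.le_of_mul_le_mul_left h1 hp.out.pos
    have hAconj : ∀ b ∈ A, (0 < b ∧ b < p) ∧ ∃ g : G, g * σ * g⁻¹ = σ ^ b := by
      intro b hb
      obtain ⟨γ, _, rfl⟩ := mem_image.1 hb
      refine ⟨ha1 γ, ?_⟩
      obtain ⟨g, hg⟩ := γ.1.2
      refine ⟨g, ?_⟩
      apply hL
      · rw [← pow_mul, mul_comm, pow_mul, hσp, one_pow]
      · rw [conj_pow, hσp, mul_one, mul_inv_cancel]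
      · have h1 := congrArg Subtype.val (ha2 γ)
        rw [map_mul, map_mul, map_inv, map_pow, hg]
        exact h1
    have hσ1 : σ ≠ 1 := by
      rintro rfl
      rw [orderOf_one] at hσ
      exact hp.out.one_lt.ne hσ
    have hAn : A.card ≤ n := by
      have h1 := eig_bound_sub hp.out ρ ⊤ ⊤ (fun _ _ _ _ => trivial) (σ := σ) trivial hσp A
        (fun b hb => (hAconj b hb).1) (fun b hb => by
          obtain ⟨g, hg⟩ := (hAconj b hb).2
          exact ⟨g, trivial, hg⟩) (by
          by_contra hcon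
          push Not at hcon
          exact hσ1 (hρ σ (LinearMap.ext (fun v => hcon v trivial))))
      rwa [finrank_top, Module.finrank_fin_fun] at h1
    rw [hcardP] at hk'
    have h2n : 2 * n + 1 = p := by
      rcases hk' with h | ⟨h, _⟩ <;> omega
    refine ⟨h5, h2n, k, i1, φ, ?_⟩
    obtain ⟨K, h, hK, hcase⟩ := H98.DicksonPGL.field_case φ.range.subtype φ.range.subtype_injective
      (P : Subgroup φ.range) x₀ k' hx₀ hP2 horb hstab (by rw [hcardP]; exact hk')
    refine ⟨K, by rw [hK, hcardP], ?_, hE, σ, hσ, A, ?_, hAconj⟩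
    · rcases hcase with ⟨h1, _⟩ | ⟨_, _, h1⟩
      · rw [hcardP] at h1
        omega
      · rw [Subgroup.range_subtype] at h1
        have e1 := Subgroup.equivMapOfInjective φ.range (MulAut.conj h).toMonoidHom (MulAut.conj h).injective
        have e2 := MulEquiv.subgroupCongr h1
        have e3 := (MonoidHom.ofInjective (H98.DicksonPGL.pslHom_injective K.subtype)).symm
        exact ⟨(e1.trans e2).trans e3⟩
    · rcases hk' with h1 | ⟨h1, _⟩ <;> omega

end H67.Mod
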