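import Mathlib
import Cfsg.Agent.Lib.H67.Mod14
import Cfsg.Agent.Lib.H21.PSLTransport

set_option autoImplicit false
set_option linter.unusedSectionVars false

/-! The case of equality in Brauer's bound. -/

namespace H67.Mod

open Finset MulAction
open scoped Pointwise

theorem center_psl {K : Type*} [Field K] (hK : 4 ≤ Nat.card K) :
    Subgroup.center (Matrix.ProjectiveSpecialLinearGroup (Fin 2) K) = ⊥ := by
  have hsimp := Matrix.ProjectiveSpecialLinearGroup.rank_two_simple hK
  rcases hsimp.eq_bot_or_eq_top_of_normal (Subgroup.center _) inferInstance with h | h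
  · exact h
  · exfalso
    have hF : ∃ a : K, a ≠ 0 ∧ a ^ 2 ≠ 1 := by
      have : Finite K := (Nat.card_pos_iff.1 (by omega)).2
      obtain ⟨x, hx⟩ : IsCyclic Kˣ := by infer_instance
      refine ⟨x, Units.ne_zero x, fun h ↦ ?_⟩
      have h2 := orderOf_le_of_pow_eq_one zero_lt_two (Units.ext (by simpa using h) : x ^ 2 = 1)
      rw [orderOf_eq_card_of_forall_mem_zpowers hx] at h2
      have h3 := Nat.card_eq_card_units_add_one K
      omega
    have h1 := SL2Simple.PSL_commutator_eq_top hF
    rw [(commutator_eq_bot_iff_center_eq_top _).2 h] at h1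
    exact bot_ne_top h1

variable {p : ℕ} [hp : Fact p.Prime] {G : Type*} [Group G] [Finite G]

theorem center_case (hdiv : p ∣ Nat.card G) (hsq : ¬ p ^ 2 ∣ Nat.card G)
    (hnn : ∀ H : Subgroup G, H.Normal → Nat.card H ≠ p) {n : ℕ}
    (ρ : Representation ℂ G (Fin n → ℂ)) (hρ : ∀ g, ρ g = 1 → g = 1) (hn : 2 * n < p) :
    Nonempty ((G ⧸ Subgroup.center G) ≃* Matrix.ProjectiveSpecialLinearGroup (Fin 2) (ZMod p)) := by
  classical
  obtain ⟨h5, h2n, k, i1, φ, K, hK, ⟨e⟩, hE, σ, hσ, A, hAn, hA⟩ := main hdiv hsq hnn ρ hρ hn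
  have hσ1 : σ ≠ 1 := by
    rintro rfl
    rw [orderOf_one] at hσ
    exact hp.out.one_lt.ne hσ
  have hσp : σ ^ p = 1 := by rw [← hσ]; exact pow_orderOf_eq_one σ
  have hK4 : 4 ≤ Nat.card K := by omega
  have hKfin : Finite K := (Nat.card_pos_iff.1 (by omega)).2
  have hsimpK := Matrix.ProjectiveSpecialLinearGroup.rank_two_simple hK4
  have hsimp : IsSimpleGroup φ.range := e.isSimpleGroup
  -- order of the kernel
  have hσφ : φ σ ≠ 1 := by
    intro h
    -- otherwise `σ ∈ ker φ`, the kernel centralizes it and its image of order `p` lies in the image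
    have h1 : p ∣ Nat.card φ.range := by
      rw [Nat.card_congr e.toEquiv]
      have h2 := H98.DicksonPGL.card_psl_eq K
      rw [hK] at h2
      have h3 : p ∣ Nat.gcd 2 (p - 1) * Nat.card (Matrix.ProjectiveSpecialLinearGroup (Fin 2) K) := by
        rw [h2]
        exact ⟨(p + 1) * (p - 1), by ring⟩
      rcases hp.out.dvd_mul.1 h3 with h4 | h4
      · have h5' : Nat.gcd 2 (p - 1) ∣ 2 := Nat.gcd_dvd_left _ _
        have := Nat.le_of_dvd (by norm_num) (h4.trans h5')
        omega
      · exact h4
    have h2 : p ∣ Nat.card φ.ker := by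
      have h3 : orderOf (⟨σ, h⟩ : φ.ker) = p := by
        rw [← hσ]
        exact (orderOf_injective φ.ker.subtype φ.ker.subtype_injective ⟨σ, h⟩).symm
      rw [← h3]
      exact orderOf_dvd_natCard _
    apply hsq
    have h3 : Nat.card G = Nat.card φ.ker * Nat.card φ.range := by
      rw [← Subgroup.card_mul_index φ.ker, Subgroup.index_ker]
    rw [h3, pow_two]
    exact mul_dvd_mul h2 h1
  -- the normal closure
  set R := Subgroup.normalClosure {σ} with hR
  have hRE : ∀ m ∈ φ.ker, ∀ r ∈ R, m * r = r * m := by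
    intro m hm r hr
    have h1 : R ≤ Subgroup.centralizer {m} := by
      rw [hR, Subgroup.normalClosure, Subgroup.closure_le]
      intro x hx
      obtain ⟨y, hy, hyx⟩ := Group.mem_conjugatesOfSet_iff.1 hx
      rw [Set.mem_singleton_iff] at hy
      obtain ⟨c, hc⟩ := isConj_iff.1 hyx
      rw [SetLike.mem_coe, Subgroup.mem_centralizer_singleton_iff]
      have h2 : orderOf x = p := by
        rw [← hc, hy, ← MulAut.conj_apply, MulEquiv.orderOf_eq, hσ]
      exact (hE m hm x h2).symm
    have h2 := h1 hr
    rw [Subgroup.mem_centralizer_singleton_iff] at h2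
    exact h2.symm
  have hRtop : R ⊔ φ.ker = ⊤ := by
    have hRn : (R.map φ.rangeRestrict).Normal :=
      Subgroup.Normal.map Subgroup.normalClosure_normal _ φ.rangeRestrict_surjective
    rcases hsimp.eq_bot_or_eq_top_of_normal _ hRn with h | h
    · exfalso
      have h1 : φ.rangeRestrict σ ∈ R.map φ.rangeRestrict :=
        Subgroup.mem_map_of_mem _ (Subgroup.subset_normalClosure rfl)
      rw [h, Subgroup.mem_bot] at h1
      exact hσφ (congrArg Subtype.val h1)
    · rw [eq_top_iff]
      intro g _
      have h1 : φ.rangeRestrict g ∈ R.map φ.rangeRestrict := by rw [h]; trivial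
      obtain ⟨r, hr, hrg⟩ := h1
      have h2 : r⁻¹ * g ∈ φ.ker := by
        rw [MonoidHom.mem_ker, map_mul, map_inv, inv_mul_eq_one]
        exact congrArg Subtype.val hrg
      have h3 : g = r * (r⁻¹ * g) := by group
      rw [h3]
      exact Subgroup.mul_mem_sup hr h2
  have hdec : ∀ g : G, ∃ r ∈ R, ∃ m ∈ φ.ker, r * m = g := by
    intro g
    have h1 : g ∈ R ⊔ φ.ker := by rw [hRtop]; trivial
    exact Subgroup.mem_sup_of_normal_right.1 h1
  have hσR : σ ∈ R := Subgroup.subset_normalClosure rfl
  have hAR : ∀ a ∈ A, ∃ r ∈ R, r * σ * r⁻¹ = σ ^ a := by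
    intro a ha
    obtain ⟨g, hg⟩ := (hA a ha).2
    obtain ⟨r, hr, m, hm, rfl⟩ := hdec g
    refine ⟨r, hr, ?_⟩
    rw [← hg]
    have h1 := hE m hm σ hσ
    calc r * σ * r⁻¹ = r * (σ * m) * m⁻¹ * r⁻¹ := by group
      _ = r * (m * σ) * m⁻¹ * r⁻¹ := by rw [h1]
      _ = _ := by group
  -- the centre
  have hcen : Subgroup.center G = φ.ker := by
    apply le_antisymm
    · intro z hz
      rw [MonoidHom.mem_ker]
      have h1 : e ⟨φ z, z, rfl⟩ ∈ Subgroup.center (Matrix.ProjectiveSpecialLinearGroup (Fin 2) K) := by
        rw [Subgroup.mem_center_iff]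
        intro x
        obtain ⟨⟨_, g, rfl⟩, rfl⟩ := e.surjective x
        rw [← map_mul, ← map_mul]
        congr 1
        apply Subtype.ext
        change φ g * φ z = φ z * φ g
        rw [← map_mul, ← map_mul, Subgroup.mem_center_iff.1 hz g]
      rw [center_psl hK4, Subgroup.mem_bot] at h1
      have h2 : (⟨φ z, z, rfl⟩ : φ.range) = 1 := by
        apply e.injective
        rw [h1, map_one]
      exact congrArg Subtype.val h2
    · intro m hm
      have hnt : Nontrivial (Fin n → ℂ) := by
        have : Nonempty (Fin n) := ⟨⟨0, by omega⟩⟩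
        infer_instance
      obtain ⟨c, hc⟩ := Module.End.exists_eigenvalue (ρ m)
      set D : Module.End ℂ (Fin n → ℂ) := ρ m - c • 1 with hD
      have hDv : ∀ v, D v = ρ m v - c • v := fun v => rfl
      have hDcomm : ∀ r ∈ R, ∀ v, D (ρ r v) = ρ r (D v) := by
        intro r hr v
        rw [hDv, hDv, map_sub, map_smul, ← Module.End.mul_apply, ← Module.End.mul_apply, ← map_mul, ← map_mul,
          hRE m hm r hr]
      have hEst : ∀ r ∈ R, ∀ v ∈ LinearMap.ker D, ρ r v ∈ LinearMap.ker D := by
        intro r hr v hv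
        rw [LinearMap.mem_ker] at hv ⊢
        rw [hDcomm r hr, hv, map_zero]
      have hIst : ∀ r ∈ R, ∀ v ∈ LinearMap.range D, ρ r v ∈ LinearMap.range D := by
        rintro r hr _ ⟨v, rfl⟩
        exact ⟨ρ r v, hDcomm r hr v⟩
      have hD0 : D = 0 := by
        by_contra hD0
        have hsum := LinearMap.finrank_range_add_finrank_ker D
        rw [Module.finrank_fin_fun] at hsum
        have hker0 : 0 < Module.finrank ℂ (LinearMap.ker D) := by
          rw [Nat.pos_iff_ne_zero]
          intro h0
          have h1 := Submodule.finrank_eq_zero.1 h0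
          obtain ⟨w, hw⟩ := hc.exists_hasEigenvector
          have h2 : w ∈ LinearMap.ker D := by
            rw [LinearMap.mem_ker, hDv, hw.apply_eq_smul, sub_self]
          rw [h1, Submodule.mem_bot] at h2
          exact hw.2 h2
        have hrange0 : 0 < Module.finrank ℂ (LinearMap.range D) := by
          rw [Nat.pos_iff_ne_zero]
          intro h0
          exact hD0 (LinearMap.range_eq_bot.1 (Submodule.finrank_eq_zero.1 h0))
        have hE1 : ∀ w ∈ LinearMap.ker D, ρ σ w = w := by
          by_contra hcon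
          push Not at hcon
          have := eig_bound_sub hp.out ρ R (LinearMap.ker D) hEst hσR hσp A (fun a ha => (hA a ha).1) hAR hcon
          omega
        have hI1 : ∀ w ∈ LinearMap.range D, ρ σ w = w := by
          by_contra hcon
          push Not at hcon
          have := eig_bound_sub hp.out ρ R (LinearMap.range D) hIst hσR hσp A (fun a ha => (hA a ha).1) hAR hcon
          omega
        apply hσ1
        apply hρ
        ext1 v
        -- `σ` is trivial
        suffices h : ρ σ (LinearMap.single ℂ (fun _ => ℂ) v 1) = LinearMap.single ℂ (fun _ => ℂ) v 1 by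
          ext1
          simpa using h
        set w := LinearMap.single ℂ (fun _ : Fin n => ℂ) v 1 with hw
        have h1 : ρ σ w - w ∈ LinearMap.ker D := by
          rw [LinearMap.mem_ker, map_sub, hDcomm σ hσR, hI1 _ ⟨w, rfl⟩, sub_self]
        have h2 : ∀ j : ℕ, ρ (σ ^ j) w = w + (j : ℂ) • (ρ σ w - w) := by
          intro j
          induction j with
          | zero => simp
          | succ j ih =>
            rw [pow_succ', map_mul, Module.End.mul_apply, ih, map_add, map_smul, hE1 _ h1]
            push_cast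
            rw [add_smul, one_smul]
            abel
        have h6 := h2 p
        rw [hσp, map_one, Module.End.one_apply] at h6
        have h7 : (p : ℂ) • (ρ σ w - w) = 0 := by
          have := h6.symm
          rwa [add_eq_left] at this
        exact sub_eq_zero.1 ((smul_eq_zero.1 h7).resolve_left (by exact_mod_cast hp.out.ne_zero))
      rw [Subgroup.mem_center_iff]
      intro g
      have h1 : ρ m = c • 1 := sub_eq_zero.1 hD0
      have h2 : (m * g)⁻¹ * (g * m) = 1 := by
        apply hρ
        have h3 : ρ (g * m) = ρ (m * g) := by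
          rw [map_mul, map_mul, h1, mul_smul_comm, smul_mul_assoc, mul_one, one_mul]
        rw [map_mul, h3, ← map_mul, inv_mul_cancel, map_one]
      exact (inv_mul_eq_one.1 h2).symm
  let _ : Fintype K := Fintype.ofFinite K
  obtain ⟨f⟩ := H21.PSLTransport.psl_congr_card (K := K) (L := ZMod p)
    (by rw [ZMod.card, ← Nat.card_eq_fintype_card, hK]) (Fin 2)
  exact ⟨((QuotientGroup.quotientMulEquivOfEq hcen).trans (QuotientGroup.quotientKerEquivRange φ)).trans (e.trans f)⟩

end H67.Mod
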