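import Mathlib

/-!
A cyclic group of prime order `p` acting irreducibly and nontrivially on a finite elementary abelian `q`-group
(`q ≠ p`): the order of the latter is `q ^ orderOf (q : ZMod p)`.
-/

set_option autoImplicit false

namespace H67.IrrCyc

open Polynomial

theorem card_eq {p q : ℕ} [hp : Fact p.Prime] [hq : Fact q.Prime] (hpq : q ≠ p)
    {V : Type*} [AddCommGroup V] [Module (ZMod q) V] [Finite V] (T : Module.End (ZMod q) V)
    (hT : T ^ p = 1) (hT1 : T ≠ 1)
    (hirr : ∀ W : Submodule (ZMod q) V, (∀ v ∈ W, T v ∈ W) → W = ⊥ ∨ W = ⊤) :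
    Nat.card V = q ^ orderOf (q : ZMod p) := by
  classical
  set e := orderOf (q : ZMod p) with he
  -- q^e ≡ 1 mod p
  have hqe : (q : ZMod p) ^ e = 1 := pow_orderOf_eq_one _
  have hqu : IsUnit (q : ZMod p) := by
    rw [ZMod.isUnit_iff_coprime]
    exact (Nat.coprime_primes hq.out hp.out).2 hpq
  have he0 : e ≠ 0 := by
    rw [he]
    exact (orderOf_pos_iff.2 (isOfFinOrder_iff_isUnit.2 hqu)).ne'
  have hdvd : p ∣ q ^ e - 1 := by
    rw [← ZMod.natCast_eq_zero_iff, Nat.cast_sub (Nat.one_le_pow _ _ hq.out.pos)]
    push_cast; rw [hqe, sub_self]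
  have hTe : T ^ q ^ e = T := by
    obtain ⟨k, hk⟩ := hdvd
    have : q ^ e = p * k + 1 := by
      have := Nat.one_le_pow e q hq.out.pos
      omega
    rw [this, pow_succ, pow_mul, hT, one_pow, one_mul]
  -- nontrivial V
  obtain ⟨v₀, hv₀⟩ : ∃ v, T v ≠ v := by
    by_contra hcon
    push Not at hcon
    exact hT1 (LinearMap.ext hcon)
  have hv0 : v₀ ≠ 0 := by rintro rfl; exact hv₀ (map_zero T)
  -- claim 1
  have hfrob : ∀ g : (ZMod q)[X], (aeval T g) ^ q ^ e = aeval T g := by
    intro g
    have h1 : ∀ k : ℕ, g ^ q ^ k = expand (ZMod q) (q ^ k) g := by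
      intro k
      induction k with
      | zero => simp
      | succ k ih => rw [pow_succ, pow_mul, ih, ← ZMod.expand_card, expand_expand, mul_comm]
    rw [← map_pow, h1, expand_aeval, hTe]
  -- claim 2 : nonzero polynomials in T are injective
  have hinj : ∀ g : (ZMod q)[X], aeval T g ≠ 0 → Function.Injective (aeval T g) := by
    intro g hg
    rw [← LinearMap.ker_eq_bot]
    refine (hirr _ ?_).resolve_right ?_
    · intro v hv
      rw [LinearMap.mem_ker] at hv ⊢
      have hcomm : aeval T g * T = T * aeval T g := by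
        have : T = aeval T (X : (ZMod q)[X]) := by simp
        nth_rewrite 2 [this]
        nth_rewrite 3 [this]
        rw [← map_mul, ← map_mul, mul_comm]
      have := congrArg (fun f => f v) hcomm
      simp only [Module.End.mul_apply] at this
      rw [this, hv, map_zero]
    · intro h
      rw [LinearMap.ker_eq_top] at h
      exact hg h
  -- claim 3 : cyclic module
  have hsurj : ∀ v : V, ∃ g : (ZMod q)[X], aeval T g v₀ = v := by
    let W : Submodule (ZMod q) V :=
      { carrier := {v | ∃ g : (ZMod q)[X], aeval T g v₀ = v}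
        add_mem' := by
          rintro _ _ ⟨g, rfl⟩ ⟨h, rfl⟩
          exact ⟨g + h, by simp⟩
        zero_mem' := ⟨0, by simp⟩
        smul_mem' := by
          rintro c _ ⟨g, rfl⟩
          exact ⟨C c * g, by simp⟩ }
    have hW : W = ⊥ ∨ W = ⊤ := by
      apply hirr
      rintro _ ⟨g, rfl⟩
      exact ⟨X * g, by simp⟩
    rcases hW with h | h
    · exfalso
      have : v₀ ∈ W := ⟨1, by simp⟩
      rw [h] at this
      exact hv0 this
    · intro v
      have : v ∈ W := by rw [h]; trivial
      exact this
  -- the quotient ring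
  let I : Ideal (ZMod q)[X] := RingHom.ker (aeval T : (ZMod q)[X] →ₐ[ZMod q] Module.End (ZMod q) V)
  have hI : I.IsPrime := by
    constructor
    · rw [Ideal.ne_top_iff_one]
      intro h
      have h1 : aeval T (1 : (ZMod q)[X]) = 0 := h
      rw [map_one] at h1
      have h2 := congrArg (fun f => f v₀) h1
      exact hv0 h2
    · intro g h hgh
      have hgh' : aeval T (g * h) = 0 := hgh
      rw [map_mul] at hgh'
      by_cases hh : aeval T h = 0
      · right; exact hh
      · left
        have h1 := hinj h hh
        have h2 : Function.Surjective (aeval T h) := Finite.injective_iff_surjective.1 h1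
        change aeval T g = 0
        ext v
        obtain ⟨w, rfl⟩ := h2 v
        exact congrArg (fun f => f w) hgh'
  let K := (ZMod q)[X] ⧸ I
  have hmem : ∀ g h : (ZMod q)[X], (Ideal.Quotient.mk I g = Ideal.Quotient.mk I h) ↔ aeval T g = aeval T h := by
    intro g h
    rw [Ideal.Quotient.eq]
    change aeval T (g - h) = 0 ↔ _
    rw [map_sub, sub_eq_zero]
  -- bijection K ≃ V
  let F : K → V := fun x => aeval T (Function.surjInv Ideal.Quotient.mk_surjective x) v₀
  have hF : ∀ g : (ZMod q)[X], F (Ideal.Quotient.mk I g) = aeval T g v₀ := by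
    intro g
    have h1 : Ideal.Quotient.mk I (Function.surjInv Ideal.Quotient.mk_surjective (Ideal.Quotient.mk I g)) =
      Ideal.Quotient.mk I g := Function.surjInv_eq _ _
    rw [hmem] at h1
    change aeval T _ v₀ = _
    rw [h1]
  have hFbij : Function.Bijective F := by
    constructor
    · intro x y hxy
      obtain ⟨g, rfl⟩ := Ideal.Quotient.mk_surjective x
      obtain ⟨h, rfl⟩ := Ideal.Quotient.mk_surjective y
      rw [hF, hF] at hxy
      rw [hmem]
      by_contra hne
      have h1 : aeval T (g - h) ≠ 0 := by rw [map_sub]; exact sub_ne_zero.2 hne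
      have h2 := hinj _ h1
      apply hv0
      apply h2
      rw [map_zero, map_sub, LinearMap.sub_apply, hxy, sub_self]
    · intro v
      obtain ⟨g, hg⟩ := hsurj v
      exact ⟨Ideal.Quotient.mk I g, by rw [hF, hg]⟩
  have hKV : Nat.card K = Nat.card V := Nat.card_congr (Equiv.ofBijective F hFbij)
  have hKfin : Finite K := Finite.of_injective F hFbij.1
  have hdom : IsDomain K := Ideal.Quotient.isDomain I
  have hfix : ∀ x : K, x ^ q ^ e = x := by
    intro x
    obtain ⟨g, rfl⟩ := Ideal.Quotient.mk_surjective x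
    rw [← map_pow, hmem, map_pow, hfrob]
  -- upper bound
  have hupper : Nat.card K ≤ q ^ e := by
    have hne : (X ^ q ^ e - X : K[X]) ≠ 0 := by
      intro h
      have h1 := congrArg (fun f => coeff f 1) h
      have h2 : 1 < q ^ e := Nat.one_lt_pow he0 hq.out.one_lt
      simp only [coeff_sub, coeff_X_pow, coeff_X_one, coeff_zero] at h1
      rw [if_neg (by omega)] at h1
      simp at h1
    have hfint := Fintype.ofFinite K
    have h1 : (Finset.univ : Finset K) ⊆ (X ^ q ^ e - X : K[X]).roots.toFinset := by
      intro x _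
      rw [Multiset.mem_toFinset, mem_roots hne, IsRoot, eval_sub, eval_pow, eval_X, hfix, sub_self]
    have h2 := Finset.card_le_card h1
    rw [Nat.card_eq_fintype_card, ← Finset.card_univ]
    refine h2.trans ((Multiset.toFinset_card_le _).trans ((card_roots' _).trans ?_))
    have h3 : 1 < q ^ e := Nat.one_lt_pow he0 hq.out.one_lt
    rw [natDegree_sub_eq_left_of_natDegree_lt (by rw [natDegree_X_pow, natDegree_X]; exact h3), natDegree_X_pow]
  -- lower bound
  have hVcard : Nat.card V = q ^ Module.finrank (ZMod q) V := by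
    rw [Module.natCard_eq_pow_finrank (K := ZMod q), Nat.card_zmod]
  have hfr0 : Module.finrank (ZMod q) V ≠ 0 := by
    intro h
    rw [h, pow_zero] at hVcard
    have : Nontrivial V := ⟨v₀, 0, hv0⟩
    exact absurd hVcard (Finite.one_lt_card).ne'
  have hpdvd : p ∣ Nat.card K - 1 := by
    let t : K := Ideal.Quotient.mk I X
    have ht : t ^ p = 1 := by
      change (Ideal.Quotient.mk I X) ^ p = Ideal.Quotient.mk I 1
      rw [← map_pow, hmem]; simp [hT]
    have ht1 : t ≠ 1 := by
      intro h
      have : Ideal.Quotient.mk I X = Ideal.Quotient.mk I 1 := h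
      rw [hmem] at this
      apply hT1; simpa using this
    have htu : IsUnit t := IsUnit.of_mul_eq_one (t ^ (p - 1)) (by
      rw [← pow_succ', Nat.sub_add_cancel hp.out.one_le, ht])
    obtain ⟨u, hu⟩ := htu
    have hou : orderOf u = p := by
      apply orderOf_eq_prime
      · apply Units.ext; rw [Units.val_pow_eq_pow_val, hu, ht, Units.val_one]
      · intro h; apply ht1; rw [← hu, h, Units.val_one]
    have h1 : orderOf u ∣ Nat.card Kˣ := orderOf_dvd_natCard u
    rw [hou] at h1
    have hfield : IsField K := Finite.isField_of_domain K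
    letI := hfield.toField
    have h2 : Nat.card Kˣ = Nat.card K - 1 := Nat.card_units K
    rwa [h2] at h1
  have hd : e ∣ Module.finrank (ZMod q) V := by
    rw [he]
    apply orderOf_dvd_of_pow_eq_one
    rw [hKV, hVcard, ← ZMod.natCast_eq_zero_iff, Nat.cast_sub (Nat.one_le_pow _ _ hq.out.pos)] at hpdvd
    push_cast at hpdvd
    exact sub_eq_zero.1 hpdvd
  have hle : e ≤ Module.finrank (ZMod q) V := Nat.le_of_dvd (Nat.pos_of_ne_zero hfr0) hd
  apply le_antisymm
  · rw [← hKV]; exact hupper
  · rw [hVcard]; exact Nat.pow_le_pow_right hq.out.pos hle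

end H67.IrrCyc
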