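import Mathlib
import Cfsg.Agent.Lib.H4.CA0
import Cfsg.Agent.Lib.H2.PGrp
import Cfsg.Agent.Lib.H83.BdC1
import Cfsg.Agent.Lib.H18.Bender
import Cfsg.Agent.Lib.H18.OddOrder
import Cfsg.Agent.Lib.H1.Cores

/-!
# S4369, piece (I): odd elements outside the center commute with no nonabelian 2-group
-/

set_option autoImplicit false
set_option linter.unusedVariables false

namespace H67.CAI

open Subgroup H4.CA

universe u

section
variable {G : Type u} [Group G]

theorem mem_c {v y : G} : y ∈ centralizer ({v} : Set G) ↔ Commute v y := by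
  rw [mem_centralizer_singleton_iff]
  exact ⟨fun h => h.symm, fun h => h.symm⟩

/-- nonabelian 2-subgroup in the centralizer -/
def NA (v : G) : Prop :=
  ∃ P : Subgroup G, IsPGroup 2 P ∧ (∀ p ∈ P, Commute v p) ∧ ∃ a ∈ P, ∃ b ∈ P, ¬ Commute a b

theorem conj_comm {a b : G} (g : G) : Commute (g * a * g⁻¹) (g * b * g⁻¹) ↔ Commute a b := by
  constructor
  · intro h
    have h1 := h.map (MulAut.conj g⁻¹).toMonoidHom
    simpa [MulAut.conj_apply, mul_assoc] using h1
  · intro h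
    have h1 := h.map (MulAut.conj g).toMonoidHom
    simpa [MulAut.conj_apply, mul_assoc] using h1

theorem NA.conj {v : G} (h : NA v) (g : G) : NA (g * v * g⁻¹) := by
  obtain ⟨P, hP, hPv, a, ha, b, hb, hab⟩ := h
  refine ⟨P.map (MulAut.conj g).toMonoidHom, hP.map _, ?_, g * a * g⁻¹, ⟨a, ha, rfl⟩, g * b * g⁻¹, ⟨b, hb, rfl⟩, ?_⟩
  · rintro _ ⟨p, hp, rfl⟩
    exact (conj_comm g).2 (hPv p hp)
  · rwa [conj_comm]

theorem exists_na_over [Finite G] {v : G} (h : NA v) {T : Subgroup G} (hT : IsPGroup 2 T)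
    (hTv : ∀ p ∈ T, Commute v p) :
    ∃ S : Subgroup G, IsPGroup 2 S ∧ (∀ p ∈ S, Commute v p) ∧ T ≤ S ∧ ∃ a ∈ S, ∃ b ∈ S, ¬ Commute a b := by
  obtain ⟨P, hP, hPv, a, ha, b, hb, hab⟩ := h
  haveI : Fact (Nat.Prime 2) := ⟨Nat.prime_two⟩
  set M := centralizer ({v} : Set G) with hM
  have hTM : T ≤ M := fun p hp => mem_c.2 (hTv p hp)
  have hPM : P ≤ M := fun p hp => mem_c.2 (hPv p hp)
  have h1 : IsPGroup 2 (T.comap M.subtype) := hT.comap_of_injective M.subtype M.subtype_injective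
  have h2 : IsPGroup 2 (P.comap M.subtype) := hP.comap_of_injective M.subtype M.subtype_injective
  obtain ⟨S1, hS1⟩ := h1.exists_le_sylow
  obtain ⟨S2, hS2⟩ := h2.exists_le_sylow
  obtain ⟨g, hg⟩ := MulAction.exists_smul_eq M S2 S1
  have h3 : ∀ x : G, x ∈ P → (g : G) * x * (g : G)⁻¹ ∈ (S1 : Subgroup M).map M.subtype := by
    intro x hx
    refine ⟨g * ⟨x, hPM hx⟩ * g⁻¹, ?_, by simp⟩
    rw [← hg]
    show g * ⟨x, hPM hx⟩ * g⁻¹ ∈ ((g • S2 : Sylow 2 M) : Subgroup M)
    rw [Sylow.coe_subgroup_smul]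
    exact Subgroup.smul_mem_pointwise_smul _ (MulAut.conj g) _ (hS2 (Subgroup.mem_comap.2 hx))
  refine ⟨(S1 : Subgroup M).map M.subtype, S1.2.map _, ?_, ?_, _, h3 a ha, _, h3 b hb, ?_⟩
  · rintro _ ⟨p, _, rfl⟩
    exact mem_c.1 p.2
  · intro p hp
    exact ⟨⟨p, hTM hp⟩, hS1 (Subgroup.mem_comap.2 hp), rfl⟩
  · rwa [conj_comm]

theorem pg_solvable [Finite G] {T : Subgroup G} (hT : IsPGroup 2 T) : Group.IsSolvable T := by
  haveI : Fact (Nat.Prime 2) := ⟨Nat.prime_two⟩
  haveI : Group.IsNilpotent T := hT.isNilpotent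
  infer_instance

theorem NA.bad {v : G} (hv : NA v) (hz : v ∉ center G) : Bad v := by
  obtain ⟨P, _, h1, a, ha, b, hb, hab⟩ := hv
  exact ⟨hz, a, b, h1 a ha, h1 b hb, hab⟩

/-- the image of the centralizer -/
theorem mem_bar {v g : G} : (QuotientGroup.mk' (center G) g) ∈
    (centralizer ({v} : Set G)).map (QuotientGroup.mk' (center G)) ↔ Commute v g := by
  constructor
  · rintro ⟨m, hm, hmg⟩
    have h1 : m⁻¹ * g ∈ center G := QuotientGroup.eq.1 hmg
    have h2 : Commute v (m⁻¹ * g) := (mem_center_iff.1 h1 v)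
    have h3 := (mem_c.1 hm).mul_right h2
    simpa using h3
  · intro h
    exact ⟨g, mem_c.2 h, rfl⟩

/-- an odd power of an element with central square -/
theorem pow_bar {t : G} (ht : (QuotientGroup.mk' (center G) t) ^ 2 = 1) {m : ℕ} (hm : Odd m) :
    QuotientGroup.mk' (center G) (t ^ m) = QuotientGroup.mk' (center G) t := by
  obtain ⟨k, rfl⟩ := hm
  rw [map_pow, pow_add, pow_mul, ht, one_pow, one_mul, pow_one]

variable [Finite G]

theorem grow (h : Beta G) {v : G} (hv : NA v) {T : Subgroup G} (hT : IsPGroup 2 T)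
    (hTv : ∀ p ∈ T, Commute v p) (hTab : ∀ a ∈ T, ∀ b ∈ T, Commute a b) {t w : G} (ht : t ∈ T)
    (htz : t ∉ center G) (hCt : ∀ a b, Commute t a → Commute t b → Commute a b) (htw : Commute t w)
    (hmax : ∀ Q : Subgroup G, IsPGroup 2 Q → (∀ p ∈ Q, Commute v p) → (∀ p ∈ Q, Commute w p) → T ≤ Q → Q = T) :
    ∃ N : Subgroup G, T < N ∧ IsPGroup 2 N ∧ (∀ p ∈ N, Commute v p) ∧ N ≤ normalizer (T : Set G) ∧
      ∀ c ∈ normalizer (T : Set G), Commute v c := by
  haveI : Fact (Nat.Prime 2) := ⟨Nat.prime_two⟩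
  obtain ⟨S, hS, hSv, hTS, a, ha, b, hb, hab⟩ := exists_na_over hv hT hTv
  have hlt : T < S := by
    refine lt_of_le_of_ne hTS ?_
    rintro rfl
    exact hab (hTab a ha b hb)
  have hlt2 := H2.PGrp.lt_inf_normalizer hS hlt
  have hN2 : IsPGroup 2 (S ⊓ normalizer (T : Set G) : Subgroup G) := hS.to_le inf_le_left
  have hNv : ∀ p ∈ S ⊓ normalizer (T : Set G), Commute v p := fun p hp => hSv p hp.1
  have hna : ∃ a ∈ S ⊓ normalizer (T : Set G), ∃ b ∈ S ⊓ normalizer (T : Set G), ¬ Commute a b := by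
    by_contra hcon
    push Not at hcon
    have h1 : ∀ p ∈ S ⊓ normalizer (T : Set G), Commute w p := by
      intro p hp
      exact hCt w p htw (hcon t (hlt2.le ht) p hp)
    exact hlt2.ne' (hmax _ hN2 hNv h1 hlt2.le)
  obtain ⟨c, hc, d, hd, hcd⟩ := hna
  refine ⟨S ⊓ normalizer (T : Set G), hlt2, hN2, hNv, inf_le_right, ?_⟩
  refine h.ca (normalizer (T : Set G)) ?_ v ?_ c hc.2 d hd.2 (hNv c hc) (hNv d hd) hcd
  · intro htop
    have hTn : T.Normal := normalizer_eq_top_iff.1 htop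
    exact htz (h.solv T hTn (pg_solvable hT) ht)
  · rw [mem_normalizer_iff]
    intro y
    constructor
    · intro hy
      rw [(hTv y hy).eq]
      simpa using hy
    · intro hy
      have h1 := (hTv _ hy).eq
      have h2 : v * y * v⁻¹ = y := by
        have h3 : v * (v * y * v⁻¹) * v⁻¹ = v * y * v⁻¹ := by rw [h1]; group
        have h4 : v⁻¹ * (v * (v * y * v⁻¹) * v⁻¹) * v = v⁻¹ * (v * y * v⁻¹) * v := by rw [h3]
        have h5 : v⁻¹ * (v * (v * y * v⁻¹) * v⁻¹) * v = v * y * v⁻¹ := by group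
        have h6 : v⁻¹ * (v * y * v⁻¹) * v = y := by group
        rw [h5, h6] at h4
        exact h4
      rwa [h2] at hy

theorem ti_aux (h : Beta G) {v w t : G} (hv : NA v) (hw : NA w) (k1 : ¬ ∀ y, Commute v y → Commute w y)
    (k2 : ¬ ∀ y, Commute w y → Commute v y) (h2 : ∃ k : ℕ, t ^ 2 ^ k = 1) (htv : Commute v t)
    (htw : Commute w t) : t ∈ center G := by
  by_contra htz
  haveI : Fact (Nat.Prime 2) := ⟨Nat.prime_two⟩
  have hCt : ∀ a b, Commute t a → Commute t b → Commute a b := by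
    intro a b ha hb
    by_contra hab
    exact h.b0 t h2 ⟨htz, a, b, ha, hb, hab⟩
  have hvw : Commute v w := hCt v w htv.symm htw.symm
  have hD : ∀ a b, Commute v a → Commute w a → Commute v b → Commute w b → Commute a b := by
    intro a b h1 h2 h3 h4
    by_contra hab
    apply k2
    intro y hy
    refine h.ca (centralizer ({w} : Set G)) ?_ v (mem_c.2 hvw.symm) a (mem_c.2 h2) b (mem_c.2 h4) h1 h3 hab y
      (mem_c.2 hy)
    intro htop
    apply k1
    intro y _
    exact mem_c.1 (by rw [htop]; exact mem_top y)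
  -- a maximal 2-subgroup
  have hfin : ({Q : Subgroup G | IsPGroup 2 Q ∧ (∀ p ∈ Q, Commute v p) ∧ (∀ p ∈ Q, Commute w p) ∧ t ∈ Q}).Finite :=
    Set.toFinite _
  have hne : ({Q : Subgroup G | IsPGroup 2 Q ∧ (∀ p ∈ Q, Commute v p) ∧ (∀ p ∈ Q, Commute w p) ∧ t ∈ Q}).Nonempty := by
    refine ⟨zpowers t, ?_, ?_, ?_, mem_zpowers t⟩
    · rintro ⟨x, hx⟩
      obtain ⟨n, rfl⟩ := mem_zpowers_iff.1 hx
      obtain ⟨k, hk⟩ := h2
      refine ⟨k, ?_⟩
      apply Subtype.ext
      show (t ^ n) ^ 2 ^ k = 1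
      rw [← zpow_natCast, ← zpow_mul, mul_comm, zpow_mul, zpow_natCast, hk, one_zpow]
    · intro p hp
      obtain ⟨n, rfl⟩ := mem_zpowers_iff.1 hp
      exact htv.zpow_right n
    · intro p hp
      obtain ⟨n, rfl⟩ := mem_zpowers_iff.1 hp
      exact htw.zpow_right n
  obtain ⟨T, ⟨hT, hTv, hTw, htT⟩, hmax⟩ := hfin.exists_maximal hne
  have hTab : ∀ a ∈ T, ∀ b ∈ T, Commute a b := fun a ha b hb => hD a b (hTv a ha) (hTw a ha) (hTv b hb) (hTw b hb)
  have hmax' : ∀ Q : Subgroup G, IsPGroup 2 Q → (∀ p ∈ Q, Commute v p) → (∀ p ∈ Q, Commute w p) → T ≤ Q → Q = T := by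
    intro Q h1 h2 h3 h4
    exact le_antisymm (hmax ⟨h1, h2, h3, h4 htT⟩ h4) h4
  obtain ⟨N, hTN, hN, hNv, hNT, -⟩ := grow h hv hT hTv hTab htT htz hCt htw.symm hmax'
  obtain ⟨-, -, -, -, -, hNw⟩ := grow h hw hT hTw hTab htT htz hCt htv.symm
    (fun Q h1 h2 h3 h4 => hmax' Q h1 h3 h2 h4)
  exact hTN.ne' (hmax' N hN hNv (fun p hp => hNw p (hNT hp)) hTN.le)

theorem ti (h : Beta G) {v g t : G} (hv : NA v) (hz : v ∉ center G) (hg : ¬ Commute v g)
    (h2 : ∃ k : ℕ, t ^ 2 ^ k = 1) (htv : Commute v t) (htw : Commute (g * v * g⁻¹) t) : t ∈ center G := by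
  have hk1 : ¬ ∀ y, Commute v y → Commute v (g * y * g⁻¹) := fun h' => hg (h.norm v (hv.bad hz) g h')
  refine ti_aux h hv (hv.conj g) ?_ ?_ h2 htv htw
  · intro h'
    -- `C(v) ≤ C(w)`
    have hwz : g * v * g⁻¹ ∉ center G := by
      intro hc
      apply hz
      have := (inferInstance : (center G).Normal).conj_mem _ hc g⁻¹
      have h1 : g⁻¹ * (g * v * g⁻¹) * g⁻¹⁻¹ = v := by group
      rwa [h1] at this
    have h3 : Commute (g * v * g⁻¹) g⁻¹ := by
      refine h.norm _ ((hv.conj g).bad hwz) g⁻¹ ?_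
      intro y hy
      apply h'
      have h4 : Commute (g⁻¹ * (g * v * g⁻¹) * g⁻¹⁻¹) (g⁻¹ * y * g⁻¹⁻¹) := (conj_comm g⁻¹).2 hy
      have h1 : g⁻¹ * (g * v * g⁻¹) * g⁻¹⁻¹ = v := by group
      rwa [h1] at h4
    apply hg
    have h5 : Commute (g * v * g⁻¹) (g * g⁻¹ * g⁻¹) := by simpa using h3
    have h6 := (conj_comm g).1 h5
    simpa using h6
  · intro h'
    apply hk1
    intro y hy
    exact h' _ ((conj_comm g).2 hy)

/-- no nontrivial normal subgroup of odd order modulo the center -/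
theorem odd_bot (h : Beta G) (K : Subgroup (G ⧸ center G)) (hK : K.Normal) (ho : Odd (Nat.card K)) : K = ⊥ := by
  have hs : Group.IsSolvable K := H18.OddOrder.solvable ho
  set π := QuotientGroup.mk' (center G) with hπ
  set R := K.comap π with hR
  have hRs : Group.IsSolvable R := by
    have hle : center G ≤ R := by
      intro z hz
      rw [hR, mem_comap]
      have : π z = 1 := (QuotientGroup.eq_one_iff z).2 hz
      rw [this]; exact K.one_mem
    let f : center G →* R := Subgroup.inclusion hle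
    let g : R →* K := (π.comp R.subtype).codRestrict K (fun x => x.2)
    have hZs : Group.IsSolvable (center G) :=
      Group.isSolvable_of_comm fun a b => Subtype.ext (mem_center_iff.1 b.2 a)
    refine Group.isSolvable_of_ker_le_range f g ?_
    intro x hx
    have h1 : π x = 1 := congrArg Subtype.val (MonoidHom.mem_ker.1 hx)
    have h2 : (x : G) ∈ center G := (QuotientGroup.eq_one_iff (x : G)).1 h1
    exact ⟨⟨x, h2⟩, Subtype.ext rfl⟩
  have h1 : R ≤ center G := h.solv R (hK.comap π) hRs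
  rw [eq_bot_iff]
  intro k hk
  obtain ⟨x, rfl⟩ := QuotientGroup.mk'_surjective (center G) k
  have h2 : x ∈ R := hk
  exact mem_bot.2 ((QuotientGroup.eq_one_iff x).2 (h1 h2))

theorem se (h : Beta G) {v : G} (hv : NA v) (hz : v ∉ center G) :
    Cfsg.IsStronglyEmbedded ((centralizer ({v} : Set G)).map (QuotientGroup.mk' (center G))) := by
  haveI : Fact (Nat.Prime 2) := ⟨Nat.prime_two⟩
  refine ⟨?_, ?_, ?_⟩
  · intro htop
    apply hz
    rw [mem_center_iff]
    intro g
    have : Commute v g := mem_bar.1 (by rw [htop]; exact mem_top _)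
    exact this.symm
  · obtain ⟨P, hP, h1, a, ha, b, hb, hab⟩ := hv
    have haz : QuotientGroup.mk' (center G) a ≠ 1 := by
      intro h2
      have h3 : a ∈ center G := (QuotientGroup.eq_one_iff a).1 h2
      exact hab (mem_center_iff.1 h3 b).symm
    set M := (centralizer ({v} : Set G)).map (QuotientGroup.mk' (center G)) with hM
    have haM : QuotientGroup.mk' (center G) a ∈ M := mem_bar.2 (h1 a ha)
    obtain ⟨k, hk⟩ := hP ⟨a, ha⟩
    have hk' : a ^ 2 ^ k = 1 := congrArg Subtype.val hk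
    have h3 : orderOf (QuotientGroup.mk' (center G) a) ∣ 2 ^ k := by
      apply orderOf_dvd_of_pow_eq_one
      rw [← map_pow, hk', map_one]
    obtain ⟨j, -, hj⟩ := (Nat.dvd_prime_pow Nat.prime_two).1 h3
    have hj0 : j ≠ 0 := by
      rintro rfl
      rw [pow_zero, orderOf_eq_one_iff] at hj
      exact haz hj
    rw [even_iff_two_dvd]
    have h4 : 2 ∣ orderOf (QuotientGroup.mk' (center G) a) := by rw [hj]; exact dvd_pow_self 2 hj0
    refine h4.trans ?_
    have h5 := orderOf_dvd_natCard (⟨_, haM⟩ : M)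
    rwa [← Subgroup.orderOf_coe] at h5
  · intro g hg
    obtain ⟨g, rfl⟩ := QuotientGroup.mk'_surjective (center G) g
    rw [← Nat.not_even_iff_odd]
    intro hev
    obtain ⟨⟨t, ht⟩, ht2⟩ := exists_prime_orderOf_dvd_card' 2 (even_iff_two_dvd.1 hev)
    rw [← Subgroup.orderOf_coe] at ht2
    simp only at ht2
    obtain ⟨t, rfl⟩ := QuotientGroup.mk'_surjective (center G) t
    have ht2' : (QuotientGroup.mk' (center G) t) ^ 2 = 1 := by rw [← ht2]; exact pow_orderOf_eq_one _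
    have ht1 : QuotientGroup.mk' (center G) t ≠ 1 := by
      intro h1
      rw [h1, orderOf_one] at ht2
      omega
    have hgv : ¬ Commute v g := fun h' => hg (mem_bar.2 h')
    have hvt : Commute v t := mem_bar.1 ht.1
    have hwt : Commute (g * v * g⁻¹) t := by
      obtain ⟨m, hm, hmt⟩ := ht.2
      have h1 : m = QuotientGroup.mk' (center G) (g⁻¹ * t * g) := by
        have h2 : (QuotientGroup.mk' (center G) g) * m * (QuotientGroup.mk' (center G) g)⁻¹ =
          QuotientGroup.mk' (center G) t := hmt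
        rw [map_mul, map_mul, map_inv, ← h2]; group
      rw [h1] at hm
      have h3 : Commute v (g⁻¹ * t * g) := mem_bar.1 hm
      have h4 := (conj_comm g).2 h3
      have h5 : g * (g⁻¹ * t * g) * g⁻¹ = t := by group
      rwa [h5] at h4
    obtain ⟨k, m, hm, hkm⟩ := Nat.exists_eq_two_pow_mul_odd (orderOf_pos t).ne'
    have h1 : t ^ m ∈ center G := by
      refine ti h hv hz hgv ⟨k, ?_⟩ (hvt.pow_right m) (hwt.pow_right m)
      rw [← pow_mul, mul_comm, ← hkm, pow_orderOf_eq_one]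
    apply ht1
    rw [← pow_bar ht2' hm]
    exact (QuotientGroup.eq_one_iff _).2 h1

theorem core_bot (h : Beta G) {M : Subgroup (G ⧸ center G)} (ho : Odd (Nat.card M.normalCore)) : M.normalCore = ⊥ :=
  odd_bot h _ inferInstance ho

/-- (I) -/
theorem b1 (h : Beta G) : ∀ u : G, u ∉ center G → Odd (orderOf u) → ∀ P : Subgroup G, IsPGroup 2 P →
    (∀ p ∈ P, Commute u p) → ∀ a ∈ P, ∀ b ∈ P, Commute a b := by
  intro v hz hodd P hP hPv a ha b hb
  by_contra hab
  have hv : NA v := ⟨P, hP, hPv, a, ha, b, hb, hab⟩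
  have hse := se h hv hz
  set π := QuotientGroup.mk' (center G) with hπ
  set M := (centralizer ({v} : Set G)).map π with hM
  by_cases hF : H16.BD.Four (G ⧸ center G)
  · have hB := H83.BdC.beta_of_se H18.Bender.bender hse hF
    have hcore : M.normalCore = ⊥ := core_bot h (H83.BdC.core_odd hB)
    obtain ⟨Q, hQ1, hQM, hQn, hQt, hQf, hQ2, hQp⟩ := H83.BdC.exists_Q hB
    have hcomm : ∀ q ∈ M, Commute (π v) q := by
      rintro _ ⟨m, hm, rfl⟩
      exact (mem_c.1 hm).map π
    have hvM : π v ∈ M := mem_bar.2 (Commute.refl v)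
    -- `v⁻¹` is in all conjugates
    have key : ∀ g : G ⧸ center G, g⁻¹ * (π v)⁻¹ * g ∈ M := by
      intro g
      by_cases hg : g ∈ M
      · exact M.mul_mem (M.mul_mem (M.inv_mem hg) (M.inv_mem hvM)) hg
      have hvg : π v * g ∉ M := fun h' => hg ((M.mul_mem_cancel_left hvM).1 h')
      obtain ⟨q, hq, hqM⟩ := hQt g (π v * g) hg hvg
      have hqv : Commute (π v)⁻¹ q := (hcomm q (hQM hq)).inv_left
      have h1 : g⁻¹ * ((π v)⁻¹ * q) * g ∈ M := by
        have h2 : (π v * g)⁻¹ * (q * g) = g⁻¹ * ((π v)⁻¹ * q) * g := by group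
        rwa [h2] at hqM
      set n := orderOf v with hn
      have hvn : ((π v)⁻¹) ^ n = 1 := by rw [inv_pow, ← map_pow, hn, pow_orderOf_eq_one, map_one, inv_one]
      have h2 : g⁻¹ * (q ^ n * g) ∈ M := by
        have h3 : (g⁻¹ * ((π v)⁻¹ * q) * g) ^ n = g⁻¹ * (q ^ n * g) := by
          have h4 : (g⁻¹ * ((π v)⁻¹ * q) * g⁻¹⁻¹) ^ n = g⁻¹ * ((π v)⁻¹ * q) ^ n * g⁻¹⁻¹ := conj_pow
          rw [inv_inv] at h4
          rw [h4, hqv.mul_pow, hvn, one_mul, mul_assoc]
        rw [← h3]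
        exact M.pow_mem h1 n
      have h3 : q ^ n = 1 := by
        have := hQf g hg (q ^ n) (Q.pow_mem hq n) h2
        rwa [hcore, mem_bot] at this
      obtain ⟨k, hk⟩ := hQp q hq
      rw [hcore, mem_bot] at hk
      have h4 : orderOf q = 1 := by
        have h5 : orderOf q ∣ n := orderOf_dvd_of_pow_eq_one h3
        have h6 : orderOf q ∣ 2 ^ k := orderOf_dvd_of_pow_eq_one hk
        have h7 : Nat.Coprime (2 ^ k) n := Nat.Coprime.pow_left k (Nat.coprime_two_left.2 hodd)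
        exact Nat.eq_one_of_dvd_coprimes h7 h6 h5
      rw [orderOf_eq_one_iff] at h4
      rw [h4, mul_one] at h1
      exact h1
    have h1 : (π v)⁻¹ ∈ M.normalCore := by
      intro g
      have := key g⁻¹
      rwa [inv_inv] at this
    rw [hcore, mem_bot, inv_eq_one] at h1
    exact hz ((QuotientGroup.eq_one_iff v).1 h1)
  · have h1 := H83.BdC.sup_eq_top_of_not_four hF hse
    have h2 : Cfsg.oddCore (G ⧸ center G) = ⊥ := odd_bot h _ inferInstance
      ((Nat.coprime_two_right).1 (H1.Cores.coprime_card_pPrimeCore 2))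
    rw [h2, bot_sup_eq] at h1
    exact hse.1 h1

end

end H67.CAI
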