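import Mathlib

set_option autoImplicit false

/-! The combinatorics of a block of defect one. -/

namespace H67.DefComb

open Finset

variable {I : Type*} [Fintype I] [DecidableEq I]

/-- integral vectors of norm two orthogonal to a positive vector -/
theorem norm_two (f : I → ℤ) (d : I → ℤ) (hd : ∀ i, 0 < d i) (h2 : ∑ i, f i * f i = 2)
    (h0 : ∑ i, f i * d i = 0) : ∃ x z : I, x ≠ z ∧ ∀ i, f i = (if i = x then 1 else 0) -
      (if i = z then 1 else 0) := by
  classical
  have hne : ∃ i, f i ≠ 0 := by
    by_contra hcon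
    push Not at hcon
    rw [Finset.sum_eq_zero (fun i _ => by rw [hcon i, mul_zero])] at h2
    omega
  have hpos : ∃ x, 0 < f x := by
    by_contra hcon
    push Not at hcon
    obtain ⟨i, hi⟩ := hne
    have h3 : f i * d i = 0 := by
      have h4 : ∀ j ∈ univ, f j * d j ≤ 0 := fun j _ => mul_nonpos_of_nonpos_of_nonneg (hcon j) (hd j).le
      exact (Finset.sum_eq_zero_iff_of_nonpos h4).1 h0 i (mem_univ _)
    rcases mul_eq_zero.1 h3 with h | h
    · exact hi h
    · exact absurd h (hd i).ne'
  have hneg : ∃ z, f z < 0 := by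
    by_contra hcon
    push Not at hcon
    obtain ⟨i, hi⟩ := hne
    have h3 : f i * d i = 0 := by
      have h4 : ∀ j ∈ univ, 0 ≤ f j * d j := fun j _ => mul_nonneg (hcon j) (hd j).le
      exact (Finset.sum_eq_zero_iff_of_nonneg h4).1 h0 i (mem_univ _)
    rcases mul_eq_zero.1 h3 with h | h
    · exact hi h
    · exact absurd h (hd i).ne'
  obtain ⟨x, hx⟩ := hpos
  obtain ⟨z, hz⟩ := hneg
  have hxz : x ≠ z := by rintro rfl; omega
  have hz' : z ∈ univ.erase x := mem_erase.2 ⟨hxz.symm, mem_univ _⟩
  rw [← Finset.add_sum_erase univ (fun i => f i * f i) (mem_univ x),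
    ← Finset.add_sum_erase _ (fun i => f i * f i) hz'] at h2
  have hrest : 0 ≤ ∑ i ∈ (univ.erase x).erase z, f i * f i :=
    Finset.sum_nonneg (fun i _ => mul_self_nonneg _)
  have hx1 : 1 ≤ f x * f x := by nlinarith
  have hz1 : 1 ≤ f z * f z := by nlinarith
  have hfx : f x = 1 := by nlinarith
  have hfz : f z = -1 := by nlinarith
  have hr0 : ∑ i ∈ (univ.erase x).erase z, f i * f i = 0 := by
    simp only [hfx, hfz] at h2
    linarith
  refine ⟨x, z, hxz, fun i => ?_⟩
  by_cases hix : i = x
  · subst hix
    rw [if_pos rfl, if_neg hxz, hfx]; rfl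
  by_cases hiz : i = z
  · subst hiz
    rw [if_neg hix, if_pos rfl, hfz]; rfl
  · rw [if_neg hix, if_neg hiz]
    have h3 := (Finset.sum_eq_zero_iff_of_nonneg (fun i _ => mul_self_nonneg (f i))).1 hr0 i
      (mem_erase.2 ⟨hiz, mem_erase.2 ⟨hix, mem_univ _⟩⟩)
    have := mul_self_eq_zero.1 h3
    rw [this]; rfl

theorem inner_pairs {x z x' z' : I} (hxz : x ≠ z) (hxz' : x' ≠ z')
    (h : ∑ i, ((if i = x then (1 : ℤ) else 0) - (if i = z then 1 else 0)) *
      ((if i = x' then 1 else 0) - (if i = z' then 1 else 0)) = 1) :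
    (x = x' ∧ z ≠ z') ∨ (x ≠ x' ∧ z = z') := by
  have h1 : ∑ i, ((if i = x then (1 : ℤ) else 0) - (if i = z then 1 else 0)) *
      ((if i = x' then 1 else 0) - (if i = z' then 1 else 0)) =
      ((if x = x' then (1 : ℤ) else 0) - (if x = z' then 1 else 0)) -
      ((if z = x' then 1 else 0) - (if z = z' then 1 else 0)) := by
    simp only [sub_mul, Finset.sum_sub_distrib, ite_mul, one_mul, zero_mul, Finset.sum_ite_eq',
      mem_univ, if_true]
  rw [h1] at h
  by_cases a : x = x'
  · left
    refine ⟨a, ?_⟩
    intro b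
    subst a; subst b
    rw [if_pos rfl, if_neg hxz, if_neg hxz.symm, if_pos rfl] at h
    omega
  · right
    refine ⟨a, ?_⟩
    by_contra b
    rw [if_neg a, if_neg b] at h
    split_ifs at h <;> omega

/-- the differences -/
theorem exists_diff {Q : Type*} [Fintype Q] [DecidableEq Q] {e : ℤ} (A : Q → I → ℤ)
    (hgram : ∀ q r, ∑ i, A q i * A r i = e + if q = r then 1 else 0)
    (d : I → ℤ) (hd : ∀ i, 0 < d i) (hdeg : ∀ q, ∑ i, A q i * d i = 0) {q1 : Q}
    (hQ : ∃ q2, q2 ≠ q1) :
    ∃ (s : ℤ) (y : Q → I), (s = 1 ∨ s = -1) ∧ Function.Injective y ∧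
      ∀ q i, A q1 i - A q i = s * ((if i = y q1 then 1 else 0) - (if i = y q then 1 else 0)) := by
  classical
  have hdiff : ∀ q, q ≠ q1 → ∃ x z : I, x ≠ z ∧ ∀ i, A q1 i - A q i = (if i = x then 1 else 0) -
      (if i = z then 1 else 0) := by
    intro q hq
    apply norm_two (fun i => A q1 i - A q i) d hd
    · have h1 : ∀ i, (A q1 i - A q i) * (A q1 i - A q i) =
          A q1 i * A q1 i - A q1 i * A q i - A q i * A q1 i + A q i * A q i := fun i => by ring
      rw [Finset.sum_congr rfl (fun i _ => h1 i), Finset.sum_add_distrib, Finset.sum_sub_distrib,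
        Finset.sum_sub_distrib, hgram, hgram, hgram, hgram, if_pos rfl, if_neg hq.symm, if_neg hq,
        if_pos rfl]
      ring
    · have h1 : ∀ i, (A q1 i - A q i) * d i = A q1 i * d i - A q i * d i := fun i => by ring
      rw [Finset.sum_congr rfl (fun i _ => h1 i), Finset.sum_sub_distrib, hdeg, hdeg, sub_zero]
  obtain ⟨q2, hq2⟩ := hQ
  obtain ⟨x0, _⟩ := hdiff q2 hq2
  have : Nonempty I := ⟨x0⟩
  choose! x z hxz hD using hdiff
  have hpair : ∀ q r, q ≠ q1 → r ≠ q1 → q ≠ r → (x q = x r ∧ z q ≠ z r) ∨ (x q ≠ x r ∧ z q = z r) := by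
    intro q r hq hr hqr
    apply inner_pairs (hxz q hq) (hxz r hr)
    have h1 : ∀ i, ((if i = x q then (1 : ℤ) else 0) - (if i = z q then 1 else 0)) *
        ((if i = x r then 1 else 0) - (if i = z r then 1 else 0)) =
        A q1 i * A q1 i - A q1 i * A r i - A q i * A q1 i + A q i * A r i := by
      intro i
      rw [← hD q hq, ← hD r hr]; ring
    rw [Finset.sum_congr rfl (fun i _ => h1 i), Finset.sum_add_distrib, Finset.sum_sub_distrib,
      Finset.sum_sub_distrib, hgram, hgram, hgram, hgram, if_pos rfl, if_neg hr.symm, if_neg hq,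
      if_neg hqr]
    ring
  have hcase : (∀ q, q ≠ q1 → x q = x q2) ∨ (∀ q, q ≠ q1 → z q = z q2) := by
    by_contra hcon
    push Not at hcon
    obtain ⟨⟨q, hq, hxq⟩, ⟨r, hr, hzr⟩⟩ := hcon
    have hqq2 : q ≠ q2 := by rintro rfl; exact hxq rfl
    have hrq2 : r ≠ q2 := by rintro rfl; exact hzr rfl
    have h1 := (hpair q q2 hq hq2 hqq2).resolve_left (fun h => hxq h.1)
    have h2 := (hpair r q2 hr hq2 hrq2).resolve_right (fun h => hzr h.2)
    by_cases hqr : q = r
    · subst hqr; exact hxq h2.1
    rcases hpair q r hq hr hqr with h | h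
    · exact hxq (h.1.trans h2.1)
    · exact hzr (h.2.symm.trans h1.2)
  rcases hcase with hc | hc
  · obtain ⟨Y, hY1, hY2⟩ : ∃ Y : Q → I, Y q1 = x q2 ∧ ∀ q, q ≠ q1 → Y q = z q :=
      ⟨fun q => if q = q1 then x q2 else z q, if_pos rfl, fun q hq => if_neg hq⟩
    refine ⟨1, Y, Or.inl rfl, ?_, ?_⟩
    · intro q r hqr
      by_cases hq : q = q1 <;> by_cases hr : r = q1
      · rw [hq, hr]
      · rw [hq, hY1, hY2 r hr, ← hc r hr] at hqr
        exact absurd hqr (hxz r hr)
      · rw [hr, hY1, hY2 q hq, ← hc q hq] at hqr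
        exact absurd hqr.symm (hxz q hq)
      · rw [hY2 q hq, hY2 r hr] at hqr
        by_contra hne
        rcases hpair q r hq hr hne with h | h
        · exact h.2 hqr
        · exact h.1 ((hc q hq).trans (hc r hr).symm)
    · intro q i
      by_cases hq : q = q1
      · rw [hq]; ring
      · rw [hY1, hY2 q hq, hD q hq, hc q hq, one_mul]
  · obtain ⟨Y, hY1, hY2⟩ : ∃ Y : Q → I, Y q1 = z q2 ∧ ∀ q, q ≠ q1 → Y q = x q :=
      ⟨fun q => if q = q1 then z q2 else x q, if_pos rfl, fun q hq => if_neg hq⟩
    refine ⟨-1, Y, Or.inr rfl, ?_, ?_⟩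
    · intro q r hqr
      by_cases hq : q = q1 <;> by_cases hr : r = q1
      · rw [hq, hr]
      · rw [hq, hY1, hY2 r hr, ← hc r hr] at hqr
        exact absurd hqr.symm (hxz r hr)
      · rw [hr, hY1, hY2 q hq, ← hc q hq] at hqr
        exact absurd hqr (hxz q hq)
      · rw [hY2 q hq, hY2 r hr] at hqr
        by_contra hne
        rcases hpair q r hq hr hne with h | h
        · exact h.2 ((hc q hq).trans (hc r hr).symm)
        · exact h.1 hqr
    · intro q i
      by_cases hq : q = q1
      · rw [hq]; ring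
      · rw [hY1, hY2 q hq, hD q hq, hc q hq]; ring

/-- the structure of the family -/
theorem structure_thm {Q : Type*} [Fintype Q] [DecidableEq Q] [Nonempty Q] {e : ℕ} (A : Q → I → ℤ)
    (hgram : ∀ q r, ∑ i, A q i * A r i = (e : ℤ) + if q = r then 1 else 0)
    (d : I → ℤ) (hd : ∀ i, 0 < d i) (hdeg : ∀ q, ∑ i, A q i * d i = 0)
    (hM : ∀ i, ∃ M : ℕ, 1 ≤ M ∧ ((M : ℤ) * ∑ q, A q i = 0 ∨ (M : ℤ) * ∑ q, A q i = Fintype.card Q ∨
      (M : ℤ) * ∑ q, A q i = -(Fintype.card Q : ℤ))) :
    ∃ (s : ℤ) (y : Q → I), (s = 1 ∨ s = -1) ∧ Function.Injective y ∧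
      (∀ q r, A q (y r) = if q = r then s else 0) ∧
      (∀ i, (∀ q, i ≠ y q) → ∃ c : ℤ, (c = 0 ∨ c = 1 ∨ c = -1) ∧ ∀ q, A q i = c) ∧
      (univ.filter (fun i => (∀ q, i ≠ y q) ∧ ∃ q, A q i ≠ 0)).card = e := by
  classical
  obtain ⟨q1⟩ := ‹Nonempty Q›
  have hcardpos : 0 < Fintype.card Q := Fintype.card_pos_iff.2 ⟨q1⟩
  -- it suffices to have the differences and the diagonal
  suffices H : ∃ (s : ℤ) (y : Q → I), (s = 1 ∨ s = -1) ∧ Function.Injective y ∧
      (∀ q r, A q (y r) = if q = r then s else 0) ∧
      (∀ i, (∀ q, i ≠ y q) → ∀ q, A q i = A q1 i) by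
    obtain ⟨s, y, hs, hy, h1, h2⟩ := H
    have h3 : ∀ i, (∀ q, i ≠ y q) → (A q1 i = 0 ∨ A q1 i = 1 ∨ A q1 i = -1) := by
      intro i hi
      obtain ⟨M, hM1, hM2⟩ := hM i
      rw [Finset.sum_congr rfl (fun q _ => h2 i hi q), Finset.sum_const, Finset.card_univ,
        nsmul_eq_mul] at hM2
      have hc : (0 : ℤ) < Fintype.card Q := by exact_mod_cast hcardpos
      have hM1' : (1 : ℤ) ≤ M := by exact_mod_cast hM1
      have h4 : (M : ℤ) * A q1 i = 0 ∨ (M : ℤ) * A q1 i = 1 ∨ (M : ℤ) * A q1 i = -1 := by
        rcases hM2 with h | h | h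
        · left
          have : (Fintype.card Q : ℤ) * (M * A q1 i) = (Fintype.card Q : ℤ) * 0 := by
            linear_combination h
          exact mul_left_cancel₀ hc.ne' this
        · right; left
          have : (Fintype.card Q : ℤ) * (M * A q1 i) = (Fintype.card Q : ℤ) * 1 := by
            linear_combination h
          exact mul_left_cancel₀ hc.ne' this
        · right; right
          have : (Fintype.card Q : ℤ) * (M * A q1 i) = (Fintype.card Q : ℤ) * (-1) := by
            linear_combination h
          exact mul_left_cancel₀ hc.ne' this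
      rcases h4 with h | h | h
      · left
        rcases mul_eq_zero.1 h with h5 | h5
        · omega
        · exact h5
      · right; left
        rcases Int.mul_eq_one_iff_eq_one_or_neg_one.1 h with h5 | h5
        · exact h5.2
        · omega
      · right; right
        have h6 : (M : ℤ) * (-(A q1 i)) = 1 := by linarith
        rcases Int.mul_eq_one_iff_eq_one_or_neg_one.1 h6 with h5 | h5
        · omega
        · omega
    refine ⟨s, y, hs, hy, h1, ?_, ?_⟩
    · intro i hi
      exact ⟨A q1 i, h3 i hi, h2 i hi⟩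
    · have h4 := hgram q1 q1
      rw [if_pos rfl] at h4
      have h5 : ∑ i, A q1 i * A q1 i = (∑ i ∈ univ.filter (fun i => ∀ q, i ≠ y q), A q1 i * A q1 i) +
          ∑ i ∈ univ.filter (fun i => ¬ ∀ q, i ≠ y q), A q1 i * A q1 i :=
        (Finset.sum_filter_add_sum_filter_not _ _ _).symm
      have h6 : univ.filter (fun i => ¬ ∀ q, i ≠ y q) = univ.image y := by
        ext i
        simp only [mem_filter, mem_univ, true_and, mem_image]
        push Not
        exact ⟨fun ⟨q, hq⟩ => ⟨q, hq.symm⟩, fun ⟨q, hq⟩ => ⟨q, hq.symm⟩⟩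
      have h7 : ∑ i ∈ univ.filter (fun i => ¬ ∀ q, i ≠ y q), A q1 i * A q1 i = 1 := by
        rw [h6, Finset.sum_image (fun a _ b _ h => hy h), Finset.sum_eq_single q1]
        · rw [h1, if_pos rfl]
          rcases hs with h | h <;> rw [h] <;> rfl
        · intro r _ hr
          rw [h1, if_neg hr.symm, mul_zero]
        · intro h; exact absurd (mem_univ _) h
      have h8 : ∑ i ∈ univ.filter (fun i => ∀ q, i ≠ y q), A q1 i * A q1 i =
          ((univ.filter (fun i => (∀ q, i ≠ y q) ∧ ∃ q, A q i ≠ 0)).card : ℤ) := by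
        rw [← Finset.filter_filter, Finset.card_filter, Nat.cast_sum]
        refine Finset.sum_congr rfl (fun i hi => ?_)
        rw [Nat.cast_ite, Nat.cast_one, Nat.cast_zero]
        have hi' := (mem_filter.1 hi).2
        by_cases hne : ∃ q, A q i ≠ 0
        · rw [if_pos hne]
          obtain ⟨q, hq⟩ := hne
          rw [h2 i hi'] at hq
          rcases h3 i hi' with h | h | h
          · exact absurd h hq
          · rw [h]; rfl
          · rw [h]; rfl
        · rw [if_neg hne]
          push Not at hne
          rw [hne q1, mul_zero]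
      rw [h5, h7, h8] at h4
      have h9 : ((univ.filter (fun i => (∀ q, i ≠ y q) ∧ ∃ q, A q i ≠ 0)).card : ℤ) = e := by linarith
      exact_mod_cast h9
  by_cases hQ : ∃ q2, q2 ≠ q1
  · obtain ⟨s, y, hs, hy, hD⟩ := exists_diff A hgram d hd hdeg hQ
    have hs2 : s * s = 1 := by rcases hs with h | h <;> rw [h] <;> rfl
    have hD' : ∀ q r i, A q i - A r i = s * ((if i = y q then 1 else 0) - (if i = y r then 1 else 0)) := by
      intro q r i
      have h1 := hD q i
      have h2 := hD r i
      linarith
    have hinner : ∀ q r, q ≠ r → A q (y q) - A q (y r) = s := by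
      intro q r hqr
      have h1 : ∑ i, A q i * (A q i - A r i) = 1 := by
        have h2 : ∀ i, A q i * (A q i - A r i) = A q i * A q i - A q i * A r i := fun i => by ring
        rw [Finset.sum_congr rfl (fun i _ => h2 i), Finset.sum_sub_distrib, hgram, hgram,
          if_pos rfl, if_neg hqr]
        ring
      have h3 : ∑ i, A q i * (A q i - A r i) = s * (A q (y q) - A q (y r)) := by
        rw [Finset.sum_congr rfl (fun i _ => by rw [hD' q r i])]
        have h4 : ∀ i, A q i * (s * ((if i = y q then (1 : ℤ) else 0) - (if i = y r then 1 else 0))) =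
            s * ((if i = y q then A q i else 0) - (if i = y r then A q i else 0)) := by
          intro i
          split_ifs <;> ring
        rw [Finset.sum_congr rfl (fun i _ => h4 i), ← Finset.mul_sum, Finset.sum_sub_distrib,
          Finset.sum_ite_eq', Finset.sum_ite_eq', if_pos (mem_univ _), if_pos (mem_univ _)]
      rw [h3] at h1
      have h5 : s * (s * (A q (y q) - A q (y r))) = s := by rw [h1, mul_one]
      rwa [← mul_assoc, hs2, one_mul] at h5
    -- the common constant
    set c : ℤ := A q1 (y q1) - s with hc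
    have hcc : ∀ q r, A q (y r) = c + if q = r then s else 0 := by
      have h1 : ∀ q r, q ≠ r → A r (y q) = A q (y q) - s := by
        intro q r hqr
        have := hD' q r (y q)
        rw [if_pos rfl, if_neg (fun h => hqr (hy h))] at this
        linarith
      have h2 : ∀ q r, q ≠ r → A q (y r) = A q (y q) - s := by
        intro q r hqr
        have := hinner q r hqr
        linarith
      have h3 : ∀ q r, q ≠ r → A q (y q) = A r (y r) := by
        intro q r hqr
        have h4 := h1 q r hqr
        have h5 := h2 r q hqr.symm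
        linarith
      have h4 : ∀ q, A q (y q) = c + s := by
        intro q
        by_cases h : q = q1
        · rw [h]; linarith
        · rw [h3 q q1 h]; linarith
      intro q r
      by_cases hqr : q = r
      · rw [if_pos hqr, hqr, h4]
      · rw [if_neg hqr, h2 q r hqr, h4]; ring
    have hconst : ∀ i, (∀ q, i ≠ y q) → ∀ q, A q i = A q1 i := by
      intro i hi q
      have := hD q i
      rw [if_neg (hi q1), if_neg (hi q)] at this
      linarith
    -- the sum at an exceptional index
    have hsum : ∀ r, ∑ q, A q (y r) = (Fintype.card Q : ℤ) * c + s := by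
      intro r
      rw [Finset.sum_congr rfl (fun q _ => hcc q r), Finset.sum_add_distrib, Finset.sum_const,
        Finset.card_univ, nsmul_eq_mul, Finset.sum_ite_eq', if_pos (mem_univ _)]
    obtain ⟨M, hM1, hM2⟩ := hM (y q1)
    rw [hsum] at hM2
    obtain ⟨q2, hq2⟩ := hQ
    have hcard2 : 2 ≤ Fintype.card Q := by
      have : Nontrivial Q := ⟨q2, q1, hq2⟩
      exact Fintype.one_lt_card_iff_nontrivial.2 this
    set t : ℤ := (Fintype.card Q : ℤ) with ht
    have ht2 : 2 ≤ t := by rw [ht]; exact_mod_cast hcard2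
    have hM1' : (1 : ℤ) ≤ M := by exact_mod_cast hM1
    have hc01 : c = 0 ∨ (t = 2 ∧ c = -s) := by
      by_contra hcon
      push Not at hcon
      obtain ⟨hc0, hcs⟩ := hcon
      -- absolute values
      have h1 : (M : ℤ) * |t * c + s| = 0 ∨ (M : ℤ) * |t * c + s| = t := by
        rcases hM2 with h | h | h
        · left
          rw [← abs_of_pos (show (0 : ℤ) < M by omega), ← abs_mul, h, abs_zero]
        · right
          rw [← abs_of_pos (show (0 : ℤ) < M by omega), ← abs_mul, h, abs_of_pos (by omega)]
        · right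
          rw [← abs_of_pos (show (0 : ℤ) < M by omega), ← abs_mul, h, abs_neg, abs_of_pos (by omega)]
      have hcabs : 1 ≤ |c| := Int.one_le_abs hc0
      have hsabs : |s| = 1 := by rcases hs with h | h <;> rw [h] <;> rfl
      have h2 : t * |c| ≤ |t * c + s| + 1 := by
        calc t * |c| = |t * c| := by rw [abs_mul, abs_of_pos (by omega : (0 : ℤ) < t)]
          _ = |(t * c + s) - s| := by rw [add_sub_cancel_right]
          _ ≤ |t * c + s| + |s| := abs_sub _ _
          _ = _ := by rw [hsabs]
      have h3 : t - 1 ≤ |t * c + s| := by nlinarith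
      rcases h1 with h | h
      · rcases mul_eq_zero.1 h with h4 | h4
        · omega
        · rw [h4] at h3; omega
      · -- `M = 1` or `M ≥ 2`
        rcases Nat.lt_or_ge M 2 with h4 | h4
        · have hMe : M = 1 := by omega
          rw [hMe, Nat.cast_one, one_mul] at h
          have h5 : t ∣ s := by
            have h6 : t ∣ |t * c + s| := by rw [h]
            rw [dvd_abs] at h6
            exact (Int.dvd_add_right (dvd_mul_right t c)).1 h6
          have h7 := Int.le_of_dvd (by rw [hsabs]; norm_num : (0 : ℤ) < |s|) ((dvd_abs t s).2 h5)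
          omega
        · have h4' : (2 : ℤ) ≤ M := by exact_mod_cast h4
          have h5 : 2 * |t * c + s| ≤ t := by
            have := mul_le_mul_of_nonneg_right h4' (abs_nonneg (t * c + s))
            linarith
          have ht' : t = 2 := by omega
          have h6 : |t * c + s| = 1 := by omega
          apply hcs ht'
          rw [ht'] at h6
          rcases hs with hs' | hs' <;> rw [hs'] at h6 ⊢ <;> rcases abs_eq (by norm_num : (0:ℤ) ≤ 1) |>.1 h6 with h7 | h7 <;> omega
    rcases hc01 with h | ⟨h1, h2⟩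
    · exact ⟨s, y, hs, hy, fun q r => by rw [hcc, h, zero_add], hconst⟩
    · -- two exceptional indices: swap
      have hall : ∀ q, q = q1 ∨ q = q2 := by
        intro q
        by_contra hcon
        push Not at hcon
        have h3 : ({q, q1, q2} : Finset Q).card ≤ Fintype.card Q := Finset.card_le_univ _
        rw [Finset.card_insert_of_notMem (by simp [hcon.1, hcon.2]), Finset.card_insert_of_notMem
          (by simp [hq2.symm]), Finset.card_singleton] at h3
        have h4 : (3 : ℤ) ≤ t := by rw [ht]; exact_mod_cast h3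
        omega
      refine ⟨-s, y ∘ (Equiv.swap q1 q2), ?_, hy.comp (Equiv.injective _), ?_, ?_⟩
      · rcases hs with h | h <;> rw [h] <;> simp
      · intro q r
        rw [Function.comp_apply, hcc, h2]
        rcases hall q with rfl | rfl <;> rcases hall r with rfl | rfl
        · rw [Equiv.swap_apply_left, if_neg hq2.symm, if_pos rfl, add_zero]
        · rw [Equiv.swap_apply_right, if_pos rfl, if_neg hq2.symm]; ring
        · rw [Equiv.swap_apply_left, if_pos rfl, if_neg hq2]; ring
        · rw [Equiv.swap_apply_right, if_neg hq2, if_pos rfl, add_zero]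
      · intro i hi
        apply hconst
        intro q hq
        apply hi (Equiv.swap q1 q2 q)
        rw [Function.comp_apply, Equiv.swap_apply_self]
        exact hq
  · -- a single index
    push Not at hQ
    have hcard1 : Fintype.card Q = 1 := Fintype.card_eq_one_iff.2 ⟨q1, hQ⟩
    have hex : ∃ i, A q1 i ≠ 0 := by
      by_contra hcon
      push Not at hcon
      have h1 := hgram q1 q1
      rw [Finset.sum_eq_zero (fun i _ => by rw [hcon i, mul_zero]), if_pos rfl] at h1
      omega
    obtain ⟨i0, hi0⟩ := hex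
    obtain ⟨M, hM1, hM2⟩ := hM i0
    have h1 : ∑ q, A q i0 = A q1 i0 := by
      rw [Finset.sum_eq_single q1]
      · intro q _ hq; exact absurd (hQ q) hq
      · intro h; exact absurd (mem_univ _) h
    rw [h1, hcard1, Nat.cast_one] at hM2
    have hM1' : (1 : ℤ) ≤ M := by exact_mod_cast hM1
    refine ⟨A q1 i0, fun _ => i0, ?_, ?_, ?_, ?_⟩
    · rcases hM2 with h | h | h
      · rcases mul_eq_zero.1 h with h5 | h5
        · omega
        · exact absurd h5 hi0
      · rcases Int.mul_eq_one_iff_eq_one_or_neg_one.1 h with h5 | h5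
        · exact Or.inl h5.2
        · omega
      · have h6 : (M : ℤ) * (-(A q1 i0)) = 1 := by linarith
        rcases Int.mul_eq_one_iff_eq_one_or_neg_one.1 h6 with h5 | h5
        · right; omega
        · omega
    · intro q r _
      rw [hQ q, hQ r]
    · intro q r
      rw [hQ q, hQ r, if_pos rfl]
    · intro i _ q
      rw [hQ q]

end H67.DefComb
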