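import Mathlib

set_option autoImplicit false

/-! Every representation of a finite group over the fraction field of a principal ideal domain is
defined over the domain. -/

namespace H67.Lat

open Finset

variable {R : Type*} [CommRing R] [IsDomain R] [IsPrincipalIdealRing R]
variable {K : Type*} [Field K] [Algebra R K] [IsFractionRing R K]
variable {G : Type*} [Group G] [Finite G]

theorem exists_lattice {n : ℕ} (σ : Representation K G (Fin n → K)) :
    ∃ ρ : Representation R G (Fin n → R), ∀ g, algebraMap R K (LinearMap.trace R _ (ρ g)) =
      LinearMap.trace K _ (σ g) := by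
  classical
  let V := Fin n → K
  let S : Set V := Set.range (fun x : G × Fin n => σ x.1 (Pi.single x.2 1))
  have hSfin : S.Finite := Set.finite_range _
  let L : Submodule R V := Submodule.span R S
  have hstab : ∀ g : G, ∀ v ∈ L, σ g v ∈ L := by
    intro g v hv
    induction hv using Submodule.span_induction with
    | mem x hx =>
      obtain ⟨⟨h, i⟩, rfl⟩ := hx
      apply Submodule.subset_span
      exact ⟨(g * h, i), by simp only [map_mul, Module.End.mul_apply]⟩
    | zero => rw [map_zero]; exact L.zero_mem
    | add x y _ _ hx hy => rw [map_add]; exact L.add_mem hx hy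
    | smul a x _ hx =>
      have h1 : σ g (a • x) = a • σ g x := by
        rw [← algebraMap_smul K a x, map_smul, algebraMap_smul]
      rw [h1]
      exact L.smul_mem a hx
  have hLfin : Module.Finite R L := Module.Finite.iff_fg.2 (Submodule.fg_span hSfin)
  have htf : Module.IsTorsionFree R V := by
    have : FaithfulSMul R K := inferInstance
    have h1 : Module.IsTorsionFree R K := inferInstance
    infer_instance
  have hfree : Module.Free R L := inferInstance
  let b := Module.finBasis R L
  set d := Module.finrank R L with hd
  let bv : Fin d → V := fun i => (b i : V)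
  have hli : LinearIndependent K bv := by
    rw [← LinearIndependent.iff_fractionRing R K]
    exact b.linearIndependent.map' L.subtype (Submodule.ker_subtype L)
  have hspan : ⊤ ≤ Submodule.span K (Set.range bv) := by
    have h1 : ∀ v ∈ L, v ∈ Submodule.span K (Set.range bv) := by
      intro v hv
      have h2 := b.sum_repr ⟨v, hv⟩
      have h3 : v = ∑ i, (algebraMap R K (b.repr ⟨v, hv⟩ i)) • bv i := by
        have h4 := congrArg Subtype.val h2
        rw [Submodule.coe_sum] at h4
        refine Eq.trans h4.symm ?_
        refine Finset.sum_congr rfl (fun i _ => ?_)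
        rw [algebraMap_smul]; rfl
      rw [h3]
      exact Submodule.sum_mem _ (fun i _ => Submodule.smul_mem _ _ (Submodule.subset_span ⟨i, rfl⟩))
    intro v _
    rw [show v = ∑ i, v i • (Pi.single i (1 : K) : V) by
      ext j; simp [Finset.sum_apply, Pi.single_apply]]
    refine Submodule.sum_mem _ (fun i _ => Submodule.smul_mem _ _ (h1 _ ?_))
    apply Submodule.subset_span
    exact ⟨(1, i), by simp⟩
  let bK : Module.Basis (Fin d) K V := Module.Basis.mk hli hspan
  have hbK : ∀ i, bK i = (b i : V) := fun i => by rw [Module.Basis.mk_apply]
  have hdn : d = n := by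
    have h1 := Module.finrank_eq_card_basis bK
    rw [Fintype.card_fin, Module.finrank_fin_fun] at h1
    exact h1.symm
  have hrepr : ∀ (v : L) (i : Fin d), bK.repr (v : V) i = algebraMap R K (b.repr v i) := by
    intro v i
    have h2 := b.sum_repr v
    have h3 : (v : V) = ∑ i, (algebraMap R K (b.repr v i)) • bK i := by
      have h4 := congrArg Subtype.val h2
      rw [Submodule.coe_sum] at h4
      conv_lhs => rw [← h4]
      refine Finset.sum_congr rfl (fun i _ => ?_)
      rw [algebraMap_smul, hbK]; rfl
    conv_lhs => rw [h3]
    rw [bK.repr_sum_self]
  -- the restricted representation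
  let τ : Representation R G L :=
    { toFun := fun g =>
        { toFun := fun v => ⟨σ g v, hstab g v v.2⟩
          map_add' := fun v w => Subtype.ext (by simp)
          map_smul' := fun a v => Subtype.ext (by
            change σ g (a • (v : V)) = a • σ g v
            rw [← algebraMap_smul K a (v : V), map_smul, algebraMap_smul]) }
      map_one' := by
        ext v
        simp
      map_mul' := fun g h => by
        ext v
        simp }
  have hτ : ∀ g (v : L), ((τ g v : L) : V) = σ g v := fun g v => rfl
  -- transport
  have e : L ≃ₗ[R] (Fin n → R) := (b.reindex (finCongr hdn)).equivFun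
  let ρ : Representation R G (Fin n → R) :=
    { toFun := fun g => e.conj (τ g)
      map_one' := by rw [map_one]; exact LinearEquiv.conj_id e
      map_mul' := fun g h => by rw [map_mul]; exact LinearEquiv.conj_comp e _ _ }
  refine ⟨ρ, fun g => ?_⟩
  have h1 : LinearMap.trace R _ (ρ g) = LinearMap.trace R _ (τ g) := LinearMap.trace_conj' (τ g) e
  rw [h1, LinearMap.trace_eq_matrix_trace R b, LinearMap.trace_eq_matrix_trace K bK, Matrix.trace,
    Matrix.trace, map_sum]
  refine Finset.sum_congr rfl (fun i _ => ?_)
  rw [Matrix.diag_apply, Matrix.diag_apply, LinearMap.toMatrix_apply, LinearMap.toMatrix_apply,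
    ← hrepr, hτ, hbK]

end H67.Lat
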