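import Mathlib

set_option autoImplicit false

/-! Matrix units in the group algebra, from matrix representations with the Schur relations. -/

namespace H67.Lat

open Finset

/-- a matrix representation with the Schur relations -/
structure MatSys (Q : Type*) [Group Q] [Fintype Q] (R : Type*) [CommRing R] where
  d : ℕ
  M : Q →* Matrix (Fin d) (Fin d) R
  schur : ∀ a b a' b', (d : R) * ∑ g : Q, M g⁻¹ a b * M g a' b' =
    if a' = b ∧ a = b' then (Fintype.card Q : R) else 0

namespace MatSys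

variable {Q : Type*} [Group Q] [Fintype Q] {R : Type*} [CommRing R] (S : MatSys Q R)
variable {V : Type*} [AddCommGroup V] [Module R V] (τ : Q →* Module.End R V)

/-- the matrix unit -/
noncomputable def E (κ : R) (j l : Fin S.d) : Module.End R V := κ • ∑ g : Q, (S.M g⁻¹ l j) • τ g

theorem E_apply (κ : R) (j l : Fin S.d) (v : V) :
    S.E τ κ j l v = κ • ∑ g : Q, (S.M g⁻¹ l j) • τ g v := by
  rw [E, LinearMap.smul_apply, LinearMap.sum_apply]; rfl

theorem tau_E (κ : R) (j l : Fin S.d) (h : Q) (v : V) :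
    τ h (S.E τ κ j l v) = ∑ a, S.M h a j • S.E τ κ a l v := by
  rw [E_apply, map_smul, map_sum]
  have h1 : ∀ g, τ h ((S.M g⁻¹ l j) • τ g v) = (S.M g⁻¹ l j) • τ (h * g) v := by
    intro g; rw [map_smul, map_mul, Module.End.mul_apply]
  rw [Finset.sum_congr rfl (fun g _ => h1 g)]
  have h2 : ∑ g : Q, (S.M g⁻¹ l j) • τ (h * g) v = ∑ g : Q, (S.M (g⁻¹ * h) l j) • τ g v := by
    refine Fintype.sum_equiv (Equiv.mulLeft h) _ _ (fun g => ?_)
    rw [Equiv.coe_mulLeft, mul_inv_rev, mul_assoc, inv_mul_cancel, mul_one]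
  rw [h2]
  have h3 : ∀ g : Q, (S.M (g⁻¹ * h) l j) • τ g v = ∑ a, S.M h a j • (S.M g⁻¹ l a • τ g v) := by
    intro g
    rw [map_mul, Matrix.mul_apply, Finset.sum_smul]
    refine Finset.sum_congr rfl (fun a _ => ?_)
    rw [smul_smul, mul_comm]
  rw [Finset.sum_congr rfl (fun g _ => h3 g), Finset.sum_comm, Finset.smul_sum]
  refine Finset.sum_congr rfl (fun a _ => ?_)
  rw [E_apply, ← Finset.smul_sum, smul_comm]

theorem E_E {κ : R} (hκ : κ * (Fintype.card Q : R) = S.d) (hd : IsUnit (S.d : R))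
    (hQ : IsUnit (Fintype.card Q : R)) (j' l' j l : Fin S.d) (v : V) :
    S.E τ κ j' l' (S.E τ κ j l v) = if l' = j then S.E τ κ j' l v else 0 := by
  rw [E_apply (τ := τ) (κ := κ) (j := j') (l := l')]
  have h1 : ∀ h : Q, (S.M h⁻¹ l' j') • τ h (S.E τ κ j l v) =
      ∑ a, (S.M h⁻¹ l' j' * S.M h a j) • S.E τ κ a l v := by
    intro h
    rw [tau_E, Finset.smul_sum]
    exact Finset.sum_congr rfl (fun a _ => by rw [smul_smul])
  rw [Finset.sum_congr rfl (fun h _ => h1 h), Finset.sum_comm, Finset.smul_sum]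
  have h2 : ∀ a, κ • ∑ h : Q, (S.M h⁻¹ l' j' * S.M h a j) • S.E τ κ a l v =
      (if a = j' ∧ l' = j then (1 : R) else 0) • S.E τ κ a l v := by
    intro a
    rw [← Finset.sum_smul, smul_smul]
    congr 1
    have h3 := S.schur l' j' a j
    obtain ⟨u, hu⟩ := hd
    obtain ⟨w, hw⟩ := hQ
    rw [← hu] at h3
    have h4 : ∑ g : Q, S.M g⁻¹ l' j' * S.M g a j =
        (↑u⁻¹ : R) * (if a = j' ∧ l' = j then (Fintype.card Q : R) else 0) := by
      rw [← h3, ← mul_assoc, Units.inv_mul, one_mul]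
    have h5 : κ = (u : R) * (↑w⁻¹ : R) := by
      rw [hu, ← hκ, ← hw, mul_assoc, Units.mul_inv, mul_one]
    rw [h4, h5]
    split_ifs with hc
    · rw [← hw]
      calc (u : R) * (↑w⁻¹ : R) * ((↑u⁻¹ : R) * (w : R)) = ((u : R) * ↑u⁻¹) * (↑w⁻¹ * (w : R)) := by ring
        _ = 1 := by rw [Units.mul_inv, Units.inv_mul, one_mul]
    · rw [mul_zero, mul_zero]
  rw [Finset.sum_congr rfl (fun a _ => h2 a)]
  by_cases hlj : l' = j
  · rw [if_pos hlj, Finset.sum_eq_single j']
    · rw [if_pos ⟨rfl, hlj⟩, one_smul]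
    · intro b _ hb
      rw [if_neg (fun h => hb h.1), zero_smul]
    · intro h; exact absurd (mem_univ _) h
  · rw [if_neg hlj]
    apply Finset.sum_eq_zero
    intro a _
    rw [if_neg (fun h => hlj h.2), zero_smul]

/-- averaging a diagonal coefficient against a class function -/
theorem avg_class [IsDomain R] (hQ0 : (Fintype.card Q : R) ≠ 0) (φ : Q → R)
    (hφ : ∀ g h, φ (h * g * h⁻¹) = φ g) (j : Fin S.d) :
    (S.d : R) * ∑ w : Q, S.M w⁻¹ j j * φ w = ∑ w : Q, (S.M w⁻¹).trace * φ w := by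
  apply mul_left_cancel₀ hQ0
  have h1 : ∀ h : Q, ∑ w : Q, S.M w⁻¹ j j * φ w = ∑ w : Q, S.M (h⁻¹ * w⁻¹ * h) j j * φ w := by
    intro h
    refine Fintype.sum_equiv (MulAut.conj h).toEquiv _ _ (fun w => ?_)
    simp only [MulEquiv.toEquiv_eq_coe, MulEquiv.coe_toEquiv, MulAut.conj_apply]
    rw [hφ, mul_inv_rev, mul_inv_rev, inv_inv]
    congr 3
    group
  have h2 : (Fintype.card Q : R) * ((S.d : R) * ∑ w : Q, S.M w⁻¹ j j * φ w) =
      (S.d : R) * ∑ h : Q, ∑ w : Q, S.M (h⁻¹ * w⁻¹ * h) j j * φ w := by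
    rw [← Finset.sum_congr rfl (fun h _ => h1 h), Finset.sum_const, Finset.card_univ, nsmul_eq_mul]
    ring
  rw [h2, Finset.sum_comm, Finset.mul_sum, Finset.mul_sum]
  refine Finset.sum_congr rfl (fun w _ => ?_)
  rw [← Finset.sum_mul, ← mul_assoc, ← mul_assoc]
  congr 1
  have h3 : ∀ h : Q, S.M (h⁻¹ * w⁻¹ * h) j j =
      ∑ b, ∑ a, S.M w⁻¹ a b * (S.M h⁻¹ j a * S.M h b j) := by
    intro h
    rw [map_mul, map_mul, Matrix.mul_apply]
    refine Finset.sum_congr rfl (fun b _ => ?_)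
    rw [Matrix.mul_apply, Finset.sum_mul]
    exact Finset.sum_congr rfl (fun a _ => by ring)
  rw [Finset.sum_congr rfl (fun h _ => h3 h), Finset.sum_comm, Finset.mul_sum, Matrix.trace,
    Finset.mul_sum]
  refine Finset.sum_congr rfl (fun b _ => ?_)
  rw [Finset.sum_comm, Finset.mul_sum, Finset.sum_eq_single b]
  · rw [← Finset.mul_sum, Matrix.diag_apply]
    have := S.schur j b b j
    rw [if_pos ⟨rfl, rfl⟩] at this
    rw [← this]; ring
  · intro a _ hab
    have := S.schur j a b j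
    rw [if_neg (fun h => hab h.1.symm)] at this
    rw [← Finset.mul_sum, mul_left_comm, this, mul_zero]
  · intro h; exact absurd (mem_univ _) h

end MatSys

/-- an idempotent matrix over a principal ideal domain of characteristic zero with trace `0` or `1`
has rank at most one -/
theorem exists_rank_one {R : Type*} [CommRing R] [IsDomain R] [IsPrincipalIdealRing R] [CharZero R]
    {d : ℕ} (J : Matrix (Fin d) (Fin d) R) (hJ : J * J = J) (htr : J.trace = 0 ∨ J.trace = 1) :
    ∃ s t : Fin d → R, ∀ b a, J b a = s b * t a := by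
  classical
  set f : (Fin d → R) →ₗ[R] (Fin d → R) := Matrix.toLin' J with hf
  have hff : ∀ v, f (f v) = f v := by
    intro v
    rw [hf, Matrix.toLin'_apply, Matrix.toLin'_apply, Matrix.mulVec_mulVec, hJ]
  have hproj : LinearMap.IsProj (LinearMap.range f) f := by
    refine ⟨fun v => ⟨v, rfl⟩, ?_⟩
    rintro _ ⟨v, rfl⟩
    exact hff v
  have htr' : LinearMap.trace R _ f = (Module.finrank R (LinearMap.range f) : R) := hproj.trace
  rw [hf, Matrix.trace_toLin'_eq] at htr'
  have hr : Module.finrank R (LinearMap.range f) = 0 ∨ Module.finrank R (LinearMap.range f) = 1 := by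
    rcases htr with h | h
    · left
      rw [h] at htr'
      exact_mod_cast htr'.symm
    · right
      rw [h] at htr'
      exact_mod_cast htr'.symm
  have hcol : ∀ b a, J b a = f (Pi.single a 1) b := by
    intro b a
    rw [hf, Matrix.toLin'_apply, Matrix.mulVec_single_one]
    rfl
  rcases hr with h | h
  · have h0 : LinearMap.range f = ⊥ := Submodule.finrank_eq_zero.1 h
    have hf0 : f = 0 := LinearMap.range_eq_bot.1 h0
    refine ⟨0, 0, fun b a => ?_⟩
    rw [hcol, hf0]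
    simp
  · let b0 := Module.finBasisOfFinrankEq R (LinearMap.range f) h
    refine ⟨fun b => (b0 0 : Fin d → R) b, fun a => b0.repr ⟨f (Pi.single a 1), ⟨_, rfl⟩⟩ 0, fun b a => ?_⟩
    rw [hcol]
    have h1 := b0.sum_repr ⟨f (Pi.single a 1), ⟨_, rfl⟩⟩
    rw [Fin.sum_univ_one] at h1
    have h2 := congrFun (congrArg Subtype.val h1) b
    refine Eq.trans h2.symm ?_
    change (b0.repr ⟨f (Pi.single a 1), ⟨_, rfl⟩⟩ 0 • (b0 0 : Fin d → R)) b = _
    rw [Pi.smul_apply, smul_eq_mul, mul_comm]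

end H67.Lat
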