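import Mathlib
import Cfsg.Prelude.Def_Characters
import Cfsg.Agent.Lib.H4.SplitField
import Cfsg.Agent.Lib.H4.CharEquiv
import Cfsg.Agent.Lib.H4.CharOrth
import Cfsg.Agent.Lib.H67.LatUnits
import Cfsg.Agent.Lib.H67.LatInt

set_option autoImplicit false

/-! Matrix systems over the coefficient ring, from irreducible complex characters. -/

namespace H67.Lat

open Finset Cfsg

theorem schur_matrix {Q : Type*} [Group Q] [Fintype Q] {d : ℕ}
    (Mc : Q →* Matrix (Fin d) (Fin d) ℂ) (hirr : IsIrrCharacter Q (fun g => (Mc g).trace))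
    (a b a' b' : Fin d) : (d : ℂ) * ∑ g : Q, Mc g⁻¹ a b * Mc g a' b' =
      if a' = b ∧ a = b' then (Fintype.card Q : ℂ) else 0 := by
  classical
  let ρ : Representation ℂ Q (Fin d → ℂ) :=
    { toFun := fun g => Matrix.toLin' (Mc g)
      map_one' := by rw [map_one, Matrix.toLin'_one]; rfl
      map_mul' := fun g h => by rw [map_mul, Matrix.toLin'_mul]; rfl }
  have hρ : ∀ g, ρ g = Matrix.toLin' (Mc g) := fun g => rfl
  have hchar : ρ.character = fun g => (Mc g).trace := by
    ext g
    rw [Representation.character, hρ, Matrix.trace_toLin'_eq]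
  have hρirr : ρ.IsIrreducible := by
    obtain ⟨m, τ, hτ, hτc⟩ := hirr
    obtain ⟨e⟩ := H4.CharEquiv.equiv_of_character_eq τ ρ (by rw [hτc, hchar])
    exact H4.SplitField.isIrreducible_of_equiv e hτ
  set X : Matrix (Fin d) (Fin d) ℂ := Matrix.single b' a 1 with hX
  set T : Matrix (Fin d) (Fin d) ℂ := ∑ g : Q, Mc g * X * Mc g⁻¹ with hT
  have hcomm : ∀ h, Mc h * T = T * Mc h := by
    intro h
    rw [hT, Finset.mul_sum, Finset.sum_mul]
    refine Fintype.sum_equiv (Equiv.mulLeft h) _ _ (fun g => ?_)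
    rw [Equiv.coe_mulLeft, map_mul, mul_inv_rev, map_mul]
    have : Mc h⁻¹ * Mc h = 1 := by rw [← map_mul, inv_mul_cancel, map_one]
    simp only [mul_assoc, this, mul_one]
  let f : Representation.IntertwiningMap ρ ρ := ⟨Matrix.toLin' T, fun h => by
    rw [hρ, ← Matrix.toLin'_mul, ← Matrix.toLin'_mul, hcomm]⟩
  obtain ⟨c, hc⟩ := (Representation.IsIrreducible.algebraMap_intertwiningMap_bijective_of_isAlgClosed
    (ρ := ρ)).2 f
  have hTc : T = c • (1 : Matrix (Fin d) (Fin d) ℂ) := by
    apply Matrix.toLin'.injective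
    have h1 := congrArg Representation.IntertwiningMap.toLinearMap hc
    rw [show Matrix.toLin' T = f.toLinearMap from rfl, ← h1, map_smul, Matrix.toLin'_one]
    ext v
    rfl
  have htr : (Fintype.card Q : ℂ) * X.trace = c * d := by
    have h1 : T.trace = (Fintype.card Q : ℂ) * X.trace := by
      rw [hT, Matrix.trace_sum]
      have h2 : ∀ g : Q, (Mc g * X * Mc g⁻¹).trace = X.trace := by
        intro g
        rw [Matrix.trace_mul_comm, ← mul_assoc, ← map_mul, inv_mul_cancel, map_one, one_mul]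
      rw [Finset.sum_congr rfl (fun g _ => h2 g), Finset.sum_const, Finset.card_univ, nsmul_eq_mul]
    rw [← h1, hTc, Matrix.trace_smul, Matrix.trace_one, smul_eq_mul, Fintype.card_fin]
  have hcoef : ∑ g : Q, Mc g⁻¹ a b * Mc g a' b' = T a' b := by
    rw [hT, Matrix.sum_apply]
    refine Finset.sum_congr rfl (fun g _ => ?_)
    rw [Matrix.mul_apply, Finset.sum_eq_single a]
    · rw [Matrix.mul_apply, Finset.sum_eq_single b']
      · rw [hX, Matrix.single_apply_same, mul_one, mul_comm]
      · intro x _ hx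
        rw [hX, Matrix.single_apply_of_row_ne (Ne.symm hx), mul_zero]
      · intro h; exact absurd (mem_univ _) h
    · intro x _ hx
      have : (Mc g * X) a' x = 0 := by
        rw [Matrix.mul_apply]
        apply Finset.sum_eq_zero
        intro y _
        rw [hX, Matrix.single_apply_of_col_ne _ _ (Ne.symm hx), mul_zero]
      rw [this, zero_mul]
    · intro h; exact absurd (mem_univ _) h
  rw [hcoef, hTc, Matrix.smul_apply, smul_eq_mul, Matrix.one_apply]
  by_cases h1 : a' = b
  · rw [if_pos h1, mul_one, mul_comm, ← htr]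
    by_cases h2 : a = b'
    · rw [if_pos ⟨h1, h2⟩, hX, h2, Matrix.trace_single_eq_same, mul_one]
    · rw [if_neg (fun h => h2 h.2), hX, Matrix.trace_single_eq_of_ne _ _ _ (Ne.symm h2), mul_zero]
  · rw [if_neg h1, mul_zero, mul_zero, if_neg (fun h => h1 h.1)]

theorem exists_matSys {R : Type*} [CommRing R] [IsDomain R] [IsPrincipalIdealRing R] (ι : R →+* ℂ)
    (hι : Function.Injective ι) {Q : Type*} [Group Q] [Fintype Q]
    (hroot : ∀ z : ℂ, z ^ Monoid.exponent Q = 1 → ∃ r : R, ι r = z) {χ : Q → ℂ}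
    (hχ : IsIrrCharacter Q χ) : ∃ S : MatSys Q R, ∀ g, ι (S.M g).trace = χ g := by
  classical
  let K := FractionRing R
  let j : K →+* ℂ := IsFractionRing.lift hι
  have hj : ∀ r : R, j (algebraMap R K r) = ι r := fun r => IsFractionRing.lift_algebraMap hι r
  let _ : Algebra K ℂ := j.toAlgebra
  have hjj : ∀ k : K, algebraMap K ℂ k = j k := fun k => rfl
  have hχ' : IsCharacter Q χ := by
    obtain ⟨m, τ, _, h⟩ := hχ
    exact ⟨m, τ, h⟩
  obtain ⟨n, σ, hσ⟩ := H4.SplitField.kchar_of_isCharacter (K := K) (fun z hz => by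
    obtain ⟨r, hr⟩ := hroot z hz
    exact ⟨algebraMap R K r, by rw [hjj, hj, hr]⟩) hχ'
  obtain ⟨ρ, hρ⟩ := exists_lattice (R := R) σ
  let M : Q →* Matrix (Fin n) (Fin n) R :=
    { toFun := fun g => LinearMap.toMatrix' (ρ g)
      map_one' := by rw [map_one]; exact LinearMap.toMatrix'_one
      map_mul' := fun g h => by rw [map_mul]; exact LinearMap.toMatrix'_mul _ _ }
  have hMtr : ∀ g, (M g).trace = LinearMap.trace R _ (ρ g) := by
    intro g
    rw [LinearMap.trace_eq_matrix_trace R (Pi.basisFun R (Fin n)), LinearMap.toMatrix_eq_toMatrix']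
    rfl
  have htr : ∀ g, ι (M g).trace = χ g := by
    intro g
    rw [hMtr, ← hj, hρ, ← hσ]
    rfl
  let Mc : Q →* Matrix (Fin n) (Fin n) ℂ := (ι.mapMatrix : Matrix (Fin n) (Fin n) R →+* _).toMonoidHom.comp M
  have hMc : ∀ g a b, Mc g a b = ι (M g a b) := fun g a b => rfl
  have hMctr : (fun g => (Mc g).trace) = χ := by
    ext g
    rw [← htr, Matrix.trace, Matrix.trace, map_sum]
    rfl
  refine ⟨⟨n, M, fun a b a' b' => ?_⟩, htr⟩
  apply hι
  have h1 := schur_matrix Mc (by rw [hMctr]; exact hχ) a b a' b'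
  rw [map_mul, map_natCast, map_sum]
  have h2 : ∀ g : Q, ι (M g⁻¹ a b * M g a' b') = Mc g⁻¹ a b * Mc g a' b' := by
    intro g; rw [map_mul]; rfl
  rw [Finset.sum_congr rfl (fun g _ => h2 g), h1]
  split_ifs
  · rw [map_natCast]
  · rw [map_zero]

theorem MatSys.degree {R : Type*} [CommRing R] [IsDomain R] (ι : R →+* ℂ) {Q : Type*} [Group Q]
    [Fintype Q] {χ : Q → ℂ} (S : MatSys Q R) (hS : ∀ g, ι (S.M g).trace = χ g) : χ 1 = S.d := by
  rw [← hS, map_one, Matrix.trace_one, Fintype.card_fin, map_natCast]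

end H67.Lat
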