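import Mathlib
import Cfsg.Agent.Lib.H67.LatAlpha

set_option autoImplicit false

/-! The structure of indecomposable lattices restricted to a Sylow subgroup of order `p`. -/

namespace H67.Lat

open Finset

/-- a complete discrete valuation ring with uniformizer the prime number `p` and finite residue field -/
structure Good (p : ℕ) (R : Type*) [CommRing R] : Prop where
  prime : p.Prime
  ne_zero : (p : R) ≠ 0
  loc : ∀ r : R, IsUnit r ∨ (p : R) ∣ r
  fin : Finite (R ⧸ Ideal.span {(p : R)})
  complete : IsAdicComplete (Ideal.span {(p : R)}) R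

section good

variable {p : ℕ} {R : Type*} [CommRing R]

theorem Good.not_unit [Nontrivial R] (h : Good p R) : ¬ IsUnit (p : R) := by
  intro hu
  have h1 : Ideal.span {(p : R)} = ⊤ := Ideal.span_singleton_eq_top.2 hu
  have h2 := h.complete
  rw [h1] at h2
  have h3 : Subsingleton R := IsAdicComplete.subsingleton R h2
  exact not_subsingleton R h3

theorem Good.natCast_unit [Nontrivial R] (h : Good p R) {n : ℕ} (hn : ¬ p ∣ n) : IsUnit (n : R) := by
  rcases h.loc n with h1 | h1
  · exact h1
  · exfalso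
    have hcop : Nat.Coprime p n := (h.prime.coprime_iff_not_dvd).2 hn
    apply h.not_unit
    rw [← isCoprime_self]
    have h2 : IsCoprime (p : R) (n : R) := Nat.Coprime.cast hcop
    exact h2.of_isCoprime_of_dvd_right h1

end good

section loc

variable {p : ℕ} {R : Type*} [CommRing R] [IsDomain R] {n : ℕ} {G : Type*} [Group G]

/-- the lattice is indecomposable -/
def Indec (ρ : Representation R G (Fin n → R)) : Prop :=
  ∀ E : Module.End R (Fin n → R), E * E = E → (∀ g, Commute E (ρ g)) → E = 0 ∨ E = 1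

theorem locality (hR : Good p R) (ρ : Representation R G (Fin n → R)) (hind : Indec ρ) {σ : G}
    {b : Module.End R (Fin n → R)} (hb : ∀ g, Commute b (ρ g))
    (hk : Kills p (ρ σ) (b * b - b)) : Kills p (ρ σ) b ∨ Kills p (ρ σ) (b - 1) := by
  classical
  have hfin := hR.fin
  have hcomp := hR.complete
  set I : Ideal R := Ideal.span {(p : R)} with hI
  let e : Module.End R (Fin n → R) ≃ₐ[R] Matrix (Fin n) (Fin n) R := LinearMap.toMatrixAlgEquiv'
  let q : Matrix (Fin n) (Fin n) R →+* Matrix (Fin n) (Fin n) (R ⧸ I) :=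
    (Ideal.Quotient.mk I).mapMatrix
  have hfin2 : Finite (Matrix (Fin n) (Fin n) (R ⧸ I)) := by unfold Matrix; infer_instance
  obtain ⟨N, hN, hidem⟩ := exists_pow_idem (q (e b))
  obtain ⟨E, hE1, ⟨Y, hE2⟩, hE3⟩ := exists_idem_lift (π := (p : R)) ((e b) ^ N) (by
    have h1 : ∀ i j, (p : R) ∣ ((e b) ^ N * (e b) ^ N - (e b) ^ N) i j := by
      intro i j
      have h2 : q ((e b) ^ N * (e b) ^ N - (e b) ^ N) = 0 := by
        rw [map_sub, map_mul, map_pow, hidem, sub_self]
      have h3 := congrFun (congrFun h2 i) j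
      have h4 : (Ideal.Quotient.mk I) (((e b) ^ N * (e b) ^ N - (e b) ^ N) i j) = 0 := h3
      rw [Ideal.Quotient.eq_zero_iff_mem, hI, Ideal.mem_span_singleton] at h4
      exact h4
    choose X hX using h1
    refine ⟨Matrix.of X, ?_⟩
    ext i j
    rw [Matrix.smul_apply, Matrix.of_apply, smul_eq_mul]
    exact hX i j)
  -- back to endomorphisms
  set E' := e.symm E with hE'
  set Y' := e.symm Y with hY'
  have hE'1 : E' * E' = E' := by rw [hE', ← map_mul, hE1]
  have hE'2 : E' - b ^ N = (p : R) • Y' := by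
    rw [hE', hY', ← map_smul, ← hE2, map_sub, map_pow, AlgEquiv.symm_apply_apply]
  have hE'3 : ∀ c, Commute b c → Commute E' c := by
    intro c hc
    have h1 : Commute ((e b) ^ N) (e c) := (hc.map e).pow_left N
    have h2 := hE3 _ h1
    have h3 := h2.map e.symm
    rwa [AlgEquiv.symm_apply_apply] at h3
  have hbs : Commute b (ρ σ) := hb σ
  -- `Y'` commutes with `s`
  have hYs : Commute Y' (ρ σ) := by
    have h1 : Commute ((p : R) • Y') (ρ σ) := by
      rw [← hE'2]
      exact (hE'3 _ hbs).sub_left (hbs.pow_left N)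
    have h2 : (p : R) • (Y' * ρ σ) = (p : R) • (ρ σ * Y') := by
      rw [← smul_mul_assoc, h1.eq, mul_smul_comm]
    have h3 : (p : R) • (Y' * ρ σ - ρ σ * Y') = 0 := by rw [smul_sub, h2, sub_self]
    rcases smul_eq_zero.1 h3 with h4 | h4
    · exact absurd h4 hR.ne_zero
    · exact sub_eq_zero.1 h4
  have hk1 : Kills p (ρ σ) (E' - b ^ N) := by
    rw [hE'2]
    have h1 : (p : R) • Y' = Y' * ((p : ℕ) : Module.End R (Fin n → R)) := by
      refine LinearMap.ext (fun x => ?_)
      rw [Module.End.mul_apply, Module.End.natCast_apply, LinearMap.smul_apply, map_nsmul,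
        Nat.cast_smul_eq_nsmul]
    rw [h1]
    exact kills_p.mul_left hYs
  have hk2 : ∀ k : ℕ, Kills p (ρ σ) (b ^ (k + 1) - b) := by
    intro k
    induction k with
    | zero => rw [zero_add, pow_one, sub_self]; exact Kills.zero
    | succ k ih =>
      have : b ^ (k + 1 + 1) - b = b * (b ^ (k + 1) - b) + (b * b - b) := by
        rw [pow_succ' b (k + 1), mul_sub]; abel
      rw [this]
      exact (ih.mul_left hbs).add hk
  have hk3 : Kills p (ρ σ) (E' - b) := by
    have := hk1.add (hk2 (N - 1))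
    rw [show N - 1 + 1 = N by omega] at this
    have h2 : E' - b ^ N + (b ^ N - b) = E' - b := by abel
    rwa [h2] at this
  rcases hind E' hE'1 (fun g => hE'3 _ (hb g)) with h | h
  · left
    have := hk3.neg
    rwa [h, zero_sub, neg_neg] at this
  · right
    have := hk3.neg
    rw [h, neg_sub] at this
    exact this

end loc

section structure_thm

variable {p : ℕ} {R : Type*} [CommRing R] [IsDomain R] {n : ℕ} {G : Type*} [Group G] [Finite G]

/-- the normalizer of `⟨σ⟩` commutes with the trace operator -/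
theorem TT_normalizer {V : Type*} [AddCommGroup V] [Module R V] (ρ : Representation R G V) {σ : G}
    (hσ : orderOf σ = p) {g : G} (hg : g ∈ Subgroup.normalizer (Subgroup.zpowers σ : Set G)) (v : V) :
    ρ g (TT p (ρ σ) v) = TT p (ρ σ) (ρ g v) := by
  classical
  have hpos : 0 < p := by rw [← hσ]; exact orderOf_pos σ
  -- write the conjugate of `σ` as a power
  have h1 : g * σ * g⁻¹ ∈ Subgroup.zpowers σ :=
    (Subgroup.mem_normalizer_iff.1 hg σ).1 (Subgroup.mem_zpowers σ)
  obtain ⟨k, hk⟩ := mem_powers_iff_mem_zpowers.2 h1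
  have hk : σ ^ k = g * σ * g⁻¹ := hk
  have hok : orderOf (σ ^ k) = p := by
    rw [hk, ← hσ]
    exact (MulAut.conj g).orderOf_eq σ
  have hcop : Nat.Coprime p k := by
    rw [orderOf_pow, hσ] at hok
    have hg0 : 0 < p.gcd k := Nat.gcd_pos_of_pos_left k hpos
    have h2 : p.gcd k ∣ p := Nat.gcd_dvd_left p k
    obtain ⟨c, hc⟩ := h2
    have h3 : p / p.gcd k = c := Nat.div_eq_of_eq_mul_right hg0 hc
    rw [h3] at hok
    rw [hok] at hc
    have : p.gcd k = 1 := by
      have : p.gcd k * p = 1 * p := by rw [← hc, one_mul]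
      exact Nat.eq_of_mul_eq_mul_right hpos this
    exact this
  rw [TT_apply, TT_apply, map_sum]
  have h2 : ∀ i ∈ range p, ρ g (((ρ σ) ^ i) v) = ((ρ σ) ^ (k * i % p)) (ρ g v) := by
    intro i _
    rw [← map_pow, ← map_pow, ← Module.End.mul_apply, ← Module.End.mul_apply, ← map_mul, ← map_mul]
    congr 2
    rw [← hσ, pow_mod_orderOf, pow_mul, hk, conj_pow]
    group
  rw [sum_congr rfl h2]
  refine Finset.sum_bij (fun i _ => k * i % p) ?_ ?_ ?_ (fun i _ => rfl)
  · intro i _; exact mem_range.2 (Nat.mod_lt _ hpos)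
  · intro i hi j hj h
    have h3 : k * i ≡ k * j [MOD p] := h
    have h4 := Nat.ModEq.cancel_left_of_coprime hcop h3
    have h5 : i % p = j % p := h4
    rwa [Nat.mod_eq_of_lt (mem_range.1 hi), Nat.mod_eq_of_lt (mem_range.1 hj)] at h5
  · intro j hj
    have hbij : Function.Surjective (fun i : Fin p => (⟨k * i % p, Nat.mod_lt _ hpos⟩ : Fin p)) := by
      apply Finite.surjective_of_injective
      intro i j h
      have h3 : k * i ≡ k * j [MOD p] := congrArg Fin.val h
      have h4 := Nat.ModEq.cancel_left_of_coprime hcop h3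
      have h5 : (i : ℕ) % p = (j : ℕ) % p := h4
      rw [Nat.mod_eq_of_lt i.2, Nat.mod_eq_of_lt j.2] at h5
      exact Fin.ext h5
    obtain ⟨i, hi⟩ := hbij ⟨j, mem_range.1 hj⟩
    exact ⟨i, mem_range.2 i.2, congrArg Fin.val hi⟩

/-- the core argument, abstractly -/
theorem core (hR : Good p R) (ρ : Representation R G (Fin n → R)) (hind : Indec ρ) {σ : G}
    (hσ : orderOf σ = p) (hp2 : ¬ p ^ 2 ∣ Nat.card G)
    (X Y X' Y' : Submodule R (Fin n → R))
    (hkill : ∀ a, Kills p (ρ σ) a ↔ (∀ u ∈ X, a u ∈ Y) ∧ ∀ u ∈ X', a u ∈ Y')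
    (hY : ∀ b, Commute b (ρ σ) → ∀ u ∈ Y, b u ∈ Y) (hY' : ∀ b, Commute b (ρ σ) → ∀ u ∈ Y', b u ∈ Y')
    (hNX : ∀ g ∈ Subgroup.normalizer (Subgroup.zpowers σ : Set G), ∀ u ∈ X, ρ g u ∈ X)
    (hNY : ∀ g ∈ Subgroup.normalizer (Subgroup.zpowers σ : Set G), ∀ u ∈ Y, ρ g u ∈ Y)
    (hNX' : ∀ g ∈ Subgroup.normalizer (Subgroup.zpowers σ : Set G), ∀ u ∈ X', ρ g u ∈ X')
    {v : Fin n → R} (hv : v ∈ X) (hvY : v ∉ Y)
    (heig : ∀ g ∈ Subgroup.normalizer (Subgroup.zpowers σ : Set G), ∃ μ : R, ρ g v - μ • v ∈ Y)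
    (a : Module.End R (Fin n → R)) (ha : Commute a (ρ σ)) (f : (Fin n → R) →ₗ[R] R)
    (haX : ∀ u ∈ X, a u - f u • v ∈ Y) (haX' : ∀ u ∈ X', a u = 0) (hfv : f v = 1)
    (hfY : ∀ u ∈ Y, (p : R) ∣ f u) :
    (∀ u ∈ X, ∃ r : R, u - r • v ∈ Y) ∧ ∀ u ∈ X', u ∈ Y' := by
  classical
  have hp := hR.prime
  have hσp : σ ^ p = 1 := by rw [← hσ, pow_orderOf_eq_one]
  have := Fact.mk hp
  let _ : Fintype (G ⧸ Subgroup.zpowers σ) := Fintype.ofFinite _
  set lam := relTr ρ σ a with hlam
  set F := (univ : Finset (G ⧸ Subgroup.zpowers σ)).filter (fun q => σ • q = q) with hF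
  have hFN : ∀ q ∈ F, q.out ∈ Subgroup.normalizer (Subgroup.zpowers σ : Set G) := by
    intro q hq
    rw [← smul_eq_iff_normalizer hp hσ, QuotientGroup.out_eq']
    exact (mem_filter.1 hq).2
  have hkl : Kills p (ρ σ) (lam - ∑ q ∈ F, cjE ρ a q.out) := relTr_kills ρ hp hσp ha
  have hlc : ∀ g, Commute lam (ρ g) := relTr_commute ρ ha
  choose! μ hμ using heig
  -- `v ∉ Y` gives congruences
  have hmod : ∀ r : R, r • v ∈ Y → (p : R) ∣ r := by
    intro r hr
    rcases hR.loc r with h | h
    · exfalso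
      apply hvY
      obtain ⟨u, hu⟩ := h
      have h1 := Y.smul_mem (↑u⁻¹ : R) hr
      rwa [smul_smul, ← hu, Units.inv_mul, one_smul] at h1
    · exact h
  have hμμ : ∀ g ∈ Subgroup.normalizer (Subgroup.zpowers σ : Set G), (p : R) ∣ 1 - μ g * μ g⁻¹ := by
    intro g hg
    apply hmod
    have h1 := hμ g hg
    have h2 := hNY g hg _ (hμ g⁻¹ (inv_mem hg))
    rw [map_sub, map_smul, ← Module.End.mul_apply, rho_mul_inv, Module.End.one_apply] at h2
    have h3 := Y.smul_mem (μ g⁻¹) h1
    have h4 := Y.add_mem h2 h3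
    convert h4 using 1
    rw [sub_smul, one_smul, smul_sub, smul_smul, mul_comm (μ g⁻¹)]
    abel
  -- the functional
  let Fn : (Fin n → R) → R := fun u => ∑ q ∈ F, f (ρ (q.out)⁻¹ u) * μ q.out
  have hsum : ∀ u ∈ X, (∑ q ∈ F, cjE ρ a q.out) u - Fn u • v ∈ Y := by
    intro u hu
    rw [LinearMap.sum_apply, Finset.sum_smul, ← Finset.sum_sub_distrib]
    apply Y.sum_mem
    intro q hq
    have hg := hFN q hq
    have h1 := haX _ (hNX _ (inv_mem hg) u hu)
    have h2 := hNY _ hg _ h1
    rw [map_sub, map_smul] at h2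
    have h3 := Y.smul_mem (f (ρ (q.out)⁻¹ u)) (hμ _ hg)
    have h4 := Y.add_mem h2 h3
    convert h4 using 1
    rw [cjE, Module.End.mul_apply, Module.End.mul_apply, smul_sub, smul_smul]
    abel
  have hlX : ∀ u ∈ X, lam u - Fn u • v ∈ Y := by
    intro u hu
    have h1 := ((hkill _).1 hkl).1 u hu
    rw [LinearMap.sub_apply] at h1
    have h2 := Y.add_mem h1 (hsum u hu)
    convert h2 using 1
    abel
  have hlX' : ∀ u ∈ X', lam u ∈ Y' := by
    intro u hu
    have h1 := ((hkill _).1 hkl).2 u hu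
    rw [LinearMap.sub_apply] at h1
    have h2 : (∑ q ∈ F, cjE ρ a q.out) u = 0 := by
      rw [LinearMap.sum_apply]
      apply Finset.sum_eq_zero
      intro q hq
      rw [cjE, Module.End.mul_apply, Module.End.mul_apply, haX' _ (hNX' _ (inv_mem (hFN q hq)) u hu),
        map_zero]
    rwa [h2, sub_zero] at h1
  -- the eigenvalue on `v` is a unit
  set ν := Fn v with hν
  have hνunit : IsUnit ν := by
    have h1 : (p : R) ∣ ν - (F.card : R) := by
      have h2 : ν - (F.card : R) = ∑ q ∈ F, (f (ρ (q.out)⁻¹ v) * μ q.out - 1) := by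
        rw [Finset.sum_sub_distrib, Finset.sum_const, nsmul_eq_mul, mul_one]
      rw [h2]
      apply Finset.dvd_sum
      intro q hq
      have hg := hFN q hq
      have h3 := hfY _ (hμ _ (inv_mem hg))
      rw [map_sub, map_smul, hfv, smul_eq_mul, mul_one] at h3
      have h4 := hμμ _ hg
      have h5 : f (ρ (q.out)⁻¹ v) * μ q.out - 1 =
          (f (ρ (q.out)⁻¹ v) - μ (q.out)⁻¹) * μ q.out - (1 - μ q.out * μ (q.out)⁻¹) := by ring
      rw [h5]
      exact dvd_sub (dvd_mul_of_dvd_left h3 _) h4
    have h2 : ¬ p ∣ F.card := by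
      -- `F.card = |N : P|`
      intro hd
      apply hp2
      have h3 : F.card = (Subgroup.zpowers σ).relIndex
          (Subgroup.normalizer (Subgroup.zpowers σ : Set G)) := by
        have e1 : F.card = Nat.card {q : G ⧸ Subgroup.zpowers σ // σ • q = q} := by
          rw [Nat.card_eq_fintype_card, Fintype.card_subtype]
        have e2 : {q : G ⧸ Subgroup.zpowers σ | σ • q = q} =
            MulAction.fixedPoints (Subgroup.zpowers σ) (G ⧸ Subgroup.zpowers σ) := by
          ext q
          constructor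
          · intro hq x
            obtain ⟨x, hx⟩ := x
            rw [← mem_powers_iff_mem_zpowers] at hx
            obtain ⟨k, rfl⟩ := hx
            have : ∀ k : ℕ, σ ^ k • q = q := by
              intro k
              induction k with
              | zero => simp
              | succ k ih => rw [pow_succ, ← smul_smul, hq, ih]
            exact this k
          · intro hq
            exact hq ⟨σ, Subgroup.mem_zpowers σ⟩
        rw [e1]
        have e3 := Nat.card_congr (Sylow.fixedPointsMulLeftCosetsEquivQuotient (Subgroup.zpowers σ))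
        have e4 : Nat.card {q : G ⧸ Subgroup.zpowers σ // σ • q = q} =
            Nat.card (MulAction.fixedPoints (Subgroup.zpowers σ) (G ⧸ Subgroup.zpowers σ)) := by
          rw [← e2]; rfl
        rw [e4, e3, Subgroup.relIndex, Subgroup.index]
        rfl
      rw [h3] at hd
      have h4 : Nat.card (Subgroup.zpowers σ) = p := by rw [Nat.card_zpowers, hσ]
      have h5 : Nat.card (Subgroup.zpowers σ) * (Subgroup.zpowers σ).relIndex
          (Subgroup.normalizer (Subgroup.zpowers σ : Set G)) =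
          Nat.card (Subgroup.normalizer (Subgroup.zpowers σ : Set G)) := by
        have h := Subgroup.relIndex_mul_relIndex ⊥ _ _ bot_le
          (Subgroup.le_normalizer (H := Subgroup.zpowers σ))
        rwa [Subgroup.relIndex_bot_left, Subgroup.relIndex_bot_left] at h
      have h6 : p ^ 2 ∣ Nat.card (Subgroup.normalizer (Subgroup.zpowers σ : Set G)) := by
        rw [← h5, h4, pow_two]
        exact Nat.mul_dvd_mul_left p hd
      exact h6.trans (Subgroup.card_subgroup_dvd_card _)
    rcases hR.loc ν with h3 | h3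
    · exact h3
    · exfalso
      have h4 : (p : R) ∣ (F.card : R) := by
        have := dvd_sub h3 h1
        rwa [sub_sub_cancel] at this
      have h5 := hR.natCast_unit h2
      exact hR.not_unit (isUnit_of_dvd_unit h4 h5)
  obtain ⟨uν, huν⟩ := hνunit
  set b : Module.End R (Fin n → R) := (↑uν⁻¹ : R) • lam with hb
  have hbc : ∀ g, Commute b (ρ g) := fun g => (hlc g).smul_left _
  have hbX : ∀ u ∈ X, b u - ((↑uν⁻¹ : R) * Fn u) • v ∈ Y := by
    intro u hu
    have := Y.smul_mem (↑uν⁻¹ : R) (hlX u hu)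
    rwa [smul_sub, smul_smul] at this
  have hbv : b v - v ∈ Y := by
    have := hbX v hv
    rwa [← hν, ← huν, Units.inv_mul, one_smul] at this
  have hbX' : ∀ u ∈ X', b u ∈ Y' := fun u hu => Y'.smul_mem _ (hlX' u hu)
  have hk : Kills p (ρ σ) (b * b - b) := by
    rw [hkill]
    constructor
    · intro u hu
      have h1 := hbX u hu
      have h2 := hY b (hbc σ) _ h1
      rw [map_sub, map_smul] at h2
      have h3 := Y.smul_mem ((↑uν⁻¹ : R) * Fn u) hbv
      rw [LinearMap.sub_apply, Module.End.mul_apply]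
      have h4 := Y.sub_mem (Y.add_mem h2 h3) h1
      convert h4 using 1
      rw [smul_sub]
      abel
    · intro u hu
      rw [LinearMap.sub_apply, Module.End.mul_apply]
      exact Y'.sub_mem (hY' b (hbc σ) _ (hbX' u hu)) (hbX' u hu)
  rcases locality hR ρ hind hbc hk with h | h
  · exfalso
    apply hvY
    have h1 := ((hkill _).1 h).1 v hv
    have h2 := Y.sub_mem h1 hbv
    rwa [sub_sub_cancel] at h2
  · have h1 := (hkill _).1 h
    constructor
    · intro u hu
      refine ⟨(↑uν⁻¹ : R) * Fn u, ?_⟩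
      have h2 := h1.1 u hu
      rw [LinearMap.sub_apply, Module.End.one_apply] at h2
      have h3 := Y.sub_mem (hbX u hu) h2
      convert h3 using 1
      abel
    · intro u hu
      have h2 := h1.2 u hu
      rw [LinearMap.sub_apply, Module.End.one_apply] at h2
      have h3 := Y'.sub_mem (hbX' u hu) h2
      rwa [sub_sub_cancel] at h3

end structure_thm

end H67.Lat
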