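import Mathlib
import Cfsg.Agent.Lib.H67.LatCore

set_option autoImplicit false

/-! Indecomposable lattices on which a central element acts as a scalar. -/

namespace H67.Lat

open Finset

variable {R : Type*} [CommRing R] {G : Type*} [Group G] [Fintype G]

/-- the action of `∑ E(g⁻¹) g` -/
noncomputable def ZE (Eh : G → R) {V : Type*} [AddCommGroup V] [Module R V] (ρ : Representation R G V) :
    Module.End R V := ∑ g : G, Eh g⁻¹ • ρ g

theorem ZE_apply (Eh : G → R) {V : Type*} [AddCommGroup V] [Module R V] (ρ : Representation R G V)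
    (v : V) : ZE Eh ρ v = ∑ g : G, Eh g⁻¹ • ρ g v := by
  rw [ZE, LinearMap.sum_apply]; rfl

theorem ZE_comm {Eh : G → R} (hcl : ∀ g h, Eh (h * g * h⁻¹) = Eh g) {V : Type*} [AddCommGroup V]
    [Module R V] (ρ : Representation R G V) (h : G) (v : V) : ρ h (ZE Eh ρ v) = ZE Eh ρ (ρ h v) := by
  rw [ZE_apply, ZE_apply, map_sum]
  refine Fintype.sum_equiv (MulAut.conj h).toEquiv _ _ (fun g => ?_)
  simp only [MulEquiv.toEquiv_eq_coe, MulEquiv.coe_toEquiv, MulAut.conj_apply]
  rw [map_smul, ← Module.End.mul_apply, ← Module.End.mul_apply, ← map_mul, ← map_mul]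
  have e1 : (h * g * h⁻¹)⁻¹ = h * g⁻¹ * h⁻¹ := by group
  rw [e1, hcl, inv_mul_cancel_right]

theorem ZE_ZE {Eh : G → R} {c : R} (hconv : ∀ k, ∑ x : G, Eh x * Eh (x⁻¹ * k) = c * Eh k)
    (hcl : ∀ g h, Eh (h * g * h⁻¹) = Eh g) {V : Type*} [AddCommGroup V]
    [Module R V] (ρ : Representation R G V) (v : V) : ZE Eh ρ (ZE Eh ρ v) = c • ZE Eh ρ v := by
  rw [ZE_apply (ρ := ρ) (v := ZE Eh ρ v)]
  have h1 : ∀ g : G, Eh g⁻¹ • ρ g (ZE Eh ρ v) = ∑ k : G, (Eh g⁻¹ * Eh (k⁻¹ * g)) • ρ k v := by
    intro g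
    rw [ZE_apply, map_sum, Finset.smul_sum]
    refine Fintype.sum_equiv (Equiv.mulLeft g) _ _ (fun h => ?_)
    rw [Equiv.coe_mulLeft, map_smul, smul_smul, map_mul, Module.End.mul_apply]
    congr 3
    group
  rw [Finset.sum_congr rfl (fun g _ => h1 g), Finset.sum_comm, ZE_apply, Finset.smul_sum]
  refine Finset.sum_congr rfl (fun k _ => ?_)
  rw [← Finset.sum_smul, smul_smul]
  congr 1
  rw [← hconv]
  refine Fintype.sum_equiv (Equiv.inv G) _ _ (fun g => ?_)
  rw [Equiv.inv_apply, inv_inv]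
  congr 1
  have := hcl (k⁻¹ * g) g
  rw [← this]
  congr 1
  group

/-- left regular representation on functions -/
def lreg (R : Type*) [CommRing R] (G : Type*) [Group G] : Representation R G (G → R) where
  toFun g :=
    { toFun := fun f x => f (g⁻¹ * x)
      map_add' := fun _ _ => rfl
      map_smul' := fun _ _ => rfl }
  map_one' := by ext f x; simp
  map_mul' g h := by
    refine LinearMap.ext (fun f => funext (fun x => ?_))
    change f ((g * h)⁻¹ * x) = f (h⁻¹ * (g⁻¹ * x))
    rw [mul_inv_rev, mul_assoc]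

theorem lreg_apply (g : G) (f : G → R) (x : G) : lreg R G g f x = f (g⁻¹ * x) := rfl

variable [IsDomain R] [IsPrincipalIdealRing R]

theorem exists_of_module {V : Type*} [AddCommGroup V] [Module R V] [Module.Finite R V]
    [Module.Free R V] (Eh : G → R) (c : R) (ρ : Representation R G V) (h : ∀ v, ZE Eh ρ v = c • v) :
    ∃ τ : Representation R G (Fin (Module.finrank R V) → R), ∀ v, ZE Eh τ v = c • v := by
  let e : V ≃ₗ[R] (Fin (Module.finrank R V) → R) := (Module.finBasis R V).equivFun
  let τ : Representation R G (Fin (Module.finrank R V) → R) :=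
    { toFun := fun g => e.conj (ρ g)
      map_one' := by rw [map_one]; exact LinearEquiv.conj_id e
      map_mul' := fun g h => by rw [map_mul]; exact LinearEquiv.conj_comp e _ _ }
  refine ⟨τ, fun v => ?_⟩
  have h1 : ∀ g, τ g v = e (ρ g (e.symm v)) := fun g => rfl
  have h2 := h (e.symm v)
  rw [ZE_apply] at h2 ⊢
  have h3 := congrArg e h2
  rw [map_sum, map_smul, e.apply_symm_apply] at h3
  rw [← h3]
  refine Finset.sum_congr rfl (fun g _ => ?_)
  rw [h1, map_smul]

/-- restriction of a representation to a stable submodule -/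
def subRep {V : Type*} [AddCommGroup V] [Module R V] (ρ : Representation R G V) (L : Submodule R V)
    (hL : ∀ g, ∀ v ∈ L, ρ g v ∈ L) : Representation R G L where
  toFun g := (ρ g).restrict (hL g)
  map_one' := by
    ext v
    rw [LinearMap.coe_restrict_apply, map_one]; rfl
  map_mul' g h := by
    ext v
    rw [LinearMap.coe_restrict_apply, map_mul]; rfl

theorem subRep_coe {V : Type*} [AddCommGroup V] [Module R V] (ρ : Representation R G V)
    (L : Submodule R V) (hL : ∀ g, ∀ v ∈ L, ρ g v ∈ L) (g : G) (v : L) :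
    ((subRep ρ L hL g v : L) : V) = ρ g v := rfl

/-- a minimal lattice on which the central element acts as a scalar -/
theorem exists_indec {Eh : G → R} {c : R} (hconv : ∀ k, ∑ x : G, Eh x * Eh (x⁻¹ * k) = c * Eh k)
    (hcl : ∀ g h, Eh (h * g * h⁻¹) = Eh g) (h1 : Eh 1 ≠ 0) :
    ∃ (n : ℕ) (ρ : Representation R G (Fin n → R)), 0 < n ∧ Indec ρ ∧ ∀ v, ZE Eh ρ v = c • v := by
  classical
  have hex : ∃ n : ℕ, 0 < n ∧ ∃ ρ : Representation R G (Fin n → R), ∀ v, ZE Eh ρ v = c • v := by
    let L : Submodule R (G → R) := LinearMap.range (ZE Eh (lreg R G))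
    have hL : ∀ g, ∀ v ∈ L, lreg R G g v ∈ L := by
      rintro g _ ⟨w, rfl⟩
      exact ⟨lreg R G g w, (ZE_comm hcl _ g w).symm⟩
    obtain ⟨τ, hτ⟩ := exists_of_module Eh c (subRep (lreg R G) L hL) (by
      rintro ⟨_, w, rfl⟩
      apply Subtype.ext
      have h2 := ZE_ZE hconv hcl (lreg R G) w
      rw [ZE_apply] at h2
      rw [ZE_apply, Submodule.coe_sum]
      exact h2)
    refine ⟨Module.finrank R L, ?_, τ, hτ⟩
    rw [Module.finrank_pos_iff, Submodule.nontrivial_iff_ne_bot]
    intro hbot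
    have h2 : ZE Eh (lreg R G) (Pi.single 1 1) ∈ L := ⟨_, rfl⟩
    rw [hbot, Submodule.mem_bot] at h2
    have h3 := congrFun h2 1
    rw [ZE_apply, Finset.sum_apply, Finset.sum_eq_single (1 : G)] at h3
    · rw [Pi.smul_apply, lreg_apply, inv_one, mul_one, Pi.single_eq_same, smul_eq_mul, mul_one] at h3
      exact h1 h3
    · intro g _ hg
      rw [Pi.smul_apply, lreg_apply, mul_one, Pi.single_eq_of_ne (by rwa [ne_eq, inv_eq_one]),
        smul_zero]
    · intro h; exact absurd (mem_univ _) h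
  obtain ⟨hn, ρ, hρ⟩ := Nat.find_spec hex
  refine ⟨Nat.find hex, ρ, hn, ?_, hρ⟩
  intro E hE hcomm
  by_contra hcon
  push Not at hcon
  obtain ⟨hE0, hE1⟩ := hcon
  let L : Submodule R (Fin (Nat.find hex) → R) := LinearMap.range E
  have hL : ∀ g, ∀ v ∈ L, ρ g v ∈ L := by
    rintro g _ ⟨w, rfl⟩
    exact ⟨ρ g w, by rw [← Module.End.mul_apply, (hcomm g).eq]; rfl⟩
  obtain ⟨τ, hτ⟩ := exists_of_module Eh c (subRep ρ L hL) (by
      intro v
      apply Subtype.ext
      have h2 := hρ v
      rw [ZE_apply] at h2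
      rw [ZE_apply, Submodule.coe_sum]
      exact h2)
  have hrank := Submodule.finrank_quotient_add_finrank (LinearMap.ker E)
  rw [(LinearMap.quotKerEquivRange E).finrank_eq] at hrank
  have hEE : ∀ v, E (E v) = E v := fun v => by rw [← Module.End.mul_apply, hE]
  have hker : 0 < Module.finrank R (LinearMap.ker E) := by
    rw [Module.finrank_pos_iff, Submodule.nontrivial_iff_ne_bot]
    intro hbot
    apply hE1
    rw [LinearMap.ker_eq_bot] at hbot
    refine LinearMap.ext (fun v => ?_)
    exact hbot (hEE v)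
  have hpos : 0 < Module.finrank R L := by
    rw [Module.finrank_pos_iff, Submodule.nontrivial_iff_ne_bot]
    intro hbot
    exact hE0 (LinearMap.range_eq_bot.1 hbot)
  have hlt : Module.finrank R L < Nat.find hex := by
    rw [Module.finrank_fin_fun] at hrank
    have : Module.finrank R L = Module.finrank R (LinearMap.range E) := rfl
    omega
  exact Nat.find_min hex hlt ⟨hpos, τ, hτ⟩

end H67.Lat
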