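import Mathlib
import Cfsg.Prelude.Def_Characters
import Cfsg.Agent.Lib.H31.Clifford
import Cfsg.Agent.Lib.H83.Gallagher
import Cfsg.Agent.Lib.H19.ProjExt3
import Cfsg.Agent.Lib.H18.Primitive
import Cfsg.Agent.Lib.H4.CharOrth
import Cfsg.Agent.Lib.H79.Dade

set_option autoImplicit false

/-! Restriction to a normal subgroup with cyclic quotient is multiplicity free. -/

namespace H67.Lat

open Finset Cfsg H31.Clifford H18 H18.CharBasic H18.CharOrtho H18.CharInd H18.CharQuot

theorem mult_free {N : Type*} [Group N] [Fintype N] (W : Subgroup N) [hW : W.Normal] [Fintype W]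
    (hcyc : IsCyclic (N ⧸ W)) {Ψ : N → ℂ} (hΨ : IsIrrCharacter N Ψ) {θ : W → ℂ}
    (hθ : IsIrrCharacter W θ) :
    classInner (fun w : W => Ψ w) θ = 0 ∨ classInner (fun w : W => Ψ w) θ = 1 := by
  classical
  by_cases h0 : classInner (fun w : W => Ψ w) θ = 0
  · left; exact h0
  right
  let T := inertia W θ
  have hT : ∀ g : N, g ∈ T ↔ conjFunN W g θ = θ := fun g => Iff.rfl
  have hWT : W ≤ T := le_inertia W (isClassFunction_of_isIrr hθ)
  let _ : Fintype T := Fintype.ofFinite _
  obtain ⟨ψ, hψ, h1, h2⟩ := H18.Primitive.exists_intermediate W T hWT (isCharacter_of_isIrr hΨ) hθ h0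
  obtain ⟨h3, h4⟩ := corr_core W T hWT hθ hT hψ h2 hΨ h1
  rw [h4]
  -- the group `T`
  let W' := W.subgroupOf T
  let _ : Fintype W' := Fintype.ofFinite _
  have hW' : W'.Normal := inferInstance
  have hθ' := irr_thT W T hWT hθ
  -- the quotient of `T` is cyclic
  have hcyc' : IsCyclic (T ⧸ W') := by
    let f : T →* N ⧸ W := (QuotientGroup.mk' W).comp T.subtype
    have hker : f.ker = W' := by
      ext x
      rw [MonoidHom.mem_ker]
      change (QuotientGroup.mk (x : N) : N ⧸ W) = 1 ↔ _
      rw [QuotientGroup.eq_one_iff]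
      rfl
    have hle : W' ≤ f.ker := hker.ge
    let g := QuotientGroup.lift W' f hle
    have hg : Function.Injective g := by
      rw [injective_iff_map_eq_one]
      intro x hx
      obtain ⟨y, rfl⟩ := QuotientGroup.mk_surjective x
      have : f y = 1 := hx
      rw [← MonoidHom.mem_ker, hker] at this
      exact (QuotientGroup.eq_one_iff y).2 this
    exact isCyclic_of_injective g hg
  obtain ⟨k, ρ, hρ, hρc⟩ := hθ'
  obtain ⟨σ, hσ⟩ := H19.ProjExt3.extend_of_cyclic (N := W') ρ hρ hcyc' (by
    intro t w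
    rw [hρc]
    have h5 : conjFunN W' t (thT W T θ) = thT W T θ := by
      rw [cj_thT, (hT t).1 t.2]
    exact congrFun h5 w)
  set χ : T → ℂ := σ.character with hχdef
  have hχc : IsCharacter T χ := ⟨k, σ, rfl⟩
  have hres : (fun w : W' => χ w) = thT W T θ := by
    rw [← hρc]
    ext w
    rw [hχdef, Representation.character, Representation.character, hσ]
  have hθ'' := irr_thT W T hWT hθ
  have hχ : IsIrrCharacter T χ := H79.Dade.irr_of_restrict W' hχc (by rw [hres]; exact hθ'')
  have h6 : classInner (fun w : W' => ψ w) (fun w : W' => χ w) ≠ 0 := by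
    rw [hres, inner_thT W T hWT]
    exact h2
  obtain ⟨β, hβ, hβk, hβe⟩ := H83.Gallagher.exists_eq_mul hχ W' (by rw [hres]; exact hθ'') hψ h6
  have hβ1 : β 1 = 1 := by
    apply H18.Primitive.degree_one_of_commutator hβ
    intro a b
    apply hβk
    have hcomm : (QuotientGroup.mk a : T ⧸ W') * QuotientGroup.mk b = QuotientGroup.mk b * QuotientGroup.mk a := by
      have := hcyc'.isMulCommutative
      exact mul_comm' _ _
    rw [← QuotientGroup.eq_one_iff]
    rw [QuotientGroup.mk_mul, QuotientGroup.mk_mul, QuotientGroup.mk_mul, QuotientGroup.mk_inv,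
      QuotientGroup.mk_inv, hcomm]
    group
  rw [← inner_thT W T hWT]
  have h7 : (fun w : W' => ψ w) = thT W T θ := by
    rw [← hres]
    ext w
    have := congrFun hβe (w : T)
    rw [this, hβk _ w.2, hβ1, one_mul]
  rw [h7]
  exact inner_irr_self hθ''

end H67.Lat
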