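import Mathlib
import Cfsg.Agent.Lib.H67.LatCore

set_option autoImplicit false

/-! The ring of Witt vectors of a large finite field, embedded in the complex numbers. -/

namespace H67.Lat

open Cardinal

section

variable (p : ℕ) [Fact p.Prime] (k : Type) [Field k] [CharP k p] [Finite k]

theorem good_witt : Good p (WittVector p k) := by
  have hperf : PerfectRing k p := inferInstance
  refine ⟨Fact.out, ?_, ?_, ?_, ?_⟩
  · exact WittVector.p_nonzero p k
  · intro r
    by_cases h : r.coeff 0 = 0
    · right
      rw [← Ideal.mem_span_singleton]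
      exact (WittVector.mem_span_p_iff_coeff_zero_eq_zero r).2 h
    · left
      exact WittVector.isUnit_of_coeff_zero_ne_zero r h
  · have e := (WittVector.quotientPEquiv (p := p) (k := k))
    exact Finite.of_equiv k e.symm.toEquiv
  · infer_instance

theorem card_witt : #(WittVector p k) = 𝔠 := by
  have e : WittVector p k ≃ (ℕ → k) := ⟨fun x => x.coeff, fun f => WittVector.mk p f,
    fun x => by cases x; rfl, fun f => rfl⟩
  rw [Cardinal.mk_congr e, Cardinal.mk_arrow]
  simp only [Cardinal.lift_id, Cardinal.mk_nat]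
  apply le_antisymm
  · have h1 : #k ≤ ℵ₀ := (Cardinal.lt_aleph0_of_finite k).le
    calc #k ^ ℵ₀ ≤ ℵ₀ ^ ℵ₀ := Cardinal.power_le_power_right h1
      _ = 𝔠 := Cardinal.aleph0_power_aleph0
  · have h2 : 2 ≤ #k := by
      rw [Cardinal.two_le_iff]
      exact ⟨0, 1, zero_ne_one⟩
    calc 𝔠 = 2 ^ ℵ₀ := rfl
      _ ≤ #k ^ ℵ₀ := Cardinal.power_le_power_right h2

theorem exists_embedding : ∃ ι : WittVector p k →+* ℂ, Function.Injective ι := by
  set R := WittVector p k
  have hcz : CharZero R := by
    have h0 : (p : R) ≠ 0 := WittVector.p_nonzero p k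
    have hg := good_witt p k
    -- characteristic is zero
    refine charZero_of_inj_zero (fun n hn => ?_)
    by_contra hne
    have hp : p.Prime := Fact.out
    -- write `n = p^a * b`
    obtain ⟨a, b, hb, hab⟩ := Nat.exists_eq_pow_mul_and_not_dvd hne p hp.ne_one
    rw [hab, Nat.cast_mul, Nat.cast_pow] at hn
    rcases mul_eq_zero.1 hn with h1 | h1
    · exact h0 (eq_zero_of_pow_eq_zero h1)
    · have := hg.natCast_unit hb
      rw [h1] at this
      exact not_isUnit_zero this
  let K := FractionRing R
  have hK : CharZero K := inferInstance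
  let A := AlgebraicClosure K
  have hA : CharZero A := charZero_of_injective_algebraMap (FaithfulSMul.algebraMap_injective K A)
  have hcR : #R = 𝔠 := card_witt p k
  have hcK : #K = 𝔠 := by
    rw [← hcR]
    exact Cardinal.mk_fractionRing R
  have hinf : Infinite K := by
    rw [Cardinal.infinite_iff, hcK]; exact Cardinal.aleph0_le_continuum
  have hcA : #A = 𝔠 := by
    apply le_antisymm
    · have h := Algebra.IsAlgebraic.cardinalMk_le_max K A
      rw [hcK, max_eq_left Cardinal.aleph0_le_continuum] at h
      exact h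
    · rw [← hcK]
      exact Cardinal.mk_le_of_injective (FaithfulSMul.algebraMap_injective K A)
  obtain ⟨e⟩ := IsAlgClosed.ringEquiv_of_equiv_of_charZero (K := A) (L := ℂ)
    (by rw [hcA]; exact Cardinal.aleph0_lt_continuum) (by
      rw [← Cardinal.eq, hcA, Cardinal.mk_complex])
  refine ⟨(e.toRingHom.comp (algebraMap K A)).comp (algebraMap R K), ?_⟩
  rw [RingHom.coe_comp, RingHom.coe_comp]
  exact (e.injective.comp (FaithfulSMul.algebraMap_injective K A)).comp
    (IsFractionRing.injective R K)

end

/-- The coefficient ring. -/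
theorem exists_ring (p : ℕ) [Fact p.Prime] (m : ℕ) (hm : ¬ p ∣ m) :
    ∃ (R : Type) (_ : CommRing R) (_ : IsDomain R) (_ : IsPrincipalIdealRing R) (ι : R →+* ℂ),
      Function.Injective ι ∧ Good p R ∧ ∀ z : ℂ, z ^ m = 1 → ∃ r : R, ι r = z := by
  classical
  have hp : p.Prime := Fact.out
  have hm0 : m ≠ 0 := by rintro rfl; exact hm (dvd_zero p)
  have hcop : p.Coprime m := (hp.coprime_iff_not_dvd).2 hm
  have := NeZero.mk hm0
  -- choose the exponent
  set d := orderOf (ZMod.unitOfCoprime p hcop) with hd
  have hd0 : d ≠ 0 := (orderOf_pos _).ne'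
  have hdvd : m ∣ p ^ d - 1 := by
    have h1 : (ZMod.unitOfCoprime p hcop) ^ d = 1 := pow_orderOf_eq_one _
    have h2 := congrArg (fun u : (ZMod m)ˣ => (u : ZMod m)) h1
    simp only [Units.val_pow_eq_pow_val, ZMod.coe_unitOfCoprime, Units.val_one] at h2
    have h3 : ((p ^ d : ℕ) : ZMod m) = ((1 : ℕ) : ZMod m) := by
      rw [Nat.cast_pow, h2, Nat.cast_one]
    rw [ZMod.natCast_eq_natCast_iff] at h3
    exact (Nat.modEq_iff_dvd' (Nat.one_le_pow _ _ hp.pos)).1 h3.symm
  let k := GaloisField p d
  have hfin : Finite k := inferInstance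
  have hfint : Fintype k := Fintype.ofFinite k
  have hcard : Nat.card k = p ^ d := GaloisField.card p d hd0
  -- an element of order `m`
  obtain ⟨u, hu⟩ : ∃ u : kˣ, orderOf u = m := by
    have hc : Nat.card kˣ = p ^ d - 1 := by
      rw [Nat.card_units, hcard]
    have hm' : m ∣ Nat.card kˣ := by rw [hc]; exact hdvd
    obtain ⟨g, hg⟩ := IsCyclic.exists_generator (α := kˣ)
    have hgo : orderOf g = Nat.card kˣ := orderOf_eq_card_of_forall_mem_zpowers hg
    obtain ⟨c, hc'⟩ := hm'
    have hc0 : c ≠ 0 := by
      rintro rfl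
      rw [mul_zero] at hc'
      exact Nat.card_pos.ne' hc'
    refine ⟨g ^ c, ?_⟩
    rw [orderOf_pow' g hc0, hgo, hc', Nat.gcd_mul_left_left, Nat.mul_div_cancel _ (Nat.pos_of_ne_zero hc0)]
  obtain ⟨ι, hι⟩ := exists_embedding p k
  have hperf : PerfectRing k p := inferInstance
  refine ⟨WittVector p k, inferInstance, inferInstance, inferInstance, ι, hι, good_witt p k, ?_⟩
  -- the Teichmüller lift
  let t : WittVector p k := WittVector.teichmuller p (u : k)
  have ht : orderOf t = m := by
    have h1 : orderOf (u : k) = m := by rw [← hu]; exact orderOf_units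
    rw [← h1]
    apply orderOf_injective
    intro a b hab
    have := congrArg (fun x : WittVector p k => x.coeff 0) hab
    simpa [WittVector.teichmuller_coeff_zero] using this
  have hιt : IsPrimitiveRoot (ι t) m := by
    rw [← ht]
    have h1 : IsPrimitiveRoot t (orderOf t) := IsPrimitiveRoot.orderOf t
    exact h1.map_of_injective hι
  intro z hz
  obtain ⟨i, -, hi⟩ := hιt.eq_pow_of_pow_eq_one hz
  exact ⟨t ^ i, by rw [map_pow, hi]⟩

end H67.Lat
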