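import Mathlib
import Cfsg.Prelude.Def_Characters
import Cfsg.Agent.Lib.H31.Clifford

set_option autoImplicit false

/-! The local setup: a Sylow subgroup of prime order, complements. -/

namespace H67.Lat

open Finset Cfsg

/-- local data for a group with a Sylow subgroup of order `p` -/
structure Dat (p : ℕ) (G : Type*) [Group G] where
  σ : G
  N₀ : Subgroup G
  W : Subgroup G
  hσ : orderOf σ = p
  hN₀ : N₀ ≤ Subgroup.normalizer (Subgroup.zpowers σ : Set G)
  hsup : ∀ g ∈ Subgroup.normalizer (Subgroup.zpowers σ : Set G), ∃ x ∈ N₀,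
    ∃ y ∈ Subgroup.zpowers σ, g = x * y
  hdisj : N₀ ⊓ Subgroup.zpowers σ = ⊥
  hNp : ¬ p ∣ Nat.card N₀
  hW : ∀ g, g ∈ W ↔ g ∈ N₀ ∧ g * σ = σ * g

theorem exists_dat {p : ℕ} (hp : p.Prime) {G : Type*} [Group G] [Finite G] (hp2 : ¬ p ^ 2 ∣ Nat.card G)
    {σ : G} (hσ : orderOf σ = p) : ∃ D : Dat p G, D.σ = σ := by
  classical
  set P := Subgroup.zpowers σ with hP
  set N := Subgroup.normalizer (P : Set G) with hN
  let P' := P.subgroupOf N
  have hPN : P ≤ N := Subgroup.le_normalizer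
  have hPn : P'.Normal := Subgroup.normal_in_normalizer
  have hcP : Nat.card P = p := by rw [hP, Nat.card_zpowers, hσ]
  have hcP' : Nat.card P' = p := by
    rw [← hcP]
    exact Nat.card_congr (Subgroup.subgroupOfEquivOfLe hPN).toEquiv
  have hmul : Nat.card P' * P'.index = Nat.card N := P'.card_mul_index
  have hidx : ¬ p ∣ P'.index := by
    intro hd
    apply hp2
    have h1 : p ^ 2 ∣ Nat.card N := by
      rw [← hmul, hcP', pow_two]
      exact Nat.mul_dvd_mul_left p hd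
    exact h1.trans (Subgroup.card_subgroup_dvd_card N)
  have hcop : (Nat.card P').Coprime P'.index := by
    rw [hcP', hp.coprime_iff_not_dvd]; exact hidx
  obtain ⟨K, hK⟩ := Subgroup.exists_right_complement'_of_coprime hcop
  have hcK : Nat.card K = P'.index := by
    have h1 := hK.card_mul
    have h2 : Nat.card P' ≠ 0 := by rw [hcP']; exact hp.ne_zero
    have h3 : Nat.card P' * Nat.card K = Nat.card P' * P'.index := by rw [h1, hmul]
    exact Nat.eq_of_mul_eq_mul_left (Nat.pos_of_ne_zero h2) h3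
  set N₀ := K.map N.subtype with hN₀
  have hcN₀ : Nat.card N₀ = P'.index := by
    rw [hN₀, Subgroup.card_map_of_injective N.subtype_injective, hcK]
  refine ⟨⟨σ, N₀, N₀ ⊓ Subgroup.centralizer {σ}, hσ, ?_, ?_, ?_, ?_, ?_⟩, rfl⟩
  · rintro _ ⟨x, _, rfl⟩
    exact x.2
  · intro g hg
    have h1 := hK.symm
    obtain ⟨⟨x, y⟩, hxy⟩ := h1.2 (⟨g, hg⟩ : N)
    refine ⟨(x : N), ⟨(x : N), x.2, rfl⟩, (y : N), y.2, ?_⟩
    have := congrArg Subtype.val hxy
    exact this.symm
  · rw [eq_bot_iff]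
    rintro _ ⟨⟨x, hx, rfl⟩, hx2⟩
    have h1 : x ∈ P' ⊓ K := ⟨hx2, hx⟩
    rw [hK.disjoint.eq_bot, Subgroup.mem_bot] at h1
    rw [h1]; rfl
  · rw [hcN₀]; exact hidx
  · intro g
    rw [Subgroup.mem_inf, Subgroup.mem_centralizer_singleton_iff, eq_comm (a := g * σ)]

namespace Dat

variable {p : ℕ} {G : Type*} [Group G] (D : Dat p G)

/-- the Sylow subgroup -/
abbrev P : Subgroup G := Subgroup.zpowers D.σ

theorem W_le : D.W ≤ D.N₀ := fun g hg => ((D.hW g).1 hg).1

theorem W_comm {u : G} (hu : u ∈ D.W) : u * D.σ = D.σ * u := ((D.hW u).1 hu).2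

theorem W_comm' {u : G} (hu : u ∈ D.W) {x : G} (hx : x ∈ D.P) : u * x = x * u := by
  obtain ⟨k, rfl⟩ := Subgroup.mem_zpowers_iff.1 hx
  have : Commute u D.σ := D.W_comm hu
  exact (this.zpow_right k).eq

/-- elements centralizing `σ` -/
theorem cent {c : G} (hc : c * D.σ = D.σ * c) : ∃ u ∈ D.W, ∃ y ∈ D.P, c = u * y := by
  have hcN : c ∈ Subgroup.normalizer (Subgroup.zpowers D.σ : Set G) := by
    have h1 : ∀ x ∈ Subgroup.zpowers D.σ, c * x * c⁻¹ = x := by
      intro x hx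
      obtain ⟨k, rfl⟩ := Subgroup.mem_zpowers_iff.1 hx
      have : Commute c D.σ := hc
      rw [(this.zpow_right k).eq, mul_inv_cancel_right]
    rw [Subgroup.mem_normalizer_iff]
    intro x
    constructor
    · intro hx
      change c * x * c⁻¹ ∈ Subgroup.zpowers D.σ
      rw [h1 x hx]; exact hx
    · intro hx
      have h2 := h1 _ hx
      have h3 : c * x * c⁻¹ = x := by
        have : c * (c * x * c⁻¹) * c⁻¹ = c * x * c⁻¹ := h2
        have := mul_right_cancel this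
        exact mul_left_cancel this
      have hx : c * x * c⁻¹ ∈ Subgroup.zpowers D.σ := hx
      rw [h3] at hx
      exact hx
  obtain ⟨u, hu, y, hy, rfl⟩ := D.hsup c hcN
  refine ⟨u, (D.hW u).2 ⟨hu, ?_⟩, y, hy, rfl⟩
  obtain ⟨k, rfl⟩ := Subgroup.mem_zpowers_iff.1 hy
  have h1 : Commute (D.σ ^ k) D.σ := (Commute.refl D.σ).zpow_left k
  have h2 : Commute (u * D.σ ^ k) D.σ := hc
  have h3 : u = (u * D.σ ^ k) * (D.σ ^ k)⁻¹ := by group
  rw [h3]
  exact (h2.mul_left h1.inv_left).eq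

instance normal_W : (D.W.subgroupOf D.N₀).Normal := by
  refine ⟨fun w hw g => ?_⟩
  rw [Subgroup.mem_subgroupOf] at hw ⊢
  rw [D.hW] at hw ⊢
  refine ⟨(g * w * g⁻¹).2, ?_⟩
  -- conjugation preserves the centralizer
  have hg : (g : G)⁻¹ ∈ Subgroup.normalizer (Subgroup.zpowers D.σ : Set G) := inv_mem (D.hN₀ g.2)
  have h1 : (g : G)⁻¹ * D.σ * (g : G)⁻¹⁻¹ ∈ Subgroup.zpowers D.σ :=
    (Subgroup.mem_normalizer_iff.1 hg D.σ).1 (Subgroup.mem_zpowers D.σ)
  have h2 : (w : G) * ((g : G)⁻¹ * D.σ * (g : G)⁻¹⁻¹) = ((g : G)⁻¹ * D.σ * (g : G)⁻¹⁻¹) * w := by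
    obtain ⟨k, hk⟩ := Subgroup.mem_zpowers_iff.1 h1
    rw [← hk]
    have : Commute (w : G) D.σ := hw.2
    exact (this.zpow_right k).eq
  rw [inv_inv] at h2
  change (g : G) * w * (g : G)⁻¹ * D.σ = D.σ * ((g : G) * w * (g : G)⁻¹)
  calc (g : G) * w * (g : G)⁻¹ * D.σ = g * (w * ((g : G)⁻¹ * D.σ * g)) * (g : G)⁻¹ := by group
    _ = g * (((g : G)⁻¹ * D.σ * g) * w) * (g : G)⁻¹ := by rw [h2]
    _ = _ := by group

theorem cyclic (hp : p.Prime) [Finite G] : IsCyclic (D.N₀ ⧸ D.W.subgroupOf D.N₀) := by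
  classical
  have := Fact.mk hp
  -- the homomorphism to the automorphism group of `P`
  let f : D.N₀ →* MulAut D.P := (Subgroup.normalizerMonoidHom D.P).comp (Subgroup.inclusion D.hN₀)
  have hfa : ∀ (g : D.N₀) (x : D.P), ((f g x : D.P) : G) = g * x * (g : G)⁻¹ := fun g x => rfl
  have hker : f.ker = D.W.subgroupOf D.N₀ := by
    ext g
    rw [MonoidHom.mem_ker, Subgroup.mem_subgroupOf, D.hW]
    constructor
    · intro h
      refine ⟨g.2, ?_⟩
      have h1 := hfa g ⟨D.σ, Subgroup.mem_zpowers D.σ⟩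
      rw [h] at h1
      have h2 : D.σ = (g : G) * D.σ * (g : G)⁻¹ := h1
      rw [eq_mul_inv_iff_mul_eq] at h2
      exact h2.symm
    · rintro ⟨_, h⟩
      refine MulEquiv.ext (fun x => Subtype.ext ?_)
      rw [hfa]
      obtain ⟨k, hk⟩ := Subgroup.mem_zpowers_iff.1 x.2
      have : Commute (g : G) D.σ := h
      rw [← hk, (this.zpow_right k).eq, mul_inv_cancel_right, hk]
      rfl
  have hcard : Nat.card D.P = p := by rw [Nat.card_zpowers, D.hσ]
  have hcyc : IsCyclic (MulAut D.P) := by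
    have e := IsCyclic.mulAutMulEquiv D.P
    rw [hcard] at e
    exact isCyclic_of_surjective e.symm.toMonoidHom e.symm.surjective
  have hle : D.W.subgroupOf D.N₀ ≤ f.ker := hker.ge
  let g := QuotientGroup.lift (D.W.subgroupOf D.N₀) f hle
  have hg : Function.Injective g := by
    rw [injective_iff_map_eq_one]
    intro x hx
    obtain ⟨y, rfl⟩ := QuotientGroup.mk_surjective x
    have : f y = 1 := hx
    rw [← MonoidHom.mem_ker, hker] at this
    exact (QuotientGroup.eq_one_iff y).2 this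
  exact isCyclic_of_injective g hg

end Dat

end H67.Lat
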