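import Mathlib
import Cfsg.Agent.Lib.H67.LatCore

set_option autoImplicit false

/-! The core argument with a complement of the Sylow subgroup in its normalizer. -/

namespace H67.Lat

open Finset

variable {p : ℕ} {R : Type*} [CommRing R] [IsDomain R] {n : ℕ} {G : Type*} [Group G] [Finite G]

open Classical in
/-- the fixed cosets are represented by the complement -/
theorem sum_fixed_eq {V : Type*} [AddCommGroup V] [Module R V] (ρ : Representation R G V) {σ : G}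
    (hp : p.Prime) (hσ : orderOf σ = p) {a : Module.End R V} (ha : Commute a (ρ σ))
    [Fintype (G ⧸ Subgroup.zpowers σ)] (N₀ : Subgroup G) [Fintype N₀]
    (hN₀ : N₀ ≤ Subgroup.normalizer (Subgroup.zpowers σ : Set G))
    (hsup : ∀ g ∈ Subgroup.normalizer (Subgroup.zpowers σ : Set G), ∃ x ∈ N₀,
      ∃ y ∈ Subgroup.zpowers σ, g = x * y) (hdisj : N₀ ⊓ Subgroup.zpowers σ = ⊥) :
    ∑ q ∈ (univ : Finset (G ⧸ Subgroup.zpowers σ)).filter (fun q => σ • q = q), cjE ρ a q.out =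
      ∑ x : N₀, cjE ρ a (x : G) := by
  symm
  refine Finset.sum_bij (fun (x : N₀) _ => (QuotientGroup.mk (x : G) : G ⧸ Subgroup.zpowers σ)) ?_ ?_ ?_ ?_
  · intro x _
    rw [mem_filter]
    exact ⟨mem_univ _, (smul_eq_iff_normalizer hp hσ _).2 (hN₀ x.2)⟩
  · intro x _ y _ hxy
    have h1 : (x : G)⁻¹ * y ∈ Subgroup.zpowers σ := QuotientGroup.eq.1 hxy
    have h2 : (x : G)⁻¹ * y ∈ N₀ ⊓ Subgroup.zpowers σ := ⟨N₀.mul_mem (N₀.inv_mem x.2) y.2, h1⟩
    rw [hdisj, Subgroup.mem_bot] at h2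
    exact Subtype.ext (inv_mul_eq_one.1 h2)
  · intro q hq
    have h1 : q.out ∈ Subgroup.normalizer (Subgroup.zpowers σ : Set G) := by
      rw [← smul_eq_iff_normalizer hp hσ, QuotientGroup.out_eq']
      exact (mem_filter.1 hq).2
    obtain ⟨x, hx, y, hy, hxy⟩ := hsup _ h1
    refine ⟨⟨x, hx⟩, mem_univ _, ?_⟩
    rw [← QuotientGroup.out_eq' q, hxy]
    exact (QuotientGroup.eq.2 (by rwa [← mul_assoc, inv_mul_cancel, one_mul]))
  · intro x _
    exact (cjE_out ρ ha x).symm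

/-- the core argument with a complement -/
theorem coreN (hR : Good p R) (ρ : Representation R G (Fin n → R)) (hind : Indec ρ) {σ : G}
    (hσ : orderOf σ = p) (N₀ : Subgroup G) [Fintype N₀]
    (hN₀ : N₀ ≤ Subgroup.normalizer (Subgroup.zpowers σ : Set G))
    (hsup : ∀ g ∈ Subgroup.normalizer (Subgroup.zpowers σ : Set G), ∃ x ∈ N₀,
      ∃ y ∈ Subgroup.zpowers σ, g = x * y) (hdisj : N₀ ⊓ Subgroup.zpowers σ = ⊥)
    (X Y X' Y' : Submodule R (Fin n → R))
    (hkill : ∀ a, Kills p (ρ σ) a ↔ (∀ u ∈ X, a u ∈ Y) ∧ ∀ u ∈ X', a u ∈ Y')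
    (hY : ∀ b, Commute b (ρ σ) → ∀ u ∈ Y, b u ∈ Y) (hY' : ∀ b, Commute b (ρ σ) → ∀ u ∈ Y', b u ∈ Y')
    (hNX : ∀ g ∈ Subgroup.normalizer (Subgroup.zpowers σ : Set G), ∀ u ∈ X, ρ g u ∈ X)
    (hNY : ∀ g ∈ Subgroup.normalizer (Subgroup.zpowers σ : Set G), ∀ u ∈ Y, ρ g u ∈ Y)
    (hNX' : ∀ g ∈ Subgroup.normalizer (Subgroup.zpowers σ : Set G), ∀ u ∈ X', ρ g u ∈ X')
    {v : Fin n → R} (hv : v ∈ X) (hvY : v ∉ Y)
    (a : Module.End R (Fin n → R)) (ha : Commute a (ρ σ)) (f : (Fin n → R) →ₗ[R] R)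
    (haX : ∀ u ∈ X, a u - f u • v ∈ Y) (haX' : ∀ u ∈ X', a u = 0) (hfv : f v = 1)
    (hfY : ∀ u ∈ Y, (p : R) ∣ f u)
    (r : N₀ → R) (hiv : ∑ x : N₀, r x • ρ (x : G) v = v) (μ : N₀ → R)
    (hμ : ∀ y : N₀, ∑ x : N₀, r x • ρ (x : G) (ρ (y : G) v) - μ y • v ∈ Y)
    (c : R) (hc : ∑ x : N₀, μ x • ρ (x : G)⁻¹ v - c • v ∈ Y) (hcu : IsUnit c) :
    (∀ u ∈ X, ∃ s : N₀ → R, u - ∑ x : N₀, s x • ρ (x : G) v ∈ Y) ∧ ∀ u ∈ X', u ∈ Y' := by
  classical
  have hp := hR.prime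
  have hσp : σ ^ p = 1 := by rw [← hσ, pow_orderOf_eq_one]
  have := Fact.mk hp
  let _ : Fintype (G ⧸ Subgroup.zpowers σ) := Fintype.ofFinite _
  set lam := relTr ρ σ a with hlam
  have hkl : Kills p (ρ σ) (lam - ∑ x : N₀, cjE ρ a (x : G)) := by
    rw [← sum_fixed_eq ρ hp hσ ha N₀ hN₀ hsup hdisj]
    exact relTr_kills ρ hp hσp ha
  have hlc : ∀ g, Commute lam (ρ g) := relTr_commute ρ ha
  have hlc' : ∀ (g : G) (u : Fin n → R), lam (ρ g u) = ρ g (lam u) := by
    intro g u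
    rw [← Module.End.mul_apply, (hlc g).eq, Module.End.mul_apply]
  -- the value of the sum of the conjugates
  have hsum : ∀ u ∈ X, (∑ x : N₀, cjE ρ a (x : G)) u - ∑ x : N₀, f (ρ (x : G)⁻¹ u) • ρ (x : G) v ∈ Y := by
    intro u hu
    rw [LinearMap.sum_apply, ← Finset.sum_sub_distrib]
    apply Y.sum_mem
    intro x _
    have hg := hN₀ x.2
    have h1 := haX _ (hNX _ (inv_mem hg) u hu)
    have h2 := hNY _ hg _ h1
    rw [map_sub, map_smul] at h2
    exact h2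
  have hlX : ∀ u ∈ X, lam u - ∑ x : N₀, f (ρ (x : G)⁻¹ u) • ρ (x : G) v ∈ Y := by
    intro u hu
    have h1 := ((hkill _).1 hkl).1 u hu
    rw [LinearMap.sub_apply] at h1
    have h2 := Y.add_mem h1 (hsum u hu)
    convert h2 using 1
    abel
  have hlX' : ∀ u ∈ X', lam u ∈ Y' := by
    intro u hu
    have h1 := ((hkill _).1 hkl).2 u hu
    rw [LinearMap.sub_apply] at h1
    have h2 : (∑ x : N₀, cjE ρ a (x : G)) u = 0 := by
      rw [LinearMap.sum_apply]
      apply Finset.sum_eq_zero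
      intro x _
      rw [cjE, Module.End.mul_apply, Module.End.mul_apply, haX' _ (hNX' _ (inv_mem (hN₀ x.2)) u hu),
        map_zero]
    rwa [h2, sub_zero] at h1
  -- the eigenvalue on `v`
  set i : Module.End R (Fin n → R) := ∑ x : N₀, r x • ρ (x : G) with hi
  have hiap : ∀ u, i u = ∑ x : N₀, r x • ρ (x : G) u := by
    intro u
    rw [hi, LinearMap.sum_apply]
    rfl
  have hiY : ∀ u ∈ Y, i u ∈ Y := by
    intro u hu
    rw [hiap]
    exact Y.sum_mem (fun x _ => Y.smul_mem _ (hNY _ (hN₀ x.2) u hu))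
  have hil : ∀ u, i (lam u) = lam (i u) := by
    intro u
    rw [hiap, hiap, map_sum]
    refine Finset.sum_congr rfl (fun x _ => ?_)
    rw [map_smul, hlc']
  have hiv' : i v = v := by rw [hiap]; exact hiv
  have hlv : lam v - c • v ∈ Y := by
    have h1 := hiY _ (hlX v hv)
    rw [map_sub, hil, hiv', map_sum] at h1
    -- replace `i (n v)` by `μ n v`
    have h2 : ∑ x : N₀, i (f (ρ (x : G)⁻¹ v) • ρ (x : G) v) -
        (∑ x : N₀, f (ρ (x : G)⁻¹ v) * μ x) • v ∈ Y := by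
      rw [Finset.sum_smul, ← Finset.sum_sub_distrib]
      apply Y.sum_mem
      intro x _
      have := Y.smul_mem (f (ρ (x : G)⁻¹ v)) (hμ x)
      rw [smul_sub, smul_smul, ← hiap] at this
      rwa [map_smul]
    have h3 : (p : R) ∣ (∑ x : N₀, f (ρ (x : G)⁻¹ v) * μ x) - c := by
      have h4 := hfY _ hc
      rw [map_sub, map_smul, hfv, smul_eq_mul, mul_one, map_sum] at h4
      convert h4 using 3
      rename_i x _
      rw [map_smul, smul_eq_mul, mul_comm]
    obtain ⟨d, hd⟩ := h3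
    have h4 : ((∑ x : N₀, f (ρ (x : G)⁻¹ v) * μ x) - c) • v ∈ Y := by
      have hpv : (p : R) • v ∈ Y := by
        have h5 := ((hkill _).1 (kills_p (p := p) (s := ρ σ))).1 v hv
        rwa [Module.End.natCast_apply, ← Nat.cast_smul_eq_nsmul R] at h5
      rw [hd, mul_comm, mul_smul]
      exact Y.smul_mem d hpv
    have h5 := Y.add_mem (Y.add_mem h1 h2) h4
    convert h5 using 1
    rw [sub_smul]
    abel
  obtain ⟨uc, huc⟩ := hcu
  set b : Module.End R (Fin n → R) := (↑uc⁻¹ : R) • lam with hb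
  have hbc : ∀ g, Commute b (ρ g) := fun g => (hlc g).smul_left _
  have hbc' : ∀ (g : G) (u : Fin n → R), b (ρ g u) = ρ g (b u) := by
    intro g u
    rw [← Module.End.mul_apply, (hbc g).eq, Module.End.mul_apply]
  have hbX : ∀ u ∈ X, b u - ∑ x : N₀, ((↑uc⁻¹ : R) * f (ρ (x : G)⁻¹ u)) • ρ (x : G) v ∈ Y := by
    intro u hu
    have := Y.smul_mem (↑uc⁻¹ : R) (hlX u hu)
    rw [smul_sub, Finset.smul_sum] at this
    have h2 : ∀ x : N₀, (↑uc⁻¹ : R) • (f (ρ (x : G)⁻¹ u) • ρ (x : G) v) =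
        ((↑uc⁻¹ : R) * f (ρ (x : G)⁻¹ u)) • ρ (x : G) v := fun x => by rw [mul_smul]
    rw [Finset.sum_congr rfl (fun x _ => h2 x)] at this
    exact this
  have hbv : b v - v ∈ Y := by
    have := Y.smul_mem (↑uc⁻¹ : R) hlv
    rwa [smul_sub, smul_smul, ← huc, Units.inv_mul, one_smul] at this
  have hbv' : ∀ x : N₀, b (ρ (x : G) v) - ρ (x : G) v ∈ Y := by
    intro x
    have := hNY _ (hN₀ x.2) _ hbv
    rwa [map_sub, ← hbc'] at this
  have hbX' : ∀ u ∈ X', b u ∈ Y' := fun u hu => Y'.smul_mem _ (hlX' u hu)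
  have hk : Kills p (ρ σ) (b * b - b) := by
    rw [hkill]
    constructor
    · intro u hu
      set t : N₀ → R := fun x => (↑uc⁻¹ : R) * f (ρ (x : G)⁻¹ u) with ht
      have h1 := hbX u hu
      have h2 := hY b (hbc σ) _ h1
      rw [map_sub, map_sum] at h2
      have h3 : ∑ x : N₀, b (t x • ρ (x : G) v) - ∑ x : N₀, t x • ρ (x : G) v ∈ Y := by
        rw [← Finset.sum_sub_distrib]
        apply Y.sum_mem
        intro x _
        rw [map_smul, ← smul_sub]
        exact Y.smul_mem _ (hbv' x)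
      rw [LinearMap.sub_apply, Module.End.mul_apply]
      have h4 := Y.sub_mem (Y.add_mem h2 h3) h1
      convert h4 using 1
      abel
    · intro u hu
      rw [LinearMap.sub_apply, Module.End.mul_apply]
      exact Y'.sub_mem (hY' b (hbc σ) _ (hbX' u hu)) (hbX' u hu)
  rcases locality hR ρ hind hbc hk with h | h
  · exfalso
    apply hvY
    have h1 := ((hkill _).1 h).1 v hv
    have h2 := Y.sub_mem h1 hbv
    rwa [sub_sub_cancel] at h2
  · have h1 := (hkill _).1 h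
    constructor
    · intro u hu
      refine ⟨fun x => (↑uc⁻¹ : R) * f (ρ (x : G)⁻¹ u), ?_⟩
      have h2 := h1.1 u hu
      rw [LinearMap.sub_apply, Module.End.one_apply] at h2
      have h3 := Y.sub_mem (hbX u hu) h2
      convert h3 using 1
      abel
    · intro u hu
      have h2 := h1.2 u hu
      rw [LinearMap.sub_apply, Module.End.one_apply] at h2
      have h3 := Y'.sub_mem (hbX' u hu) h2
      rwa [sub_sub_cancel] at h3

end H67.Lat
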