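import Mathlib
import Cfsg.Agent.Lib.H67.LatCore

set_option autoImplicit false

/-! Herbrand quotient and the trace of an automorphism of order `p` of a lattice. -/

namespace H67.Lat

open Finset Polynomial

section poly

/-- `(X-1)^(p-1) = 1 + X + ⋯ + X^(p-1) + p (-1 + (X-1) k)` -/
theorem exists_poly {p : ℕ} (hp : p.Prime) : ∃ k : ℤ[X],
    (X - 1 : ℤ[X]) ^ (p - 1) = ∑ i ∈ range p, X ^ i + (p : ℤ[X]) * (-1 + (X - 1) * k) := by
  have := Fact.mk hp
  have h1 : ((X - 1 : (ZMod p)[X])) ^ (p - 1) = ∑ i ∈ range p, X ^ i := by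
    have h2 : (X - 1 : (ZMod p)[X]) * (X - 1) ^ (p - 1) = (X - 1) * ∑ i ∈ range p, X ^ i := by
      rw [← pow_succ', show p - 1 + 1 = p by have := hp.two_le; omega, mul_geom_sum, sub_pow_char,
        one_pow]
    have h3 : (X - 1 : (ZMod p)[X]) ≠ 0 := by
      have := Polynomial.X_sub_C_ne_zero (1 : ZMod p)
      rwa [map_one] at this
    exact mul_left_cancel₀ h3 h2
  have h4 : Polynomial.map (Int.castRingHom (ZMod p))
      ((X - 1 : ℤ[X]) ^ (p - 1) - ∑ i ∈ range p, X ^ i) = 0 := by
    rw [Polynomial.map_sub, Polynomial.map_pow, Polynomial.map_sub, Polynomial.map_X,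
      Polynomial.map_one, Polynomial.map_sum]
    simp only [Polynomial.map_pow, Polynomial.map_X]
    rw [h1, sub_self]
  have h5 : ∀ i, (p : ℤ) ∣ ((X - 1 : ℤ[X]) ^ (p - 1) - ∑ i ∈ range p, X ^ i).coeff i := by
    intro i
    have h6 := congrArg (fun f => Polynomial.coeff f i) h4
    simp only [Polynomial.coeff_map, Polynomial.coeff_zero] at h6
    exact (ZMod.intCast_zmod_eq_zero_iff_dvd _ _).1 h6
  obtain ⟨h, hh⟩ := (Polynomial.C_dvd_iff_dvd_coeff _ _).2 h5
  have h7 : h.eval 1 = -1 := by
    have h8 := congrArg (Polynomial.eval 1) hh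
    rw [Polynomial.eval_sub, Polynomial.eval_pow, Polynomial.eval_sub, Polynomial.eval_X,
      Polynomial.eval_one, sub_self, zero_pow (by have := hp.two_le; omega), Polynomial.eval_finsetSum,
      Polynomial.eval_mul, Polynomial.eval_C] at h8
    simp only [Polynomial.eval_pow, Polynomial.eval_X, one_pow, sum_const, card_range,
      nsmul_eq_mul, mul_one, zero_sub] at h8
    have hp0 : (p : ℤ) ≠ 0 := by exact_mod_cast hp.ne_zero
    have : (p : ℤ) * (h.eval 1 + 1) = 0 := by linarith
    rcases mul_eq_zero.1 this with h9 | h9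
    · exact absurd h9 hp0
    · linarith
  obtain ⟨k, hk⟩ := Polynomial.X_sub_C_dvd_sub_C_eval (a := (1 : ℤ)) (p := h)
  refine ⟨k, ?_⟩
  have h9 : h = -1 + (X - 1) * k := by
    rw [h7] at hk
    have e1 : (Polynomial.C (-1 : ℤ)) = -1 := by simp
    have e2 : (Polynomial.C (1 : ℤ)) = 1 := by simp
    rw [e1, e2] at hk
    rw [← hk]; ring
  rw [← h9]
  have h10 : (Polynomial.C (p : ℤ)) = (p : ℤ[X]) := by simp
  rw [← h10, ← hh]
  ring

end poly

section idx

variable {p : ℕ} {R : Type*} [CommRing R] [IsDomain R] [IsPrincipalIdealRing R]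
variable {V : Type*} [AddCommGroup V] [Module R V] [Module.Finite R V] [Module.Free R V]

/-- index of `pV` in a free module -/
theorem index_p (V : Type*) [AddCommGroup V] [Module R V] [Module.Finite R V] [Module.Free R V] :
    (LinearMap.range ((p : R) • (1 : Module.End R V))).toAddSubgroup.index =
      Nat.card (R ⧸ Ideal.span {(p : R)}) ^ Module.finrank R V := by
  classical
  let b := Module.finBasis R V
  let f : V →+ (Fin (Module.finrank R V) → R ⧸ Ideal.span {(p : R)}) :=
    { toFun := fun v i => Ideal.Quotient.mk _ (b.repr v i)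
      map_zero' := by ext i; simp
      map_add' := fun v w => by ext i; simp }
  have hker : f.ker = (LinearMap.range ((p : R) • (1 : Module.End R V))).toAddSubgroup := by
    ext v
    rw [AddMonoidHom.mem_ker]
    constructor
    · intro h
      have h1 : ∀ i, ∃ c, b.repr v i = (p : R) * c := by
        intro i
        have h2 : Ideal.Quotient.mk (Ideal.span {(p : R)}) (b.repr v i) = 0 := congrFun h i
        rw [Ideal.Quotient.eq_zero_iff_mem, Ideal.mem_span_singleton] at h2
        exact h2
      choose c hc using h1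
      refine ⟨∑ i, c i • b i, ?_⟩
      rw [LinearMap.smul_apply, Module.End.one_apply, Finset.smul_sum]
      conv_rhs => rw [← b.sum_repr v]
      refine Finset.sum_congr rfl (fun i _ => ?_)
      rw [smul_smul, ← hc]
    · rintro ⟨w, rfl⟩
      ext i
      change Ideal.Quotient.mk (Ideal.span {(p : R)}) (b.repr ((p : R) • w) i) = 0
      rw [Ideal.Quotient.eq_zero_iff_mem, Ideal.mem_span_singleton, map_smul, Finsupp.smul_apply,
        smul_eq_mul]
      exact dvd_mul_right _ _
  have hsurj : Function.Surjective f := by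
    intro y
    choose c hc using fun i => Ideal.Quotient.mk_surjective (y i)
    refine ⟨∑ i, c i • b i, ?_⟩
    ext i
    change Ideal.Quotient.mk (Ideal.span {(p : R)}) (b.repr (∑ i, c i • b i) i) = y i
    rw [b.repr_sum_self, hc]
  rw [← hker, AddSubgroup.index_ker, AddMonoidHom.range_eq_top.2 hsurj, AddSubgroup.card_top,
    Nat.card_fun, Nat.card_eq_fintype_card (α := Fin _), Fintype.card_fin]

omit [IsDomain R] [IsPrincipalIdealRing R] [Module.Finite R V] [Module.Free R V] in
theorem index_pow {f : Module.End R V} (hf : Function.Injective f) (k : ℕ) :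
    (LinearMap.range (f ^ k)).toAddSubgroup.index = (LinearMap.range f).toAddSubgroup.index ^ k := by
  induction k with
  | zero =>
    rw [pow_zero, pow_zero]
    have : (LinearMap.range (1 : Module.End R V)).toAddSubgroup = ⊤ := by
      rw [eq_top_iff]; intro v _; exact ⟨v, rfl⟩
    rw [this, AddSubgroup.index_top]
  | succ k ih =>
    have h1 : (LinearMap.range (f ^ (k + 1))).toAddSubgroup =
        (LinearMap.range (f ^ k)).toAddSubgroup.map f.toAddMonoidHom := by
      ext v
      constructor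
      · rintro ⟨w, rfl⟩
        exact ⟨(f ^ k) w, ⟨w, rfl⟩, by rw [pow_succ']; rfl⟩
      · rintro ⟨_, ⟨w, rfl⟩, rfl⟩
        exact ⟨w, by rw [pow_succ']; rfl⟩
    have h2 : f.toAddMonoidHom.range = (LinearMap.range f).toAddSubgroup := rfl
    rw [h1, AddSubgroup.index_map_of_injective _ hf, ih, h2, pow_succ]

end idx

section herbrand

variable {p : ℕ} {R : Type*} [CommRing R] [IsDomain R] [IsPrincipalIdealRing R]
variable {V : Type*} [AddCommGroup V] [Module R V] [Module.Finite R V] [Module.Free R V]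

omit [IsDomain R] [IsPrincipalIdealRing R] [Module.Finite R V] [Module.Free R V] in
/-- if `T = 0` then the range of `(s-1)^(p-1)` is `pV` -/
theorem range_pow_sub (hp : p.Prime) {s : Module.End R V} (hT : TT p s = 0) :
    LinearMap.range ((s - 1) ^ (p - 1)) = LinearMap.range ((p : R) • (1 : Module.End R V)) := by
  obtain ⟨k, hk⟩ := exists_poly hp
  set K : Module.End R V := Polynomial.aeval s k with hK
  set h : Module.End R V := -1 + (s - 1) * K with hh
  have h1 : (s - 1) ^ (p - 1) = (p : Module.End R V) * h := by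
    have h2 := congrArg (Polynomial.aeval s) hk
    rw [map_pow, map_sub, Polynomial.aeval_X, map_one, map_add, map_sum, map_mul, map_add,
      map_neg, map_one, map_mul, map_sub, Polynomial.aeval_X, map_one, map_natCast] at h2
    simp only [map_pow, Polynomial.aeval_X] at h2
    rw [h2, show ∑ i ∈ range p, s ^ i = TT p s from rfl, hT, zero_add]
  have hcK : Commute K (s - 1) := by
    have : Commute (Polynomial.aeval s k) (Polynomial.aeval s (X - 1 : ℤ[X])) := by
      rw [commute_iff_eq, ← map_mul, ← map_mul, mul_comm]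
    rw [map_sub, Polynomial.aeval_X, map_one] at this
    exact this
  have hch : Commute h (s - 1) := by
    rw [hh]
    exact ((Commute.one_left _).neg_left).add_left ((Commute.refl _).mul_left hcK)
  -- `h` is surjective
  have hsurj : ∀ j : ℕ, ∀ v : V, ∃ a b, v = h a + ((s - 1) ^ j) b := by
    intro j
    induction j with
    | zero => intro v; exact ⟨0, v, by simp⟩
    | succ j ih =>
      intro v
      have h3 : v = h (-v) + (s - 1) (K v) := by
        rw [hh, LinearMap.add_apply, Module.End.mul_apply, LinearMap.neg_apply,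
          Module.End.one_apply, map_neg, map_neg, neg_neg, LinearMap.sub_apply,
          Module.End.one_apply]
        abel
      obtain ⟨a, b, hab⟩ := ih (K v)
      refine ⟨-v + (s - 1) a, b, ?_⟩
      rw [map_add, ← Module.End.mul_apply h (s - 1), hch.eq, Module.End.mul_apply, pow_succ',
        Module.End.mul_apply, add_assoc, ← map_add, ← hab]
      exact h3
  have hsurj' : Function.Surjective h := by
    intro v
    obtain ⟨a, b, hab⟩ := hsurj (p - 1) v
    rw [h1, (Nat.cast_commute p h).eq, Module.End.mul_apply, ← map_add] at hab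
    exact ⟨_, hab.symm⟩
  ext v
  rw [h1]
  constructor
  · rintro ⟨w, rfl⟩
    exact ⟨h w, by rw [Module.End.mul_apply, Module.End.natCast_apply, LinearMap.smul_apply,
      Module.End.one_apply, Nat.cast_smul_eq_nsmul]⟩
  · rintro ⟨w, rfl⟩
    obtain ⟨u, rfl⟩ := hsurj' w
    exact ⟨u, by rw [Module.End.mul_apply, Module.End.natCast_apply, LinearMap.smul_apply,
      Module.End.one_apply, Nat.cast_smul_eq_nsmul]⟩

theorem herbrand (hR : Good p R) {s : Module.End R V} (hs : s ^ p = 1) :
    ∃ r0 r1 : ℕ, ((LinearMap.range (TT p s)).toAddSubgroup.relIndex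
        (LinearMap.ker (s - 1)).toAddSubgroup) ^ (p - 1) *
          Nat.card (R ⧸ Ideal.span {(p : R)}) ^ r0 =
      ((LinearMap.range (s - 1)).toAddSubgroup.relIndex
        (LinearMap.ker (TT p s)).toAddSubgroup) ^ (p - 1) *
          Nat.card (R ⧸ Ideal.span {(p : R)}) ^ ((p - 1) * r1) ∧
      LinearMap.trace R V (TT p s) = ((p * r1 : ℕ) : R) ∧ Module.finrank R V = r0 + r1 := by
  have hp := hR.prime
  have hfin := hR.fin
  set q := Nat.card (R ⧸ Ideal.span {(p : R)}) with hq
  have hqpos : 0 < q := Nat.card_pos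
  set T := TT p s with hTdef
  set D := s - 1 with hD
  have hmemD : ∀ v, v ∈ LinearMap.ker D ↔ s v = v := by
    intro v
    rw [LinearMap.mem_ker, hD, LinearMap.sub_apply, Module.End.one_apply, sub_eq_zero]
  have hTD : ∀ v, T v ∈ LinearMap.ker D := fun v => (hmemD _).2 (s_TT hs v)
  have hDT : ∀ v, D v ∈ LinearMap.ker T := fun v => LinearMap.mem_ker.2 (TT_sub hs v)
  have hTp : ∀ v ∈ LinearMap.ker D, T v = (p : R) • v := by
    intro v hv
    rw [hTdef, TT_fix ((hmemD v).1 hv), Nat.cast_smul_eq_nsmul]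
  set r1 := Module.finrank R (LinearMap.ker D) with hr1
  set r0 := Module.finrank R (LinearMap.ker T) with hr0
  -- trace
  have htr : LinearMap.trace R V T = ((p * r1 : ℕ) : R) := by
    rw [← LinearMap.trace_restrict_eq_of_forall_mem (LinearMap.ker D) T hTD]
    have h1 : T.restrict (fun x _ => hTD x : ∀ x ∈ LinearMap.ker D, T x ∈ LinearMap.ker D) =
        (p : R) • LinearMap.id := by
      ext x
      rw [LinearMap.coe_restrict_apply, hTp x x.2, LinearMap.smul_apply, Submodule.coe_smul,
        LinearMap.id_apply]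
    rw [h1, map_smul, LinearMap.trace_id, smul_eq_mul, Nat.cast_mul]
  -- rank
  have hrange : Module.finrank R (LinearMap.range T) = r1 := by
    apply le_antisymm
    · apply Submodule.finrank_mono
      rintro _ ⟨v, rfl⟩
      exact hTD v
    · let φ : LinearMap.ker D →ₗ[R] LinearMap.range T :=
        { toFun := fun v => ⟨T v, ⟨v, rfl⟩⟩
          map_add' := fun v w => Subtype.ext (by simp)
          map_smul' := fun c v => Subtype.ext (by simp) }
      apply LinearMap.finrank_le_finrank_of_injective (f := φ)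
      intro v w hvw
      have h2 : T v = T w := congrArg Subtype.val hvw
      rw [hTp v v.2, hTp w w.2] at h2
      exact Subtype.ext (smul_inj hR.ne_zero h2)
  have hrank : Module.finrank R V = r0 + r1 := by
    have h1 := Submodule.finrank_quotient_add_finrank (LinearMap.ker T)
    rw [(LinearMap.quotKerEquivRange T).finrank_eq, hrange] at h1
    omega
  -- notation for subgroups
  set kD := (LinearMap.ker D).toAddSubgroup with hkD
  set kT := (LinearMap.ker T).toAddSubgroup with hkT
  set rD := (LinearMap.range D).toAddSubgroup with hrD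
  set rT := (LinearMap.range T).toAddSubgroup with hrT
  set c := (kD ⊔ kT).index with hc
  have hrTkD : rT ≤ kD := by rintro _ ⟨v, rfl⟩; exact hTD v
  have hrDkT : rD ≤ kT := by rintro _ ⟨v, rfl⟩; exact hDT v
  -- `T (ker D) = p ker D`
  have hA1 : (kD.map T.toAddMonoidHom).relIndex rT = c := by
    have h1 : rT = (⊤ : AddSubgroup V).map T.toAddMonoidHom := by
      rw [← AddMonoidHom.range_eq_map]; rfl
    have h2 : T.toAddMonoidHom.ker = kT := rfl
    rw [h1, AddSubgroup.relIndex_map_map, h2, top_sup_eq, AddSubgroup.relIndex_top_right]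
  have hA2 : (kT.map D.toAddMonoidHom).relIndex rD = c := by
    have h1 : rD = (⊤ : AddSubgroup V).map D.toAddMonoidHom := by
      rw [← AddMonoidHom.range_eq_map]; rfl
    have h2 : D.toAddMonoidHom.ker = kD := rfl
    rw [h1, AddSubgroup.relIndex_map_map, h2, top_sup_eq, AddSubgroup.relIndex_top_right, sup_comm]
  have hB1 : (kD.map T.toAddMonoidHom).relIndex kD = q ^ r1 := by
    have h1 : (kD.map T.toAddMonoidHom) = (LinearMap.range ((p : R) • (1 : Module.End R (LinearMap.ker D)))).toAddSubgroup.map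
        (LinearMap.ker D).subtype.toAddMonoidHom := by
      ext v
      constructor
      · rintro ⟨w, hw, rfl⟩
        exact ⟨_, ⟨⟨w, hw⟩, rfl⟩, (hTp w hw).symm⟩
      · rintro ⟨_, ⟨w, rfl⟩, rfl⟩
        exact ⟨w, w.2, hTp w w.2⟩
    have h2 : kD = (⊤ : AddSubgroup (LinearMap.ker D)).map (LinearMap.ker D).subtype.toAddMonoidHom := by
      ext v
      constructor
      · intro hv; exact ⟨⟨v, hv⟩, trivial, rfl⟩
      · rintro ⟨w, -, rfl⟩; exact w.2
    conv_lhs => rw [h1]
    rw [h2, AddSubgroup.relIndex_map_map_of_injective _ _ Subtype.val_injective,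
      AddSubgroup.relIndex_top_right, index_p]
  -- on `ker T`
  let s0 : Module.End R (LinearMap.ker T) := s.restrict (fun v hv => by
    rw [LinearMap.mem_ker] at hv ⊢
    rw [hTdef, TT_s hs]; exact hv)
  have hs0T : TT p s0 = 0 := by
    ext v
    rw [TT_apply, LinearMap.zero_apply, Submodule.coe_sum, Submodule.coe_zero]
    have h1 : ∀ i, (((s0 ^ i) v : LinearMap.ker T) : V) = (s ^ i) v := by
      intro i
      induction i with
      | zero => rfl
      | succ i ih =>
        rw [pow_succ', Module.End.mul_apply, pow_succ', Module.End.mul_apply, ← ih]; rfl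
    rw [Finset.sum_congr rfl (fun i _ => h1 i), ← TT_apply]
    exact v.2
  have hD0 : ∀ v : LinearMap.ker T, (((s0 - 1) v : LinearMap.ker T) : V) = D v := fun v => rfl
  have hinj0 : Function.Injective ((s0 - 1 : Module.End R (LinearMap.ker T))) := by
    rw [injective_iff_map_eq_zero]
    intro v hv
    have h1 : D v = 0 := by rw [← hD0, hv]; rfl
    have h2 := hTp v h1
    have h3 : T v = 0 := v.2
    rw [h3] at h2
    have h4 : (p : R) • (v : V) = (p : R) • (0 : V) := by rw [← h2, smul_zero]
    exact Subtype.ext (smul_inj hR.ne_zero h4)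
  set d := (LinearMap.range (s0 - 1)).toAddSubgroup.index with hd
  have hd1 : d ^ (p - 1) = q ^ r0 := by
    rw [hd, ← index_pow hinj0, range_pow_sub hp hs0T, index_p]
  have hB2 : (kT.map D.toAddMonoidHom).relIndex kT = d := by
    have h1 : (kT.map D.toAddMonoidHom) = (LinearMap.range (s0 - 1)).toAddSubgroup.map
        (LinearMap.ker T).subtype.toAddMonoidHom := by
      ext v
      constructor
      · rintro ⟨w, hw, rfl⟩
        exact ⟨_, ⟨⟨w, hw⟩, rfl⟩, rfl⟩
      · rintro ⟨_, ⟨w, rfl⟩, rfl⟩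
        exact ⟨w, w.2, rfl⟩
    have h2 : kT = (⊤ : AddSubgroup (LinearMap.ker T)).map (LinearMap.ker T).subtype.toAddMonoidHom := by
      ext v
      constructor
      · intro hv; exact ⟨⟨v, hv⟩, trivial, rfl⟩
      · rintro ⟨w, -, rfl⟩; exact w.2
    conv_lhs => rw [h1]
    rw [h2, AddSubgroup.relIndex_map_map_of_injective _ _ Subtype.val_injective,
      AddSubgroup.relIndex_top_right]
  -- multiplicativity
  have hC1 := AddSubgroup.relIndex_mul_relIndex (kD.map T.toAddMonoidHom) rT kD
    (by rintro _ ⟨v, -, rfl⟩; exact ⟨v, rfl⟩) hrTkD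
  have hC2 := AddSubgroup.relIndex_mul_relIndex (kT.map D.toAddMonoidHom) rD kT
    (by rintro _ ⟨v, -, rfl⟩; exact ⟨v, rfl⟩) hrDkT
  rw [hA1, hB1] at hC1
  rw [hA2, hB2] at hC2
  have hc0 : 0 < c := by
    rcases Nat.eq_zero_or_pos c with h | h
    · rw [h, zero_mul] at hC1
      exact absurd hC1.symm (pow_pos hqpos _).ne'
    · exact h
  refine ⟨r0, r1, ?_, htr, hrank⟩
  have h1 : (c * rT.relIndex kD) ^ (p - 1) = q ^ ((p - 1) * r1) := by
    rw [hC1, ← pow_mul, mul_comm]
  have h2 : (c * rD.relIndex kT) ^ (p - 1) = q ^ r0 := by rw [hC2, hd1]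
  apply Nat.eq_of_mul_eq_mul_left (pow_pos hc0 (p - 1))
  calc c ^ (p - 1) * (rT.relIndex kD ^ (p - 1) * q ^ r0)
      = (c * rT.relIndex kD) ^ (p - 1) * q ^ r0 := by rw [mul_pow]; ring
    _ = (c * rD.relIndex kT) ^ (p - 1) * q ^ ((p - 1) * r1) := by rw [h1, h2, mul_comm]
    _ = _ := by rw [mul_pow]; ring

/-- sum of the traces of the nontrivial powers -/
theorem sum_trace (hp : p.Prime) (s : Module.End R V) :
    ∑ i ∈ Finset.Ico 1 p, LinearMap.trace R V (s ^ i) =
      LinearMap.trace R V (TT p s) - (Module.finrank R V : R) := by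
  rw [TT, map_sum, Finset.range_eq_Ico, Finset.sum_eq_sum_Ico_succ_bot hp.pos, pow_zero,
    LinearMap.trace_one]
  ring

theorem trace_zero (hR : Good p R) {s : Module.End R V} (hs : s ^ p = 1)
    (h1 : ∀ v, s v = v → ∃ w, v = TT p s w) (h2 : ∀ v, TT p s v = 0 → ∃ w, v = s w - w) :
    ∑ i ∈ Finset.Ico 1 p, LinearMap.trace R V (s ^ i) = 0 := by
  obtain ⟨r0, r1, h3, h4, h5⟩ := herbrand hR hs
  have hfin := hR.fin
  have hp := hR.prime
  have : Nontrivial (R ⧸ Ideal.span {(p : R)}) := Ideal.Quotient.nontrivial_iff.2 (by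
    rw [Ne, Ideal.span_singleton_eq_top]; exact hR.not_unit)
  have hq : 1 < Nat.card (R ⧸ Ideal.span {(p : R)}) := Finite.one_lt_card
  have e1 : (LinearMap.range (TT p s)).toAddSubgroup.relIndex (LinearMap.ker (s - 1)).toAddSubgroup = 1 := by
    rw [AddSubgroup.relIndex_eq_one]
    intro v hv
    have hv' : s v = v := by
      have : (s - 1) v = 0 := hv
      rwa [LinearMap.sub_apply, Module.End.one_apply, sub_eq_zero] at this
    obtain ⟨w, hw⟩ := h1 v hv'
    exact ⟨w, hw.symm⟩
  have e2 : (LinearMap.range (s - 1)).toAddSubgroup.relIndex (LinearMap.ker (TT p s)).toAddSubgroup = 1 := by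
    rw [AddSubgroup.relIndex_eq_one]
    intro v hv
    obtain ⟨w, hw⟩ := h2 v hv
    exact ⟨w, hw.symm⟩
  rw [e1, e2, one_pow, one_mul, one_mul] at h3
  have h6 := Nat.pow_right_injective hq h3
  rw [sum_trace hp, h4, h5, h6]
  obtain ⟨m, rfl⟩ : ∃ m, p = m + 1 := ⟨p - 1, by have := hp.two_le; omega⟩
  push_cast
  ring

omit [IsPrincipalIdealRing R] [Module.Finite R V] [Module.Free R V] in
/-- a cyclic quotient killed by `p` has order `q` -/
theorem relIndex_cyclic (hR : Good p R) (X Y : Submodule R V) {v : V} (hv : v ∈ X) (hvY : v ∉ Y)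
    (hpX : ∀ u ∈ X, (p : R) • u ∈ Y) (hgen : ∀ u ∈ X, ∃ r : R, u - r • v ∈ Y) :
    Y.toAddSubgroup.relIndex X.toAddSubgroup = Nat.card (R ⧸ Ideal.span {(p : R)}) := by
  -- the map `R → X / Y`
  have hmod : ∀ r : R, r • v ∈ Y ↔ (p : R) ∣ r := by
    intro r
    constructor
    · intro hr
      rcases hR.loc r with h | h
      · exfalso
        apply hvY
        obtain ⟨u, hu⟩ := h
        have h1 := Y.smul_mem (↑u⁻¹ : R) hr
        rwa [smul_smul, ← hu, Units.inv_mul, one_smul] at h1
      · exact h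
    · rintro ⟨c, rfl⟩
      rw [mul_comm, mul_smul]
      exact Y.smul_mem _ (hpX v hv)
  let f : R →+ X ⧸ (Y.toAddSubgroup.addSubgroupOf X.toAddSubgroup) :=
    (QuotientAddGroup.mk' _).comp
      { toFun := fun r => (⟨r • v, X.smul_mem r hv⟩ : X.toAddSubgroup)
        map_zero' := Subtype.ext (by simp)
        map_add' := fun a b => Subtype.ext (by simp [add_smul]) }
  have hf : ∀ r, f r = 0 ↔ (p : R) ∣ r := by
    intro r
    rw [← hmod]
    exact QuotientAddGroup.eq_zero_iff _
  have hsurj : Function.Surjective f := by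
    intro y
    obtain ⟨⟨u, hu⟩, rfl⟩ := QuotientAddGroup.mk'_surjective _ y
    obtain ⟨r, hr⟩ := hgen u hu
    refine ⟨r, ?_⟩
    change (QuotientAddGroup.mk' _ _ : X ⧸ (Y.toAddSubgroup.addSubgroupOf X.toAddSubgroup)) = _
    rw [QuotientAddGroup.mk'_eq_mk']
    refine ⟨⟨u - r • v, X.sub_mem hu (X.smul_mem r hv)⟩, hr, ?_⟩
    exact Subtype.ext (by simp)
  have hker : f.ker = (Ideal.span {(p : R)}).toAddSubgroup := by
    ext r
    rw [AddMonoidHom.mem_ker, hf]
    exact Ideal.mem_span_singleton.symm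
  have h1 : Nat.card (R ⧸ f.ker) = Nat.card (X ⧸ (Y.toAddSubgroup.addSubgroupOf X.toAddSubgroup)) :=
    Nat.card_congr (QuotientAddGroup.quotientKerEquivOfSurjective f hsurj).toEquiv
  rw [hker] at h1
  rw [AddSubgroup.relIndex, AddSubgroup.index]
  exact h1.symm

theorem trace_one_case (hR : Good p R) {s : Module.End R V} (hs : s ^ p = 1) {v : V} (hv : s v = v)
    (hvT : ∀ w, v ≠ TT p s w)
    (h1 : ∀ u, s u = u → ∃ (r : R) (w : V), u - r • v = TT p s w)
    (h2 : ∀ v, TT p s v = 0 → ∃ w, v = s w - w) :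
    ∑ i ∈ Finset.Ico 1 p, LinearMap.trace R V (s ^ i) = (p : R) - 1 := by
  obtain ⟨r0, r1, h3, h4, h5⟩ := herbrand hR hs
  have hfin := hR.fin
  have hp := hR.prime
  have : Nontrivial (R ⧸ Ideal.span {(p : R)}) := Ideal.Quotient.nontrivial_iff.2 (by
    rw [Ne, Ideal.span_singleton_eq_top]; exact hR.not_unit)
  have hq : 1 < Nat.card (R ⧸ Ideal.span {(p : R)}) := Finite.one_lt_card
  have hmem : ∀ u, u ∈ LinearMap.ker (s - 1) ↔ s u = u := by
    intro u
    rw [LinearMap.mem_ker, LinearMap.sub_apply, Module.End.one_apply, sub_eq_zero]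
  have e1 : (LinearMap.range (TT p s)).toAddSubgroup.relIndex (LinearMap.ker (s - 1)).toAddSubgroup =
      Nat.card (R ⧸ Ideal.span {(p : R)}) := by
    apply relIndex_cyclic hR _ _ ((hmem v).2 hv)
    · rintro ⟨w, hw⟩; exact hvT w hw.symm
    · intro u hu
      exact ⟨u, by rw [TT_fix ((hmem u).1 hu), Nat.cast_smul_eq_nsmul]⟩
    · intro u hu
      obtain ⟨r, w, hw⟩ := h1 u ((hmem u).1 hu)
      exact ⟨r, ⟨w, hw.symm⟩⟩
  have e2 : (LinearMap.range (s - 1)).toAddSubgroup.relIndex (LinearMap.ker (TT p s)).toAddSubgroup = 1 := by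
    rw [AddSubgroup.relIndex_eq_one]
    intro v hv
    obtain ⟨w, hw⟩ := h2 v hv
    exact ⟨w, hw.symm⟩
  rw [e1, e2, one_pow, one_mul, ← pow_add] at h3
  have h6 := Nat.pow_right_injective hq h3
  rw [sum_trace hp, h4, h5]
  obtain ⟨m, rfl⟩ : ∃ m, p = m + 1 := ⟨p - 1, by have := hp.two_le; omega⟩
  rw [show m + 1 - 1 = m by omega] at h6
  have h7 : (m : R) + r0 = m * r1 := by exact_mod_cast congrArg (Nat.cast (R := R)) h6
  push_cast
  linear_combination -h7

theorem trace_neg_case (hR : Good p R) {s : Module.End R V} (hs : s ^ p = 1) {v : V}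
    (hv : TT p s v = 0) (hvT : ∀ w, v ≠ s w - w)
    (h1 : ∀ v, s v = v → ∃ w, v = TT p s w)
    (h2 : ∀ u, TT p s u = 0 → ∃ (r : R) (w : V), u - r • v = s w - w) :
    ∑ i ∈ Finset.Ico 1 p, LinearMap.trace R V (s ^ i) = -((p : R) - 1) := by
  obtain ⟨r0, r1, h3, h4, h5⟩ := herbrand hR hs
  have hfin := hR.fin
  have hp := hR.prime
  have : Nontrivial (R ⧸ Ideal.span {(p : R)}) := Ideal.Quotient.nontrivial_iff.2 (by
    rw [Ne, Ideal.span_singleton_eq_top]; exact hR.not_unit)
  have hq : 1 < Nat.card (R ⧸ Ideal.span {(p : R)}) := Finite.one_lt_card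
  have hmem : ∀ u, u ∈ LinearMap.ker (s - 1) ↔ s u = u := by
    intro u
    rw [LinearMap.mem_ker, LinearMap.sub_apply, Module.End.one_apply, sub_eq_zero]
  have e1 : (LinearMap.range (TT p s)).toAddSubgroup.relIndex (LinearMap.ker (s - 1)).toAddSubgroup = 1 := by
    rw [AddSubgroup.relIndex_eq_one]
    intro v hv
    obtain ⟨w, hw⟩ := h1 v ((hmem v).1 hv)
    exact ⟨w, hw.symm⟩
  have e2 : (LinearMap.range (s - 1)).toAddSubgroup.relIndex (LinearMap.ker (TT p s)).toAddSubgroup =
      Nat.card (R ⧸ Ideal.span {(p : R)}) := by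
    apply relIndex_cyclic hR _ _ (LinearMap.mem_ker.2 hv)
    · rintro ⟨w, hw⟩; exact hvT w hw.symm
    · intro u hu
      obtain ⟨w, hw⟩ := (kills_p (p := p) (s := s)).2 u hu
      refine ⟨w, ?_⟩
      rw [LinearMap.sub_apply, Module.End.one_apply, ← hw, Module.End.natCast_apply,
        Nat.cast_smul_eq_nsmul]
    · intro u hu
      obtain ⟨r, w, hw⟩ := h2 u hu
      exact ⟨r, ⟨w, hw.symm⟩⟩
  rw [e1, e2, one_pow, one_mul, ← pow_add] at h3
  have h6 := Nat.pow_right_injective hq h3
  rw [sum_trace hp, h4, h5]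
  obtain ⟨m, rfl⟩ : ∃ m, p = m + 1 := ⟨p - 1, by have := hp.two_le; omega⟩
  rw [show m + 1 - 1 = m by omega] at h6
  have h7 : (r0 : R) = m + m * r1 := by exact_mod_cast congrArg (Nat.cast (R := R)) h6
  push_cast
  linear_combination -h7

end herbrand

end H67.Lat
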