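import Mathlib
import Cfsg.Agent.Lib.H67.LatCoreN
import Cfsg.Agent.Lib.H67.LatTrace
import Cfsg.Agent.Lib.H67.LatUnits

set_option autoImplicit false

/-! The trace theorem for indecomposable lattices, for an arbitrary irreducible representation of the
`p`-complement of the centralizer. -/

namespace H67.Lat

open Finset

variable {p : ℕ} {R : Type*} [CommRing R] [IsDomain R] [IsPrincipalIdealRing R] [CharZero R] {n : ℕ}
variable {G : Type*} [Group G] [Finite G]

omit [IsDomain R] [IsPrincipalIdealRing R] [CharZero R] [Finite G] in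
theorem trace_rho_conj {V : Type*} [AddCommGroup V] [Module R V] (ρ : Representation R G V) (g h : G) :
    LinearMap.trace R V (ρ (h * g * h⁻¹)) = LinearMap.trace R V (ρ g) := by
  have e : ρ (h * g * h⁻¹) = ρ h * (ρ g * ρ h⁻¹) := by rw [← map_mul, ← map_mul, mul_assoc]
  rw [e, LinearMap.trace_mul_comm]
  have e2 : ρ g * ρ h⁻¹ * ρ h = ρ g := by
    rw [mul_assoc, ← map_mul ρ, inv_mul_cancel, map_one, mul_one]
  rw [e2]

omit [IsDomain R] [IsPrincipalIdealRing R] [CharZero R] in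
/-- a vector with a nonzero component -/
theorem exists_component {N : Type*} [Group N] [Fintype N] {V : Type*} [AddCommGroup V] [Module R V]
    (τ : N →* Module.End R V) {κ : Type*} [Fintype κ] (S : κ → MatSys N R) (c : κ → R)
    (hN : IsUnit (Fintype.card N : R)) (hc : ∀ i, c i * (Fintype.card N : R) = (S i).d)
    (hcomp1 : ∑ i, ((S i).d : R) * ((S i).M 1).trace = (Fintype.card N : R))
    (hcomp : ∀ g : N, g ≠ 1 → ∑ i, ((S i).d : R) * ((S i).M g).trace = 0)
    (v : V) : ∑ i, ∑ j, (S i).E τ (c i) j j v = v := by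
  classical
  have h1 : ∀ i, ∑ j, (S i).E τ (c i) j j v = ∑ g : N, (c i * ((S i).M g⁻¹).trace) • τ g v := by
    intro i
    have h2 : ∀ j, (S i).E τ (c i) j j v = ∑ g : N, (c i * (S i).M g⁻¹ j j) • τ g v := by
      intro j
      rw [MatSys.E_apply, Finset.smul_sum]
      exact Finset.sum_congr rfl (fun g _ => by rw [smul_smul])
    rw [Finset.sum_congr rfl (fun j _ => h2 j), Finset.sum_comm]
    refine Finset.sum_congr rfl (fun g _ => ?_)
    rw [← Finset.sum_smul, ← Finset.mul_sum]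
    rfl
  rw [Finset.sum_congr rfl (fun i _ => h1 i), Finset.sum_comm]
  have h3 : ∀ g : N, ∑ i, (c i * ((S i).M g⁻¹).trace) • τ g v =
      (if g = 1 then (1 : R) else 0) • τ g v := by
    intro g
    rw [← Finset.sum_smul]
    congr 1
    apply hN.mul_left_cancel
    rw [Finset.mul_sum]
    have h4 : ∀ i, (Fintype.card N : R) * (c i * ((S i).M g⁻¹).trace) =
        ((S i).d : R) * ((S i).M g⁻¹).trace := by
      intro i
      rw [← hc i]; ring
    rw [Finset.sum_congr rfl (fun i _ => h4 i)]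
    by_cases hg : g = 1
    · rw [if_pos hg, mul_one, hg, inv_one, hcomp1]
    · rw [hcomp _ (fun h => hg (inv_eq_one.1 h)), if_neg hg, mul_zero]
  rw [Finset.sum_congr rfl (fun g _ => h3 g), Finset.sum_eq_single (1 : N)]
  · rw [if_pos rfl, one_smul, map_one, Module.End.one_apply]
  · intro g _ hg
    rw [if_neg hg, zero_smul]
  · intro h; exact absurd (mem_univ _) h

/-- Traces of an indecomposable lattice against an irreducible representation of the `p`-complement
of the centralizer. -/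
theorem indec_trace_theta (hR : Good p R) (ρ : Representation R G (Fin n → R)) (hind : Indec ρ) {σ : G}
    (hσ : orderOf σ = p) (N₀ : Subgroup G) [Fintype N₀]
    (hN₀ : N₀ ≤ Subgroup.normalizer (Subgroup.zpowers σ : Set G))
    (hsup : ∀ g ∈ Subgroup.normalizer (Subgroup.zpowers σ : Set G), ∃ x ∈ N₀,
      ∃ y ∈ Subgroup.zpowers σ, g = x * y) (hdisj : N₀ ⊓ Subgroup.zpowers σ = ⊥)
    (hNp : IsUnit (Fintype.card N₀ : R))
    {κ : Type*} [Fintype κ] (S : κ → MatSys N₀ R) (hSd : ∀ i, IsUnit ((S i).d : R))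
    (hcomp1 : ∑ i, ((S i).d : R) * ((S i).M 1).trace = (Fintype.card N₀ : R))
    (hcomp : ∀ g : N₀, g ≠ 1 → ∑ i, ((S i).d : R) * ((S i).M g).trace = 0)
    (W : Subgroup G) [Fintype W] (hWN : W ≤ N₀) (hWc : ∀ u ∈ W, u * σ = σ * u)
    (hWp : IsUnit (Fintype.card W : R))
    (T : MatSys W R) (hTd : IsUnit (T.d : R))
    (hmult : ∀ i, ∑ w : W, (T.M w⁻¹).trace * ((S i).M (Subgroup.inclusion hWN w)).trace = 0 ∨
      ∑ w : W, (T.M w⁻¹).trace * ((S i).M (Subgroup.inclusion hWN w)).trace = (Fintype.card W : R)) :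
    (∑ i ∈ Finset.Ico 1 p, ∑ u : W, (T.M u⁻¹).trace * LinearMap.trace R _ (ρ (σ ^ i * u)) = 0) ∨
    (∑ i ∈ Finset.Ico 1 p, ∑ u : W, (T.M u⁻¹).trace * LinearMap.trace R _ (ρ (σ ^ i * u)) =
      (Fintype.card W : R) * ((p : R) - 1)) ∨
    (∑ i ∈ Finset.Ico 1 p, ∑ u : W, (T.M u⁻¹).trace * LinearMap.trace R _ (ρ (σ ^ i * u)) =
      -((Fintype.card W : R) * ((p : R) - 1))) := by
  classical
  have hp := hR.prime
  have hppos := hp.pos
  have hσp : σ ^ p = 1 := by rw [← hσ, pow_orderOf_eq_one]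
  set s := ρ σ with hsdef
  have hs : s ^ p = 1 := by rw [hsdef, ← map_pow, hσp, map_one]
  set V := Fin n → R
  -- submodules
  set XF : Submodule R V := LinearMap.ker (s - 1) with hXF
  set YT : Submodule R V := LinearMap.range (TT p s) with hYT
  set XK : Submodule R V := LinearMap.ker (TT p s) with hXK
  set YD : Submodule R V := LinearMap.range (s - 1) with hYD
  have mXF : ∀ u, u ∈ XF ↔ s u = u := by
    intro u
    rw [hXF, LinearMap.mem_ker, LinearMap.sub_apply, Module.End.one_apply, sub_eq_zero]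
  have mXK : ∀ u, u ∈ XK ↔ TT p s u = 0 := fun u => LinearMap.mem_ker
  have mYT : ∀ u, u ∈ YT ↔ ∃ w, u = TT p s w := by
    intro u; constructor
    · rintro ⟨w, rfl⟩; exact ⟨w, rfl⟩
    · rintro ⟨w, rfl⟩; exact ⟨w, rfl⟩
  have mYD : ∀ u, u ∈ YD ↔ ∃ w, u = s w - w := by
    intro u; constructor
    · rintro ⟨w, rfl⟩; exact ⟨w, rfl⟩
    · rintro ⟨w, rfl⟩; exact ⟨w, rfl⟩
  have hk1 : ∀ a, Kills p s a ↔ (∀ u ∈ XF, a u ∈ YT) ∧ ∀ u ∈ XK, a u ∈ YD := by
    intro a
    constructor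
    · rintro ⟨h1, h2⟩
      exact ⟨fun u hu => (mYT _).2 (h1 u ((mXF u).1 hu)), fun u hu => (mYD _).2 (h2 u ((mXK u).1 hu))⟩
    · rintro ⟨h1, h2⟩
      exact ⟨fun u hu => (mYT _).1 (h1 u ((mXF u).2 hu)), fun u hu => (mYD _).1 (h2 u ((mXK u).2 hu))⟩
  have hk2 : ∀ a, Kills p s a ↔ (∀ u ∈ XK, a u ∈ YD) ∧ ∀ u ∈ XF, a u ∈ YT := by
    intro a; rw [hk1, and_comm]
  -- stability
  have cYT : ∀ b, Commute b s → ∀ u ∈ YT, b u ∈ YT := by
    rintro b hb _ ⟨w, rfl⟩
    exact ⟨b w, (comm_TT hb w).symm⟩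
  have cYD : ∀ b, Commute b s → ∀ u ∈ YD, b u ∈ YD := by
    intro b hb u hu
    obtain ⟨w, rfl⟩ := (mYD u).1 hu
    exact (mYD _).2 ⟨b w, by rw [map_sub, comm_s hb]⟩
  have nT : ∀ g ∈ Subgroup.normalizer (Subgroup.zpowers σ : Set G), ∀ u, ρ g (TT p s u) = TT p s (ρ g u) :=
    fun g hg u => TT_normalizer ρ hσ hg u
  have nXK : ∀ g ∈ Subgroup.normalizer (Subgroup.zpowers σ : Set G), ∀ u ∈ XK, ρ g u ∈ XK := by
    intro g hg u hu
    rw [mXK] at hu ⊢
    rw [← nT g hg, hu, map_zero]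
  have nYT : ∀ g ∈ Subgroup.normalizer (Subgroup.zpowers σ : Set G), ∀ u ∈ YT, ρ g u ∈ YT := by
    rintro g hg _ ⟨w, rfl⟩
    exact ⟨ρ g w, (nT g hg w).symm⟩
  -- conjugates of `σ` are powers
  have hconj : ∀ g ∈ Subgroup.normalizer (Subgroup.zpowers σ : Set G), ∃ k : ℕ, σ * g = g * σ ^ k := by
    intro g hg
    have h1 := (Subgroup.mem_normalizer_iff.1 (inv_mem hg) σ).1 (Subgroup.mem_zpowers σ)
    obtain ⟨k, hk⟩ := mem_powers_iff_mem_zpowers.2 h1
    have hk : σ ^ k = g⁻¹ * σ * g⁻¹⁻¹ := hk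
    exact ⟨k, by rw [hk]; group⟩
  have hconj' : ∀ g ∈ Subgroup.normalizer (Subgroup.zpowers σ : Set G), ∃ k : ℕ, g * σ = σ ^ k * g := by
    intro g hg
    have h1 := (Subgroup.mem_normalizer_iff.1 hg σ).1 (Subgroup.mem_zpowers σ)
    obtain ⟨k, hk⟩ := mem_powers_iff_mem_zpowers.2 h1
    have hk : σ ^ k = g * σ * g⁻¹ := hk
    exact ⟨k, by rw [hk]; group⟩
  have nXF : ∀ g ∈ Subgroup.normalizer (Subgroup.zpowers σ : Set G), ∀ u ∈ XF, ρ g u ∈ XF := by
    intro g hg u hu
    rw [mXF] at hu ⊢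
    obtain ⟨k, hk⟩ := hconj g hg
    rw [hsdef, ← Module.End.mul_apply, ← map_mul, hk, map_mul, Module.End.mul_apply, map_pow,
      pow_fix hu]
  have nYD : ∀ g ∈ Subgroup.normalizer (Subgroup.zpowers σ : Set G), ∀ u ∈ YD, ρ g u ∈ YD := by
    intro g hg u hu
    obtain ⟨w, rfl⟩ := (mYD u).1 hu
    obtain ⟨k, hk⟩ := hconj' g hg
    rw [map_sub, hsdef, ← Module.End.mul_apply, ← map_mul, hk, map_mul, Module.End.mul_apply, map_pow]
    exact (mYD _).2 (exists_pow_sub k (ρ g w))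
  -- matrix units of the complement
  let τ : N₀ →* Module.End R V := (ρ : G →* Module.End R V).comp N₀.subtype
  have hτ : ∀ (x : N₀) (u : V), τ x u = ρ (x : G) u := fun x u => rfl
  obtain ⟨uN, huN⟩ := hNp
  let c : κ → R := fun i => ((S i).d : R) * ↑uN⁻¹
  have hc : ∀ i, c i * (Fintype.card N₀ : R) = (S i).d := by
    intro i
    change ((S i).d : R) * ↑uN⁻¹ * (Fintype.card N₀ : R) = _
    rw [← huN, mul_assoc, Units.inv_mul, mul_one]
  have hNu : IsUnit (Fintype.card N₀ : R) := ⟨uN, huN⟩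
  -- averaging over `W`
  let τW : W →* Module.End R V := (ρ : G →* Module.End R V).comp W.subtype
  have hτW : ∀ (x : W) (u : V), τW x u = ρ (x : G) u := fun x u => rfl
  obtain ⟨uW, huW⟩ := hWp
  set cW : R := (T.d : R) * ↑uW⁻¹ with hcW
  have hcW' : cW * (Fintype.card W : R) = T.d := by
    rw [hcW, ← huW, mul_assoc, Units.inv_mul, mul_one]
  have hWu : IsUnit (Fintype.card W : R) := ⟨uW, huW⟩
  have hT0 : 0 < T.d := by
    rcases Nat.eq_zero_or_pos T.d with h | h
    · rw [h, Nat.cast_zero] at hTd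
      exact absurd hTd not_isUnit_zero
    · exact h
  let j0 : Fin T.d := ⟨0, hT0⟩
  set eW : Module.End R V := T.E τW cW j0 j0 with heW
  have eW_apply : ∀ v, eW v = cW • ∑ u : W, (T.M u⁻¹ j0 j0) • ρ (u : G) v := by
    intro v; rw [heW, MatSys.E_apply]; rfl
  have eW_idem : ∀ v, eW (eW v) = eW v := by
    intro v
    rw [heW, T.E_E τW hcW' hTd hWu, if_pos rfl]
  have eW_s : Commute eW s := by
    rw [commute_iff_eq]
    refine LinearMap.ext (fun v => ?_)
    rw [Module.End.mul_apply, Module.End.mul_apply, eW_apply, eW_apply, map_smul, map_sum]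
    congr 1
    refine Finset.sum_congr rfl (fun u _ => ?_)
    rw [map_smul, hsdef, ← Module.End.mul_apply, ← Module.End.mul_apply, ← map_mul, ← map_mul,
      hWc u.1 u.2]
  have hWnorm : ∀ u ∈ W, u ∈ Subgroup.normalizer (Subgroup.zpowers σ : Set G) :=
    fun u hu => hN₀ (hWN hu)
  have eW_Y : ∀ Y : Submodule R V, (∀ g ∈ Subgroup.normalizer (Subgroup.zpowers σ : Set G),
      ∀ u ∈ Y, ρ g u ∈ Y) → ∀ u ∈ Y, eW u ∈ Y := by
    intro Y hY u hu
    rw [eW_apply]
    exact Y.smul_mem _ (Y.sum_mem (fun w _ => Y.smul_mem _ (hY _ (hWnorm _ w.2) u hu)))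
  set M : Submodule R V := LinearMap.range eW with hM
  have mM : ∀ v, v ∈ M → eW v = v := by
    rintro _ ⟨v, rfl⟩
    exact eW_idem v
  let sM : Module.End R M := s.restrict (fun v hv => by
    obtain ⟨w, rfl⟩ := hv
    exact ⟨s w, comm_s eW_s w⟩)
  have sM_pow : ∀ (i : ℕ) (v : M), (((sM ^ i) v : M) : V) = (s ^ i) v := by
    intro i v
    induction i with
    | zero => rfl
    | succ i ih =>
      rw [pow_succ', Module.End.mul_apply, pow_succ', Module.End.mul_apply, ← ih]; rfl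
  have sM_TT : ∀ v : M, ((TT p sM v : M) : V) = TT p s v := by
    intro v
    rw [TT_apply, TT_apply, Submodule.coe_sum]
    exact Finset.sum_congr rfl (fun i _ => sM_pow i v)
  have hsM : sM ^ p = 1 := by
    ext v
    rw [sM_pow, hs]; rfl
  have sM_apply : ∀ v : M, ((sM v : M) : V) = s v := fun v => rfl
  -- the trace
  have hW0 : (Fintype.card W : R) ≠ 0 := hWu.ne_zero
  have htrace : ∑ i ∈ Finset.Ico 1 p, ∑ u : W, (T.M u⁻¹).trace * LinearMap.trace R _ (ρ (σ ^ i * u)) =
      (Fintype.card W : R) * ∑ i ∈ Finset.Ico 1 p, LinearMap.trace R M (sM ^ i) := by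
    rw [Finset.mul_sum]
    refine Finset.sum_congr rfl (fun i _ => ?_)
    have h1 : LinearMap.trace R M (sM ^ i) = LinearMap.trace R V (s ^ i * eW) := by
      have hmem : ∀ v, (s ^ i * eW) v ∈ M := by
        intro v
        rw [Module.End.mul_apply]
        exact ⟨(s ^ i) v, by
          rw [← Module.End.mul_apply, (eW_s.pow_right i).eq, Module.End.mul_apply]⟩
      rw [← LinearMap.trace_restrict_eq_of_forall_mem M (s ^ i * eW) hmem]
      congr 1
      ext v
      rw [sM_pow, LinearMap.coe_restrict_apply, Module.End.mul_apply, mM v v.2]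
    have h2 : LinearMap.trace R V (s ^ i * eW) =
        cW * ∑ u : W, T.M u⁻¹ j0 j0 * LinearMap.trace R V (ρ (σ ^ i * u)) := by
      rw [heW, MatSys.E, mul_smul_comm, map_smul, smul_eq_mul, Finset.mul_sum, map_sum]
      congr 1
      refine Finset.sum_congr rfl (fun u _ => ?_)
      have e1 : s ^ i * τW u = ρ (σ ^ i * u) := by rw [map_mul, map_pow]; rfl
      rw [mul_smul_comm, map_smul, smul_eq_mul, e1]
    have h3 := T.avg_class hW0 (fun u : W => LinearMap.trace R V (ρ (σ ^ i * u))) (by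
      intro g h
      have hcomm : (h : G) * σ ^ i = σ ^ i * h := by
        have : Commute (h : G) σ := hWc h.1 h.2
        exact (this.pow_right i).eq
      have e1 : σ ^ i * ((h * g * h⁻¹ : W) : G) = (h : G) * (σ ^ i * g) * (h : G)⁻¹ := by
        rw [Subgroup.coe_mul, Subgroup.coe_mul, Subgroup.coe_inv]
        calc σ ^ i * ((h : G) * g * (h : G)⁻¹) = (σ ^ i * h) * g * (h : G)⁻¹ := by group
          _ = _ := by rw [← hcomm]; group
      change LinearMap.trace R V (ρ (σ ^ i * ((h * g * h⁻¹ : W) : G))) = _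
      rw [e1, trace_rho_conj]) j0
    rw [← h3, h1, h2, ← mul_assoc, mul_comm (Fintype.card W : R) cW, hcW']
  -- the key fact about the image
  have hkey : ∀ (i : κ) (j : Fin (S i).d) (v0 : V), ∃ z ∈ Submodule.span R
      (Set.range (fun a => (S i).E τ (c i) a j v0)), ∀ y : N₀, ∃ r : R,
      eW (ρ (y : G) ((S i).E τ (c i) j j v0)) = r • z := by
    intro i j v0
    -- the matrix of `eW`
    let ΨW : W →* Matrix (Fin (S i).d) (Fin (S i).d) R := (S i).M.comp (Subgroup.inclusion hWN)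
    set J : Matrix (Fin (S i).d) (Fin (S i).d) R := cW • ∑ w : W, (T.M w⁻¹ j0 j0) • ΨW w with hJdef
    -- `J` is idempotent, by viewing matrices as endomorphisms
    have hJJ : J * J = J := by
      let τJ : W →* Module.End R (Matrix (Fin (S i).d) (Fin (S i).d) R) :=
        { toFun := fun w => LinearMap.mulLeft R (ΨW w)
          map_one' := by
            refine LinearMap.ext (fun x => ?_)
            rw [LinearMap.mulLeft_apply, map_one, one_mul]; rfl
          map_mul' := fun a b => by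
            refine LinearMap.ext (fun x => ?_)
            rw [Module.End.mul_apply, LinearMap.mulLeft_apply, LinearMap.mulLeft_apply,
              LinearMap.mulLeft_apply, map_mul, mul_assoc] }
      have hJap : ∀ X, T.E τJ cW j0 j0 X = J * X := by
        intro X
        rw [MatSys.E_apply, hJdef, smul_mul_assoc, Finset.sum_mul]
        congr 1
        refine Finset.sum_congr rfl (fun w _ => ?_)
        rw [smul_mul_assoc]; rfl
      have h1 := T.E_E τJ hcW' hTd hWu j0 j0 j0 j0 (1 : Matrix (Fin (S i).d) (Fin (S i).d) R)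
      rw [if_pos rfl, hJap, hJap, mul_one] at h1
      exact h1
    have hJtr : J.trace = 0 ∨ J.trace = 1 := by
      have h1 : J.trace = cW * ∑ w : W, T.M w⁻¹ j0 j0 * (ΨW w).trace := by
        rw [hJdef, Matrix.trace_smul, Matrix.trace_sum, smul_eq_mul]
        congr 1
        refine Finset.sum_congr rfl (fun w _ => ?_)
        rw [Matrix.trace_smul, smul_eq_mul]
      have h2 := T.avg_class hW0 (fun w : W => (ΨW w).trace) (by
        intro g h
        change (ΨW (h * g * h⁻¹)).trace = (ΨW g).trace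
        rw [map_mul, map_mul, Matrix.trace_mul_comm, ← mul_assoc, ← map_mul, inv_mul_cancel, map_one,
          one_mul]) j0
      have h3 : (Fintype.card W : R) * J.trace = ∑ w : W, (T.M w⁻¹).trace * (ΨW w).trace := by
        rw [← h2, h1, ← mul_assoc, mul_comm (Fintype.card W : R) cW, hcW']
      rcases hmult i with h | h
      · left
        have : (Fintype.card W : R) * J.trace = (Fintype.card W : R) * 0 := by
          rw [h3, mul_zero]; exact h
        exact mul_left_cancel₀ hW0 this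
      · right
        have : (Fintype.card W : R) * J.trace = (Fintype.card W : R) * 1 := by
          rw [h3, mul_one]; exact h
        exact mul_left_cancel₀ hW0 this
    obtain ⟨sv, tv, hst⟩ := exists_rank_one J hJJ hJtr
    refine ⟨∑ b, sv b • (S i).E τ (c i) b j v0, ?_, ?_⟩
    · exact Submodule.sum_mem _ (fun b _ => Submodule.smul_mem _ _ (Submodule.subset_span ⟨b, rfl⟩))
    · -- action of `eW` on the matrix units
      have h1 : ∀ a, eW ((S i).E τ (c i) a j v0) = tv a • ∑ b, sv b • (S i).E τ (c i) b j v0 := by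
        intro a
        rw [eW_apply]
        have h2 : ∀ w : W, (T.M w⁻¹ j0 j0) • ρ (w : G) ((S i).E τ (c i) a j v0) =
            ∑ b, (T.M w⁻¹ j0 j0 * ΨW w b a) • (S i).E τ (c i) b j v0 := by
          intro w
          have h3 := (S i).tau_E τ (c i) a j (Subgroup.inclusion hWN w) v0
          have h4 : ρ (w : G) ((S i).E τ (c i) a j v0) = τ (Subgroup.inclusion hWN w) ((S i).E τ (c i) a j v0) := rfl
          rw [h4, h3, Finset.smul_sum]
          refine Finset.sum_congr rfl (fun b _ => ?_)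
          rw [smul_smul]; rfl
        rw [Finset.sum_congr rfl (fun w _ => h2 w), Finset.sum_comm, Finset.smul_sum, Finset.smul_sum]
        refine Finset.sum_congr rfl (fun b _ => ?_)
        rw [← Finset.sum_smul, smul_smul, smul_smul]
        congr 1
        have h5 := hst b a
        rw [hJdef, Matrix.smul_apply, Matrix.sum_apply, smul_eq_mul] at h5
        rw [mul_comm (tv a), ← h5]
        congr 1
      intro y
      have h2 := (S i).tau_E τ (c i) j j y v0
      have h4 : ρ (y : G) ((S i).E τ (c i) j j v0) = τ y ((S i).E τ (c i) j j v0) := rfl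
      refine ⟨∑ a, (S i).M y a j * tv a, ?_⟩
      rw [h4, h2, map_sum, Finset.sum_smul]
      refine Finset.sum_congr rfl (fun a _ => ?_)
      rw [map_smul, h1, smul_smul]
  -- the main step
  have hmain : ∀ (X Y X' Y' : Submodule R V)
      (_ : ∀ a, Kills p s a ↔ (∀ u ∈ X, a u ∈ Y) ∧ ∀ u ∈ X', a u ∈ Y')
      (_ : ∀ b, Commute b s → ∀ u ∈ Y, b u ∈ Y) (_ : ∀ b, Commute b s → ∀ u ∈ Y', b u ∈ Y')
      (_ : ∀ g ∈ Subgroup.normalizer (Subgroup.zpowers σ : Set G), ∀ u ∈ X, ρ g u ∈ X)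
      (_ : ∀ g ∈ Subgroup.normalizer (Subgroup.zpowers σ : Set G), ∀ u ∈ Y, ρ g u ∈ Y)
      (_ : ∀ g ∈ Subgroup.normalizer (Subgroup.zpowers σ : Set G), ∀ u ∈ X', ρ g u ∈ X')
      (_ : ∀ v ∈ X, v ∉ Y → ∃ (a : Module.End R V) (f : V →ₗ[R] R), Commute a s ∧
        (∀ u ∈ X, a u - f u • v ∈ Y) ∧ (∀ u ∈ X', a u = 0) ∧ f v = 1 ∧ ∀ u ∈ Y, (p : R) ∣ f u),
      (∃ v0 ∈ X, v0 ∉ Y) → (∀ u ∈ X', u ∈ Y') ∧ ∃ z ∈ X, eW z = z ∧
        ∀ u ∈ X, eW u = u → ∃ r : R, u - r • z ∈ Y := by
    rintro X Y X' Y' hkill hY hY' hNX hNY hNX' hdual ⟨v0, hv0, hv0Y⟩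
    -- a component outside `Y`
    have hEX : ∀ (i : κ) (a j : Fin (S i).d) (u : V), u ∈ X → (S i).E τ (c i) a j u ∈ X := by
      intro i a j u hu
      rw [MatSys.E_apply]
      exact X.smul_mem _ (X.sum_mem (fun g _ => X.smul_mem _ (hNX _ (hN₀ g.2) u hu)))
    obtain ⟨i, j, hij⟩ : ∃ (i : κ) (j : Fin (S i).d), (S i).E τ (c i) j j v0 ∉ Y := by
      by_contra hcon
      push Not at hcon
      apply hv0Y
      rw [← exists_component τ S c hNu hc hcomp1 hcomp v0]
      exact Y.sum_mem (fun i _ => Y.sum_mem (fun j _ => hcon i j))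
    set v := (S i).E τ (c i) j j v0 with hvdef
    have hvX : v ∈ X := hEX i j j v0 hv0
    obtain ⟨a, f, ha, haX, haX', hfv, hfY⟩ := hdual v hvX hij
    obtain ⟨uS, huS⟩ := hSd i
    have hEE := (S i).E_E τ (hc i) ⟨uS, huS⟩ hNu
    obtain ⟨hc1, hc2⟩ := coreN hR ρ hind hσ N₀ hN₀ hsup hdisj X Y X' Y' hkill hY hY' hNX hNY hNX'
      hvX hij a ha f haX haX' hfv hfY (fun x => c i * (S i).M x⁻¹ j j) (by
        have h1 := hEE j j j j v0
        rw [if_pos rfl, ← hvdef, MatSys.E_apply, Finset.smul_sum] at h1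
        refine Eq.trans (Finset.sum_congr rfl (fun x _ => ?_)) h1
        rw [mul_smul]; rfl) (fun y => (S i).M y j j) (by
        intro y
        have h1 : ρ (y : G) v = ∑ b, (S i).M y b j • (S i).E τ (c i) b j v0 :=
          (S i).tau_E τ (c i) j j y v0
        have h2 : ∑ x : N₀, (c i * (S i).M x⁻¹ j j) • ρ (x : G) (ρ (y : G) v) =
            (S i).E τ (c i) j j (ρ (y : G) v) := by
          rw [MatSys.E_apply, Finset.smul_sum]
          refine Finset.sum_congr rfl (fun x _ => ?_)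
          rw [mul_smul]; rfl
        rw [h2, h1, map_sum]
        have h3 : ∀ b, (S i).E τ (c i) j j ((S i).M y b j • (S i).E τ (c i) b j v0) =
            if j = b then (S i).M y b j • v else 0 := by
          intro b
          rw [map_smul, hEE]
          split_ifs <;> simp [hvdef]
        rw [Finset.sum_congr rfl (fun b _ => h3 b), Finset.sum_ite_eq, if_pos (mem_univ _), sub_self]
        exact Y.zero_mem)
      ((Fintype.card N₀ : R) * ↑uS⁻¹) (by
        have h1 : ∑ x : N₀, (S i).M x j j • ρ (x : G)⁻¹ v = ∑ x : N₀, (S i).M x⁻¹ j j • τ x v := by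
          refine Fintype.sum_equiv (Equiv.inv N₀) _ _ (fun x => ?_)
          rw [Equiv.inv_apply, inv_inv]; rfl
        have h2 := hEE j j j j v0
        rw [if_pos rfl, ← hvdef, MatSys.E_apply] at h2
        have h3 : ∑ x : N₀, (S i).M x⁻¹ j j • τ x v = ((Fintype.card N₀ : R) * ↑uS⁻¹) • v := by
          conv_rhs => rw [← h2]
          rw [smul_smul]
          have : (Fintype.card N₀ : R) * ↑uS⁻¹ * c i = 1 := by
            calc (Fintype.card N₀ : R) * ↑uS⁻¹ * c i = (c i * (Fintype.card N₀ : R)) * ↑uS⁻¹ := by ring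
              _ = 1 := by rw [hc i, ← huS, Units.mul_inv]
          rw [this, one_smul]
        rw [h1, h3, sub_self]
        exact Y.zero_mem) (hNu.mul ⟨uS⁻¹, rfl⟩)
    refine ⟨hc2, ?_⟩
    obtain ⟨z, hz, hzy⟩ := hkey i j v0
    have hzX : z ∈ X := by
      refine (Submodule.span_le.2 ?_) hz
      rintro _ ⟨b, rfl⟩
      exact hEX i b j v0 hv0
    refine ⟨eW z, eW_Y X hNX z hzX, eW_idem z, ?_⟩
    intro u hu heu
    obtain ⟨sf, hsf⟩ := hc1 u hu
    have h1 := eW_Y Y hNY _ hsf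
    rw [map_sub, heu, map_sum] at h1
    choose r hr using hzy
    refine ⟨∑ x : N₀, sf x * r x, ?_⟩
    have h2 : ∑ x : N₀, eW (sf x • ρ (x : G) v) = (∑ x : N₀, sf x * r x) • eW z := by
      rw [Finset.sum_smul]
      refine Finset.sum_congr rfl (fun x _ => ?_)
      rw [map_smul, hvdef, ← eW_idem (ρ (x : G) _), hr x, map_smul, smul_smul]
    rwa [h2] at h1
  have hdual1 : ∀ v ∈ XF, v ∉ YT → ∃ (a : Module.End R V) (f : V →ₗ[R] R), Commute a s ∧
        (∀ u ∈ XF, a u - f u • v ∈ YT) ∧ (∀ u ∈ XK, a u = 0) ∧ f v = 1 ∧ ∀ u ∈ YT, (p : R) ∣ f u := by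
    intro v hv hvY
    obtain ⟨f, hf1, hf2, hf3, hf4⟩ := exists_dual_fix hR.ne_zero hR.loc hs ((mXF v).1 hv)
      (fun w hw => hvY ((mYT v).2 ⟨w, hw⟩))
    exact ⟨alpha1 f v, f, alpha1_commute hf1 ((mXF v).1 hv),
      (fun u _ => by rw [alpha1_apply, sub_self]; exact YT.zero_mem),
      (fun u hu => by rw [alpha1_apply, hf3 u ((mXK u).1 hu), zero_smul]), hf2,
      (fun u hu => by obtain ⟨w, rfl⟩ := (mYT u).1 hu; exact hf4 w)⟩
  have hdual2 : ∀ v ∈ XK, v ∉ YD → ∃ (a : Module.End R V) (f : V →ₗ[R] R), Commute a s ∧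
        (∀ u ∈ XK, a u - f u • v ∈ YD) ∧ (∀ u ∈ XF, a u = 0) ∧ f v = 1 ∧ ∀ u ∈ YD, (p : R) ∣ f u := by
    intro v hv hvY
    obtain ⟨g, hg1, hg2⟩ := exists_dual_ker hR.ne_zero hR.loc hs ((mXK v).1 hv)
      (fun w hw => hvY ((mYD v).2 ⟨w, hw⟩))
    refine ⟨alpha2 p s g v, g ∘ₗ DD p s, alpha2_commute hs hg1 ((mXK v).1 hv), ?_, ?_, hg2, ?_⟩
    · intro u _
      obtain ⟨w, hw⟩ := alpha2_sub (p := p) (s := s) (g := g) (v := v) u
      exact (mYD _).2 ⟨w, hw⟩
    · intro u hu
      exact alpha2_fix hg1 ((mXF u).1 hu)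
    · intro u hu
      obtain ⟨w, rfl⟩ := (mYD u).1 hu
      rw [LinearMap.comp_apply]
      have hcDD : Commute (DD p s) s := by
        rw [DD]
        exact Commute.sum_left _ _ _ (fun j _ => ((Commute.refl s).pow_left _).smul_left _)
      rw [map_sub, comm_s hcDD, sub_DD hs, map_sub, hg1 _ (s_TT hs w), zero_sub, map_smul,
        smul_eq_mul, dvd_neg]
      exact dvd_mul_right _ _
  rw [htrace]
  by_cases hcase1 : ∃ v0 ∈ XF, v0 ∉ YT
  · obtain ⟨h1, z, hzX, hzz, hz⟩ := hmain XF YT XK YD hk1 cYT cYD nXF nYT nXK hdual1 hcase1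
    have hker : ∀ u : M, TT p sM u = 0 → ∃ w : M, u = sM w - w := by
      intro u hu
      have hu' : (u : V) ∈ XK := (mXK _).2 (by rw [← sM_TT, hu]; rfl)
      obtain ⟨w, hw⟩ := (mYD _).1 (h1 u hu')
      refine ⟨⟨eW w, ⟨w, rfl⟩⟩, ?_⟩
      apply Subtype.ext
      change (u : V) = s (eW w) - eW w
      rw [← comm_s eW_s, ← map_sub, ← hw, mM u u.2]
    by_cases hzY : z ∈ YT
    · left
      have : ∑ i ∈ Finset.Ico 1 p, LinearMap.trace R M (sM ^ i) = 0 := by
        apply trace_zero hR hsM _ hker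
        intro u hu
        have hu' : (u : V) ∈ XF := (mXF _).2 (by rw [← sM_apply, hu])
        obtain ⟨r, hr⟩ := hz u hu' (mM u u.2)
        have h2 := YT.add_mem hr (YT.smul_mem r hzY)
        rw [sub_add_cancel] at h2
        obtain ⟨w, hw⟩ := (mYT _).1 h2
        refine ⟨⟨eW w, ⟨w, rfl⟩⟩, ?_⟩
        apply Subtype.ext
        rw [sM_TT]
        change (u : V) = TT p s (eW w)
        rw [← comm_TT eW_s, ← hw, mM u u.2]
      rw [this, mul_zero]
    · right; left
      congr 1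
      have hvM : z ∈ M := ⟨z, hzz⟩
      refine trace_one_case hR hsM (v := ⟨z, hvM⟩) ?_ ?_ ?_ hker
      · apply Subtype.ext
        rw [sM_apply]
        exact (mXF z).1 hzX
      · intro w hw
        apply hzY
        exact (mYT _).2 ⟨(w : V), by rw [← sM_TT, ← hw]⟩
      · intro u hu
        have hu' : (u : V) ∈ XF := (mXF _).2 (by rw [← sM_apply, hu])
        obtain ⟨r, hr⟩ := hz u hu' (mM u u.2)
        obtain ⟨w, hw⟩ := (mYT _).1 hr
        refine ⟨r, ⟨eW w, ⟨w, rfl⟩⟩, ?_⟩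
        apply Subtype.ext
        rw [sM_TT]
        change (u : V) - r • z = TT p s (eW w)
        rw [← comm_TT eW_s, ← hw, map_sub, map_smul, mM u u.2, hzz]
  by_cases hcase2 : ∃ v0 ∈ XK, v0 ∉ YD
  · obtain ⟨h1, z, hzX, hzz, hz⟩ := hmain XK YD XF YT hk2 cYD cYT nXK nYD nXF hdual2 hcase2
    have hfix : ∀ u : M, sM u = u → ∃ w : M, u = TT p sM w := by
      intro u hu
      have hu' : (u : V) ∈ XF := (mXF _).2 (by rw [← sM_apply, hu])
      obtain ⟨w, hw⟩ := (mYT _).1 (h1 u hu')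
      refine ⟨⟨eW w, ⟨w, rfl⟩⟩, ?_⟩
      apply Subtype.ext
      rw [sM_TT]
      change (u : V) = TT p s (eW w)
      rw [← comm_TT eW_s, ← hw, mM u u.2]
    by_cases hzY : z ∈ YD
    · left
      have : ∑ i ∈ Finset.Ico 1 p, LinearMap.trace R M (sM ^ i) = 0 := by
        apply trace_zero hR hsM hfix
        intro u hu
        have hu' : (u : V) ∈ XK := (mXK _).2 (by rw [← sM_TT, hu]; rfl)
        obtain ⟨r, hr⟩ := hz u hu' (mM u u.2)
        have h2 := YD.add_mem hr (YD.smul_mem r hzY)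
        rw [sub_add_cancel] at h2
        obtain ⟨w, hw⟩ := (mYD _).1 h2
        refine ⟨⟨eW w, ⟨w, rfl⟩⟩, ?_⟩
        apply Subtype.ext
        change (u : V) = s (eW w) - eW w
        rw [← comm_s eW_s, ← map_sub, ← hw, mM u u.2]
      rw [this, mul_zero]
    · right; right
      rw [← mul_neg]
      congr 1
      have hvM : z ∈ M := ⟨z, hzz⟩
      refine trace_neg_case hR hsM (v := ⟨z, hvM⟩) ?_ ?_ hfix ?_
      · apply Subtype.ext
        rw [sM_TT]
        exact (mXK z).1 hzX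
      · intro w hw
        apply hzY
        exact (mYD _).2 ⟨(w : V), congrArg Subtype.val hw⟩
      · intro u hu
        have hu' : (u : V) ∈ XK := (mXK _).2 (by rw [← sM_TT, hu]; rfl)
        obtain ⟨r, hr⟩ := hz u hu' (mM u u.2)
        obtain ⟨w, hw⟩ := (mYD _).1 hr
        refine ⟨r, ⟨eW w, ⟨w, rfl⟩⟩, ?_⟩
        apply Subtype.ext
        change (u : V) - r • z = s (eW w) - eW w
        rw [← comm_s eW_s, ← map_sub, ← hw, map_sub, map_smul, mM u u.2, hzz]
  · left
    have : ∑ i ∈ Finset.Ico 1 p, LinearMap.trace R M (sM ^ i) = 0 := by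
      apply trace_zero hR hsM
      · intro u hu
        have hu' : (u : V) ∈ XF := (mXF _).2 (by rw [← sM_apply, hu])
        have h1 : (u : V) ∈ YT := by
          by_contra h
          exact hcase1 ⟨u, hu', h⟩
        obtain ⟨w, hw⟩ := (mYT _).1 h1
        refine ⟨⟨eW w, ⟨w, rfl⟩⟩, ?_⟩
        apply Subtype.ext
        rw [sM_TT]
        change (u : V) = TT p s (eW w)
        rw [← comm_TT eW_s, ← hw, mM u u.2]
      · intro u hu
        have hu' : (u : V) ∈ XK := (mXK _).2 (by rw [← sM_TT, hu]; rfl)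
        have h1 : (u : V) ∈ YD := by
          by_contra h
          exact hcase2 ⟨u, hu', h⟩
        obtain ⟨w, hw⟩ := (mYD _).1 h1
        refine ⟨⟨eW w, ⟨w, rfl⟩⟩, ?_⟩
        apply Subtype.ext
        change (u : V) = s (eW w) - eW w
        rw [← comm_s eW_s, ← map_sub, ← hw, mM u u.2]
    rw [this, mul_zero]

end H67.Lat
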