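import Mathlib
import Cfsg.Prelude.Def_Characters
import Cfsg.Agent.Lib.H77.Conv
import Cfsg.Agent.Lib.H78.GalStab
import Cfsg.Agent.Lib.H4.Eigen
import Cfsg.Agent.Lib.H77.Degree
import Cfsg.Agent.Lib.H67.LatSetup
import Cfsg.Agent.Lib.H67.LatRing
import Cfsg.Agent.Lib.H67.LatMin
import Cfsg.Agent.Lib.H67.LatMat
import Cfsg.Agent.Lib.H67.LatMult
import Cfsg.Agent.Lib.H67.LatTheta

set_option autoImplicit false

/-! Local multiplicities of irreducible characters: Galois conjugates and lattices. -/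

namespace H67.Lat

open Finset Cfsg H18.CharBasic H18.CharOrtho H18.CharInd
open scoped ComplexConjugate

/-- sums over `1, …, p-1` as sums over units -/
theorem sum_Ico_units {p : ℕ} [Fact p.Prime] {A : Type*} [AddCommMonoid A] (f : ℕ → A) :
    ∑ i ∈ Ico 1 p, f i = ∑ a : (ZMod p)ˣ, f (a : ZMod p).val := by
  classical
  have hp : p.Prime := Fact.out
  symm
  refine Finset.sum_bij (fun (a : (ZMod p)ˣ) _ => (a : ZMod p).val) ?_ ?_ ?_ (fun _ _ => rfl)
  · intro a _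
    rw [mem_Ico]
    refine ⟨?_, ZMod.val_lt _⟩
    rw [Nat.one_le_iff_ne_zero, ne_eq, ZMod.val_eq_zero]
    exact a.ne_zero
  · intro a _ b _ h
    exact Units.ext (ZMod.val_injective p h)
  · intro i hi
    rw [mem_Ico] at hi
    have hne : (i : ZMod p) ≠ 0 := by
      rw [ne_eq, ZMod.natCast_eq_zero_iff]
      intro h
      exact absurd (Nat.le_of_dvd (by omega) h) (by omega)
    refine ⟨Units.mk0 (i : ZMod p) hne, mem_univ _, ?_⟩
    rw [Units.val_mk0, ZMod.val_natCast, Nat.mod_eq_of_lt hi.2]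

/-- exponents for the Galois action -/
theorem exists_exponents {p m : ℕ} (hp : p.Prime) (hm : ¬ p ∣ m) :
    ∃ s0 c0 : ℕ, s0 ≡ 1 [MOD m] ∧ s0 ≡ 0 [MOD p] ∧ c0 ≡ 0 [MOD m] ∧ c0 ≡ 1 [MOD p] := by
  have hcop : m.Coprime p := ((hp.coprime_iff_not_dvd).2 hm).symm
  obtain ⟨s0, h1, h2⟩ := Nat.chineseRemainder hcop 1 0
  obtain ⟨c0, h3, h4⟩ := Nat.chineseRemainder hcop 0 1
  exact ⟨s0, c0, h1, h2, h3, h4⟩

/-- the exponent attached to a unit -/
def ex (p s0 c0 : ℕ) (a : (ZMod p)ˣ) : ℕ := s0 + (a : ZMod p).val * c0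

section ex

variable {p m s0 c0 : ℕ} (h1 : s0 ≡ 1 [MOD m]) (h2 : s0 ≡ 0 [MOD p]) (h3 : c0 ≡ 0 [MOD m])
  (h4 : c0 ≡ 1 [MOD p])

include h1 h3 in
theorem ex_mod_m (a : (ZMod p)ˣ) : ex p s0 c0 a ≡ 1 [MOD m] := by
  have : ex p s0 c0 a ≡ 1 + (a : ZMod p).val * 0 [MOD m] := Nat.ModEq.add h1 (Nat.ModEq.mul_left _ h3)
  simpa using this

include h2 h4 in
theorem ex_mod_p (a : (ZMod p)ˣ) : ex p s0 c0 a ≡ (a : ZMod p).val [MOD p] := by
  have : ex p s0 c0 a ≡ 0 + (a : ZMod p).val * 1 [MOD p] := Nat.ModEq.add h2 (Nat.ModEq.mul_left _ h4)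
  simpa using this

include h2 h4 in
theorem ex_cast (a : (ZMod p)ˣ) [NeZero p] : ((ex p s0 c0 a : ℕ) : ZMod p) = a := by
  have h := ex_mod_p h2 h4 a
  rw [← ZMod.natCast_eq_natCast_iff] at h
  rw [h, ZMod.natCast_zmod_val]

include h1 h2 h3 h4 in
theorem ex_coprime (hp : p.Prime) (a : (ZMod p)ˣ) : (ex p s0 c0 a).Coprime (p * m) := by
  have := Fact.mk hp
  apply Nat.Coprime.mul_right
  · have h := ex_cast h2 h4 a
    rw [← ZMod.isUnit_iff_coprime, h]
    exact a.isUnit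
  · have h := ex_mod_m h1 h3 a
    have := h.gcd_eq
    rw [Nat.gcd_one_left] at this
    exact this

include h1 h2 h3 h4 in
theorem ex_mul (hp : p.Prime) (hm : ¬ p ∣ m) (a b : (ZMod p)ˣ) :
    ex p s0 c0 a * ex p s0 c0 b ≡ ex p s0 c0 (a * b) [MOD p * m] := by
  have := Fact.mk hp
  have hcop : p.Coprime m := (hp.coprime_iff_not_dvd).2 hm
  rw [← Nat.modEq_and_modEq_iff_modEq_mul hcop]
  constructor
  · rw [← ZMod.natCast_eq_natCast_iff, Nat.cast_mul, ex_cast h2 h4, ex_cast h2 h4, ex_cast h2 h4,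
      Units.val_mul]
  · have := (ex_mod_m h1 h3 a).mul (ex_mod_m h1 h3 b)
    rw [one_mul] at this
    exact this.trans (ex_mod_m h1 h3 _).symm

end ex

/-- local multiplicity of `θ` in `χ` at `x` -/
noncomputable def FF {G : Type*} [Group G] (W : Subgroup G) [Fintype W] (χ : G → ℂ) (θ : W → ℂ)
    (x : G) : ℂ := (Nat.card W : ℂ)⁻¹ * ∑ u : W, χ (x * u) * conj (θ u)

/-- character of a lattice -/
theorem isCharacter_lattice {R : Type*} [CommRing R] [IsDomain R] (ι : R →+* ℂ) {G : Type*} [Group G]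
    {n : ℕ} (ρ : Representation R G (Fin n → R)) :
    IsCharacter G (fun g => ι (LinearMap.trace R _ (ρ g))) := by
  classical
  let ρc : Representation ℂ G (Fin n → ℂ) :=
    { toFun := fun g => Matrix.toLin' ((LinearMap.toMatrix' (ρ g)).map ι)
      map_one' := by
        rw [map_one]
        have h1 : LinearMap.toMatrix' (1 : (Fin n → R) →ₗ[R] (Fin n → R)) = 1 :=
          LinearMap.toMatrix'_one
        rw [h1, Matrix.map_one _ (map_zero _) (map_one _), Matrix.toLin'_one]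
        rfl
      map_mul' := fun g h => by
        rw [map_mul, LinearMap.toMatrix'_mul, Matrix.map_mul, Matrix.toLin'_mul]
        rfl }
  refine ⟨n, ρc, funext fun g => ?_⟩
  change LinearMap.trace ℂ _ (Matrix.toLin' ((LinearMap.toMatrix' (ρ g)).map ι)) = _
  rw [Matrix.trace_toLin'_eq, LinearMap.trace_eq_matrix_trace R (Pi.basisFun R (Fin n)),
    LinearMap.toMatrix_eq_toMatrix']
  exact (AddMonoidHom.map_trace ι.toAddMonoidHom _).symm

end H67.Lat
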