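import Mathlib
import Cfsg.Prelude.Def_Characters
import Cfsg.Agent.Lib.H67.LatGal

set_option autoImplicit false

/-! Multiplicities of a character on the centralizer of a Sylow subgroup of prime order. -/

namespace H67.DefOne

open Finset Cfsg H18.CharBasic H18.CharOrtho H18.CharInd H67.Lat
open scoped ComplexConjugate

section ee

variable {p : ℕ} [hp : Fact p.Prime]

/-- the standard additive character -/
noncomputable def ee (i : ZMod p) : ℂ := ZMod.stdAddChar i

theorem ee_zero : ee (0 : ZMod p) = 1 := AddChar.map_zero_eq_one _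

theorem ee_add (i j : ZMod p) : ee (i + j) = ee i * ee j := AddChar.map_add_eq_mul _ _ _

theorem ee_neg (i : ZMod p) : ee (-i) = conj (ee i) := by
  rw [ee, ee, ZMod.stdAddChar_apply, ZMod.stdAddChar_apply, AddChar.map_neg_eq_inv,
    Circle.coe_inv_eq_conj]

theorem ee_mul_conj (i : ZMod p) : ee i * conj (ee i) = 1 := by
  rw [← ee_neg, ← ee_add, add_neg_cancel, ee_zero]

theorem sum_ee (b : ZMod p) : ∑ i : ZMod p, ee (b * i) = if b = 0 then (p : ℂ) else 0 := by
  classical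
  have h := AddChar.sum_mulShift b (ZMod.isPrimitive_stdAddChar p)
  rw [ZMod.card] at h
  have h2 : ((if b = 0 then p else 0 : ℕ) : ℂ) = if b = 0 then (p : ℂ) else 0 := by
    split_ifs <;> simp
  rw [← h2, ← h]
  refine Finset.sum_congr rfl (fun i _ => ?_)
  rw [ee, mul_comm]

theorem ee_ne_zero (i : ZMod p) : ee i ≠ 0 := by
  intro h
  have := ee_mul_conj i
  rw [h, zero_mul] at this
  exact zero_ne_one this

end ee

section mult

variable {p : ℕ} [hp : Fact p.Prime] {G : Type*} [Group G] [Fintype G] (D : Dat p G) [Fintype D.W]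

/-- the homomorphism from `P × W` -/
noncomputable def Phi : Multiplicative (ZMod p) × D.W →* G where
  toFun x := D.σ ^ (Multiplicative.toAdd x.1).val * x.2
  map_one' := by
    change D.σ ^ (0 : ZMod p).val * ((1 : D.W) : G) = 1
    rw [ZMod.val_zero, pow_zero, one_mul]; rfl
  map_mul' x y := by
    change D.σ ^ (Multiplicative.toAdd x.1 + Multiplicative.toAdd y.1).val * ((x.2 * y.2 : D.W) : G) = _
    have h1 : D.σ ^ (Multiplicative.toAdd x.1 + Multiplicative.toAdd y.1).val =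
        D.σ ^ (Multiplicative.toAdd x.1).val * D.σ ^ (Multiplicative.toAdd y.1).val := by
      rw [← pow_add, pow_eq_pow_iff_modEq, D.hσ, ZMod.val_add]
      exact Nat.mod_modEq _ _
    have h2 : Commute (x.2 : G) (D.σ ^ (Multiplicative.toAdd y.1).val) := by
      have : Commute (x.2 : G) D.σ := D.W_comm x.2.2
      exact this.pow_right _
    rw [h1, Subgroup.coe_mul]
    calc D.σ ^ (Multiplicative.toAdd x.1).val * D.σ ^ (Multiplicative.toAdd y.1).val * ((x.2 : G) * y.2)
        = D.σ ^ (Multiplicative.toAdd x.1).val * (D.σ ^ (Multiplicative.toAdd y.1).val * x.2) * y.2 := by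
          group
      _ = _ := by rw [← h2.eq]; group

theorem Phi_apply (z : Multiplicative (ZMod p)) (u : D.W) :
    Phi D (z, u) = D.σ ^ (Multiplicative.toAdd z).val * u := rfl

theorem Phi_injective : Function.Injective (Phi D) := by
  rw [injective_iff_map_eq_one]
  rintro ⟨z, u⟩ h
  rw [Phi_apply] at h
  have h1 : (u : G) ∈ D.N₀ ⊓ Subgroup.zpowers D.σ := by
    refine ⟨D.W_le u.2, ?_⟩
    have : (u : G) = (D.σ ^ (Multiplicative.toAdd z).val)⁻¹ := (eq_inv_of_mul_eq_one_right h)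
    rw [this]
    exact (Subgroup.zpowers D.σ).inv_mem (Subgroup.pow_mem _ (Subgroup.mem_zpowers D.σ) _)
  rw [D.hdisj, Subgroup.mem_bot] at h1
  rw [h1, mul_one] at h
  have h2 : p ∣ (Multiplicative.toAdd z).val := by
    have := orderOf_dvd_of_pow_eq_one h
    rwa [D.hσ] at this
  have h3 : (Multiplicative.toAdd z).val = 0 := by
    apply Nat.eq_zero_of_dvd_of_lt h2
    exact ZMod.val_lt _
  have h4 : Multiplicative.toAdd z = 0 := (ZMod.val_eq_zero _).1 h3
  have h5 : z = 1 := h4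
  have h6 : u = 1 := Subtype.ext h1
  rw [h5, h6]; rfl

/-- the multiplicity of `λ_b × θ` -/
noncomputable def mu (χ : G → ℂ) (θ : D.W → ℂ) (b : ZMod p) : ℂ :=
  (p : ℂ)⁻¹ * ∑ i : ZMod p, FF D.W χ θ (D.σ ^ i.val) * conj (ee (b * i))

/-- the linear character of `ZMod p` -/
noncomputable def lamHom (b : ZMod p) : Multiplicative (ZMod p) →* ℂˣ :=
  MonoidHom.toHomUnits
    { toFun := fun z => ee (b * Multiplicative.toAdd z)
      map_one' := by
        change ee (b * 0) = 1
        rw [mul_zero, ee_zero]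
      map_mul' := fun x y => by
        change ee (b * (Multiplicative.toAdd x + Multiplicative.toAdd y)) = _
        rw [mul_add, ee_add] }

theorem lamHom_apply (b : ZMod p) (z : Multiplicative (ZMod p)) :
    (lamHom b z : ℂ) = ee (b * Multiplicative.toAdd z) := rfl

theorem mu_nat {χ : G → ℂ} (hχ : IsCharacter G χ) {θ : D.W → ℂ} (hθ : IsCharacter D.W θ) (b : ZMod p) :
    ∃ k : ℕ, mu D χ θ b = k := by
  classical
  have h1 : IsCharacter (Multiplicative (ZMod p) × D.W) (fun x => χ (Phi D x)) := isCharacter_comp _ hχ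
  have h2 : IsCharacter (Multiplicative (ZMod p) × D.W)
      (fun x => ((lamHom b).comp (MonoidHom.fst _ _) x : ℂ) * θ (MonoidHom.snd _ _ x)) :=
    H18.CharQuot.isCharacter_hom_mul _ (isCharacter_comp _ hθ)
  obtain ⟨k, hk⟩ := inner_char_natCast h1 h2
  refine ⟨k, ?_⟩
  rw [← hk, mu, classInner]
  have hcard : (Nat.card (Multiplicative (ZMod p) × D.W) : ℂ) = (p : ℂ) * (Nat.card D.W : ℂ) := by
    rw [Nat.card_prod, Nat.cast_mul]
    congr 2
    exact Nat.card_zmod p
  rw [hcard, Fintype.sum_prod_type, mul_inv, mul_assoc]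
  congr 1
  rw [Finset.mul_sum]
  refine Fintype.sum_equiv Multiplicative.ofAdd _ _ (fun i => ?_)
  rw [FF, mul_assoc, Finset.sum_mul]
  congr 1
  refine Finset.sum_congr rfl (fun u _ => ?_)
  rw [Phi_apply, map_mul, mul_assoc, mul_comm (conj (θ u))]
  rfl

theorem FF_zero_eq (χ : G → ℂ) (θ : D.W → ℂ) : ∑ b : ZMod p, mu D χ θ b = FF D.W χ θ (D.σ ^ (0 : ZMod p).val) := by
  classical
  have hp0 : (p : ℂ) ≠ 0 := by exact_mod_cast hp.out.ne_zero
  simp only [mu]
  rw [← Finset.mul_sum, Finset.sum_comm]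
  have h1 : ∀ i : ZMod p, ∑ b : ZMod p, FF D.W χ θ (D.σ ^ i.val) * conj (ee (b * i)) =
      if i = 0 then (p : ℂ) * FF D.W χ θ (D.σ ^ (0 : ZMod p).val) else 0 := by
    intro i
    rw [← Finset.mul_sum]
    have h2 : ∑ b : ZMod p, conj (ee (b * i)) = if i = 0 then (p : ℂ) else 0 := by
      have h3 : ∀ b : ZMod p, conj (ee (b * i)) = ee (-i * b) := by
        intro b; rw [← ee_neg]; congr 1; ring
      rw [Finset.sum_congr rfl (fun b _ => h3 b), sum_ee]
      by_cases hi : i = 0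
      · rw [if_pos hi, if_pos (by rw [hi, neg_zero])]
      · rw [if_neg hi, if_neg (by rwa [neg_eq_zero])]
    rw [h2]
    split_ifs with hi
    · rw [hi, mul_comm]
    · rw [mul_zero]
  rw [Finset.sum_congr rfl (fun i _ => h1 i), Finset.sum_ite_eq', if_pos (mem_univ _), ← mul_assoc,
    inv_mul_cancel₀ hp0, one_mul]

/-- Fourier inversion -/
theorem FF_eq (χ : G → ℂ) (θ : D.W → ℂ) (j : ZMod p) :
    FF D.W χ θ (D.σ ^ j.val) = ∑ b : ZMod p, mu D χ θ b * ee (b * j) := by
  classical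
  have hp0 : (p : ℂ) ≠ 0 := by exact_mod_cast hp.out.ne_zero
  simp only [mu]
  have h0 : ∀ b : ZMod p, (p : ℂ)⁻¹ * (∑ i : ZMod p, FF D.W χ θ (D.σ ^ i.val) * conj (ee (b * i))) *
      ee (b * j) = (p : ℂ)⁻¹ * ∑ i : ZMod p, FF D.W χ θ (D.σ ^ i.val) * ee ((j - i) * b) := by
    intro b
    rw [mul_assoc, Finset.sum_mul]
    congr 1
    refine Finset.sum_congr rfl (fun i _ => ?_)
    rw [mul_assoc, ← ee_neg, ← ee_add]
    congr 2
    ring
  rw [Finset.sum_congr rfl (fun b _ => h0 b), ← Finset.mul_sum, Finset.sum_comm]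
  have h1 : ∀ i : ZMod p, ∑ b : ZMod p, FF D.W χ θ (D.σ ^ i.val) * ee ((j - i) * b) =
      if i = j then (p : ℂ) * FF D.W χ θ (D.σ ^ i.val) else 0 := by
    intro i
    rw [← Finset.mul_sum, sum_ee]
    by_cases hi : i = j
    · rw [if_pos hi, if_pos (by rw [hi, sub_self]), mul_comm]
    · rw [if_neg hi, if_neg (fun h => hi (sub_eq_zero.1 h).symm), mul_zero]
  rw [Finset.sum_congr rfl (fun i _ => h1 i), Finset.sum_ite_eq', if_pos (mem_univ _), ← mul_assoc,
    inv_mul_cancel₀ hp0, one_mul]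

/-- the difference of multiplicities -/
theorem diff_eq (χ : G → ℂ) (θ : D.W → ℂ) (b : ZMod p) : mu D χ θ 0 - mu D χ θ b =
    ((p : ℂ) * (Nat.card D.W : ℂ))⁻¹ * ∑ i : ZMod p, ∑ u : D.W,
      χ (D.σ ^ i.val * u) * ((1 - conj (ee (b * i))) * conj (θ u)) := by
  rw [mu, mu, ← mul_sub, ← Finset.sum_sub_distrib, mul_inv, mul_assoc]
  congr 1
  rw [Finset.mul_sum]
  refine Finset.sum_congr rfl (fun i _ => ?_)
  rw [zero_mul, ee_zero, map_one, mul_one, FF, Finset.mul_sum, Finset.sum_mul, Finset.mul_sum,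
    ← Finset.sum_sub_distrib]
  refine Finset.sum_congr rfl (fun u _ => ?_)
  ring

theorem sum_nonzero_FF (χ : G → ℂ) (θ : D.W → ℂ) :
    ∑ i ∈ Ico 1 p, FF D.W χ θ (D.σ ^ i) = ∑ b : (ZMod p)ˣ, (mu D χ θ 0 - mu D χ θ b) := by
  classical
  have hp0 : (p : ℂ) ≠ 0 := by exact_mod_cast hp.out.ne_zero
  have hunits : ∀ f : ZMod p → ℂ, ∑ b : (ZMod p)ˣ, f b = ∑ b : ZMod p, f b - f 0 := by
    intro f
    have h1 : ∑ b : (ZMod p)ˣ, f b = ∑ b ∈ univ.erase (0 : ZMod p), f b := by
      refine Finset.sum_bij (fun (a : (ZMod p)ˣ) _ => (a : ZMod p)) ?_ ?_ ?_ (fun _ _ => rfl)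
      · intro a _; exact mem_erase.2 ⟨a.ne_zero, mem_univ _⟩
      · intro a _ b _ h; exact Units.ext h
      · intro b hb
        exact ⟨Units.mk0 b (mem_erase.1 hb).1, mem_univ _, rfl⟩
    rw [h1, Finset.sum_erase_eq_sub (mem_univ _)]
  rw [sum_Ico_units (fun i => FF D.W χ θ (D.σ ^ i)), hunits (fun i => FF D.W χ θ (D.σ ^ i.val)),
    hunits (fun b => mu D χ θ 0 - mu D χ θ b), sub_self, sub_zero, Finset.sum_sub_distrib,
    FF_zero_eq, Finset.sum_const, Finset.card_univ, ZMod.card, nsmul_eq_mul]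
  congr 1
  rw [mu, ← mul_assoc, mul_inv_cancel₀ hp0, one_mul]
  refine Finset.sum_congr rfl (fun i _ => ?_)
  rw [zero_mul, ee_zero, map_one, mul_one]

end mult

end H67.DefOne
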