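import Mathlib
import Cfsg.Agent.Lib.H67.DefOne1
import Cfsg.Agent.Lib.H77.Conv

set_option autoImplicit false

/-! The action of the complement on the Sylow subgroup; Gram matrix of the multiplicities. -/

namespace H67.DefOne

open Finset Cfsg H18.CharBasic H18.CharOrtho H18.CharInd H67.Lat
open scoped ComplexConjugate

variable {p : ℕ} [hp : Fact p.Prime] {G : Type*} [Group G] (D : Dat p G)

theorem exists_k (n : D.N₀) : ∃ k : ZMod p, (n : G) * D.σ * (n : G)⁻¹ = D.σ ^ k.val := by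
  have h1 : (n : G) * D.σ * (n : G)⁻¹ ∈ Subgroup.zpowers D.σ :=
    (Subgroup.mem_normalizer_iff.1 (D.hN₀ n.2) D.σ).1 (Subgroup.mem_zpowers D.σ)
  have hfin : IsOfFinOrder D.σ := by
    rw [← orderOf_pos_iff, D.hσ]; exact hp.out.pos
  obtain ⟨k, hk⟩ := (IsOfFinOrder.mem_powers_iff_mem_zpowers hfin).2 h1
  have hk : D.σ ^ k = (n : G) * D.σ * (n : G)⁻¹ := hk
  refine ⟨(k : ZMod p), ?_⟩
  rw [← hk, pow_eq_pow_iff_modEq, D.hσ, ZMod.val_natCast]
  exact (Nat.mod_modEq _ _).symm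

/-- the exponent by which an element acts -/
noncomputable def kk (n : D.N₀) : ZMod p := (exists_k D n).choose

theorem kk_spec (n : D.N₀) : (n : G) * D.σ * (n : G)⁻¹ = D.σ ^ (kk D n).val := (exists_k D n).choose_spec

theorem pow_val_inj {a b : ZMod p} (h : D.σ ^ a.val = D.σ ^ b.val) : a = b := by
  rw [pow_eq_pow_iff_modEq, D.hσ, ← ZMod.natCast_eq_natCast_iff, ZMod.natCast_zmod_val,
    ZMod.natCast_zmod_val] at h
  exact h

theorem pow_val_mul (a b : ZMod p) : (D.σ ^ a.val) ^ b.val = D.σ ^ (a * b).val := by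
  rw [← pow_mul, pow_eq_pow_iff_modEq, D.hσ, ← ZMod.natCast_eq_natCast_iff, Nat.cast_mul,
    ZMod.natCast_zmod_val, ZMod.natCast_zmod_val, ZMod.natCast_zmod_val]

theorem kk_conj (n : D.N₀) (i : ZMod p) : (n : G) * D.σ ^ i.val * (n : G)⁻¹ = D.σ ^ (kk D n * i).val := by
  rw [← conj_pow, kk_spec, pow_val_mul]

/-- the homomorphism to the multiplicative group of `ZMod p` -/
noncomputable def KK : D.N₀ →* (ZMod p)ˣ :=
  MonoidHom.toHomUnits
    { toFun := kk D
      map_one' := by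
        apply pow_val_inj D
        rw [← kk_spec]
        have : (1 : ZMod p).val = 1 := by
          rw [ZMod.val_one_eq_one_mod, Nat.mod_eq_of_lt hp.out.one_lt]
        rw [this]; simp
      map_mul' := fun a b => by
        apply pow_val_inj D
        rw [← kk_spec, ← pow_val_mul, ← kk_spec, conj_pow]
        have h1 := kk_spec D b
        have : (a : G) * D.σ ^ (kk D b).val * (a : G)⁻¹ = a * (b * D.σ * (b : G)⁻¹) * (a : G)⁻¹ := by
          rw [h1]
        rw [this, Subgroup.coe_mul, mul_inv_rev]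
        group }

theorem KK_apply (n : D.N₀) : (KK D n : ZMod p) = kk D n := rfl

theorem KK_conj (n : D.N₀) (i : ZMod p) :
    (n : G) * D.σ ^ i.val * (n : G)⁻¹ = D.σ ^ ((KK D n : ZMod p) * i).val := kk_conj D n i

theorem KK_ker : (KK D).ker = D.W.subgroupOf D.N₀ := by
  ext n
  rw [MonoidHom.mem_ker, Subgroup.mem_subgroupOf, D.hW]
  have hone : (1 : ZMod p).val = 1 := by
    rw [ZMod.val_one_eq_one_mod, Nat.mod_eq_of_lt hp.out.one_lt]
  constructor
  · intro h
    refine ⟨n.2, ?_⟩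
    have h1 := kk_spec D n
    rw [← KK_apply, h, Units.val_one, hone, pow_one] at h1
    rw [mul_inv_eq_iff_eq_mul] at h1
    exact h1
  · rintro ⟨_, h⟩
    apply Units.ext
    apply pow_val_inj D
    rw [KK_apply, ← kk_spec, Units.val_one, hone, pow_one, h, mul_inv_cancel_right]

/-- the conjugate of a function on `W` -/
def cjW (n : D.N₀) (θ : D.W → ℂ) : D.W → ℂ := fun u => θ ⟨n * u * (n : G)⁻¹, by
  have h := D.normal_W.conj_mem (Subgroup.inclusion D.W_le u) (by
    rw [Subgroup.mem_subgroupOf]; exact u.2) n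
  rw [Subgroup.mem_subgroupOf] at h
  exact h⟩

theorem conj_mem_W (n : D.N₀) (u : D.W) : (n : G) * u * (n : G)⁻¹ ∈ D.W := by
  have h := D.normal_W.conj_mem (Subgroup.inclusion D.W_le u) (by
    rw [Subgroup.mem_subgroupOf]; exact u.2) n
  rw [Subgroup.mem_subgroupOf] at h
  exact h

theorem cjW_apply (n : D.N₀) (θ : D.W → ℂ) (u : D.W) : cjW D n θ u = θ ⟨n * u * (n : G)⁻¹, conj_mem_W D n u⟩ := rfl

theorem cjW_one (θ : D.W → ℂ) : cjW D 1 θ = θ := by
  funext u
  rw [cjW_apply]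
  congr 1
  apply Subtype.ext
  simp

theorem cjW_mul (a b : D.N₀) (θ : D.W → ℂ) : cjW D (a * b) θ = cjW D b (cjW D a θ) := by
  funext u
  rw [cjW_apply, cjW_apply, cjW_apply]
  congr 1
  apply Subtype.ext
  simp only [Subgroup.coe_mul, mul_inv_rev]
  group

/-- conjugation automorphism of `W` -/
def cAut (n : D.N₀) : D.W ≃* D.W where
  toFun u := ⟨n * u * (n : G)⁻¹, conj_mem_W D n u⟩
  invFun u := ⟨(n⁻¹ : D.N₀) * u * ((n⁻¹ : D.N₀) : G)⁻¹, conj_mem_W D n⁻¹ u⟩
  left_inv u := by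
    apply Subtype.ext
    simp only [Subgroup.coe_inv]
    group
  right_inv u := by
    apply Subtype.ext
    simp only [Subgroup.coe_inv]
    group
  map_mul' u v := by
    apply Subtype.ext
    simp only [Subgroup.coe_mul]
    group

theorem cjW_irr {θ : D.W → ℂ} (hθ : IsIrrCharacter D.W θ) (n : D.N₀) : IsIrrCharacter D.W (cjW D n θ) :=
  (H18.CharQuot.isIrrCharacter_mulEquiv (cAut D n)).1 hθ

/-- the stabilizer of `θ` -/
def T₀ (θ : D.W → ℂ) : Subgroup D.N₀ where
  carrier := {n | cjW D n θ = θ}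
  one_mem' := cjW_one D θ
  mul_mem' := by
    intro a b ha hb
    change cjW D (a * b) θ = θ
    rw [cjW_mul, show cjW D a θ = θ from ha, show cjW D b θ = θ from hb]
  inv_mem' := by
    intro a ha
    change cjW D a⁻¹ θ = θ
    have h1 : cjW D a θ = θ := ha
    conv_lhs => rw [← h1]
    rw [← cjW_mul, mul_inv_cancel, cjW_one]

theorem mem_T₀ {θ : D.W → ℂ} {n : D.N₀} : n ∈ T₀ D θ ↔ cjW D n θ = θ := Iff.rfl

theorem W_le_T₀ {θ : D.W → ℂ} (hθ : IsClassFunction D.W θ) : D.W.subgroupOf D.N₀ ≤ T₀ D θ := by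
  intro n hn
  rw [Subgroup.mem_subgroupOf] at hn
  rw [mem_T₀]
  funext u
  rw [cjW_apply]
  exact hθ u ⟨n, hn⟩

/-- the image of the stabilizer -/
noncomputable def HH (θ : D.W → ℂ) : Subgroup (ZMod p)ˣ := (T₀ D θ).map (KK D)

/-- the number of elements of the stabilizer with a given image -/
theorem card_fiber [Finite G] {θ : D.W → ℂ} (hθ : IsClassFunction D.W θ) {c : (ZMod p)ˣ}
    (hc : c ∈ HH D θ) : Nat.card {n : T₀ D θ // KK D n = c} = Nat.card D.W := by
  obtain ⟨n0, hn0, rfl⟩ := hc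
  refine Nat.card_congr ?_
  refine
    { toFun := fun n => ⟨((n0⁻¹ * (n.1 : D.N₀) : D.N₀) : G), ?_⟩
      invFun := fun w => ⟨⟨n0 * Subgroup.inclusion D.W_le w, ?_⟩, ?_⟩
      left_inv := fun n => ?_
      right_inv := fun w => ?_ }
  · have h1 : n0⁻¹ * (n.1 : D.N₀) ∈ (KK D).ker := by
      rw [MonoidHom.mem_ker, map_mul, map_inv, n.2, inv_mul_cancel]
    rw [KK_ker, Subgroup.mem_subgroupOf] at h1
    exact h1
  · refine (T₀ D θ).mul_mem hn0 (W_le_T₀ D hθ ?_)
    rw [Subgroup.mem_subgroupOf]; exact w.2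
  · have h1 : Subgroup.inclusion D.W_le w ∈ (KK D).ker := by
      rw [KK_ker, Subgroup.mem_subgroupOf]; exact w.2
    rw [MonoidHom.mem_ker] at h1
    change KK D (n0 * Subgroup.inclusion D.W_le w) = KK D n0
    rw [map_mul, h1, mul_one]
  · apply Subtype.ext
    apply Subtype.ext
    apply Subtype.ext
    simp
  · apply Subtype.ext
    simp

theorem card_T₀ [Finite G] {θ : D.W → ℂ} (hθ : IsClassFunction D.W θ) :
    Nat.card (T₀ D θ) = Nat.card (HH D θ) * Nat.card D.W := by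
  classical
  have h1 : Nat.card (T₀ D θ) = Nat.card (Σ c : HH D θ, {n : T₀ D θ // KK D n = c}) := by
    refine Nat.card_congr ?_
    refine
      { toFun := fun n => ⟨⟨KK D n, ⟨n, n.2, rfl⟩⟩, ⟨n, rfl⟩⟩
        invFun := fun x => x.2.1
        left_inv := fun n => rfl
        right_inv := ?_ }
    rintro ⟨⟨c, hc⟩, ⟨n, hn⟩⟩
    simp only at hn
    subst hn
    rfl
  rw [h1, Nat.card_sigma, Finset.sum_congr rfl (fun c _ => card_fiber D hθ c.2), Finset.sum_const,
    Finset.card_univ, ← Nat.card_eq_fintype_card, smul_eq_mul]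

end H67.DefOne
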