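import Mathlib
import Cfsg.Agent.Lib.H67.DefOne2

set_option autoImplicit false

/-! Gram matrix of the multiplicities. -/

namespace H67.DefOne

open Finset Cfsg H18.CharBasic H18.CharOrtho H18.CharInd H67.Lat
open scoped ComplexConjugate

variable {p : ℕ} [hp : Fact p.Prime] {G : Type*} [Group G] [Fintype G] (D : Dat p G) [Fintype D.W]

theorem mem_normalizer_of_conj {x : G} {a : ZMod p} (ha : a ≠ 0)
    (h : x * D.σ ^ a.val * x⁻¹ ∈ Subgroup.zpowers D.σ) :
    x ∈ Subgroup.normalizer (Subgroup.zpowers D.σ : Set G) := by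
  have h1 : x * D.σ * x⁻¹ ∈ Subgroup.zpowers D.σ := by
    have h3 := Subgroup.pow_mem _ h (a⁻¹).val
    rw [conj_pow, pow_val_mul, mul_inv_cancel₀ ha, ZMod.val_one_eq_one_mod,
      Nat.mod_eq_of_lt hp.out.one_lt, pow_one] at h3
    exact h3
  have h3 := (smul_eq_iff_normalizer hp.out D.hσ x⁻¹).1 (by
    have h4 : D.σ • (QuotientGroup.mk x⁻¹ : G ⧸ Subgroup.zpowers D.σ) = QuotientGroup.mk (D.σ * x⁻¹) := rfl
    rw [h4, eq_comm, QuotientGroup.eq, inv_inv, ← mul_assoc]
    exact h1)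
  rw [← inv_inv x]
  exact inv_mem h3

theorem card_W_cast_ne : ((Nat.card D.W : ℕ) : ZMod p) ≠ 0 := by
  rw [ne_eq, ZMod.natCast_eq_zero_iff]
  intro h
  exact D.hNp (h.trans (Subgroup.card_dvd_of_le D.W_le))

theorem mem_normalizer_of_Phi {x : G} {q q' : Multiplicative (ZMod p) × D.W}
    (hq : Multiplicative.toAdd q.1 ≠ 0) (h : x * Phi D q * x⁻¹ = Phi D q') :
    x ∈ Subgroup.normalizer (Subgroup.zpowers D.σ : Set G) := by
  have h1 : ∀ q : Multiplicative (ZMod p) × D.W, (Phi D q) ^ Nat.card D.W =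
      D.σ ^ (Multiplicative.toAdd q.1 * ((Nat.card D.W : ℕ) : ZMod p)).val := by
    intro q
    obtain ⟨z, u⟩ := q
    rw [Phi_apply]
    have hcomm : Commute (D.σ ^ (Multiplicative.toAdd z).val) (u : G) := by
      have : Commute (u : G) D.σ := D.W_comm u.2
      exact (this.pow_right _).symm
    have hu : (u : G) ^ Nat.card D.W = 1 := by
      rw [← Subgroup.coe_pow, pow_card_eq_one', Subgroup.coe_one]
    rw [hcomm.mul_pow, hu, mul_one, ← pow_mul, pow_eq_pow_iff_modEq, D.hσ,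
      ← ZMod.natCast_eq_natCast_iff, Nat.cast_mul, ZMod.natCast_zmod_val, ZMod.natCast_zmod_val]
  have h2 : x * (Phi D q) ^ Nat.card D.W * x⁻¹ = (Phi D q') ^ Nat.card D.W := by
    rw [← conj_pow, h]
  rw [h1, h1] at h2
  apply mem_normalizer_of_conj D (mul_ne_zero hq (card_W_cast_ne D))
  rw [h2]
  exact Subgroup.pow_mem _ (Subgroup.mem_zpowers D.σ) _

/-- sums over the normalizer -/
theorem sum_normalizer [Fintype D.N₀] (F : G → ℂ)
    (hF : ∀ x, x ∉ Subgroup.normalizer (Subgroup.zpowers D.σ : Set G) → F x = 0) :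
    ∑ x : G, F x = ∑ n : D.N₀, ∑ j : ZMod p, F (n * D.σ ^ j.val) := by
  classical
  have hinj : ∀ a b : D.N₀ × ZMod p, (a.1 : G) * D.σ ^ a.2.val = b.1 * D.σ ^ b.2.val → a = b := by
    rintro ⟨n, i⟩ ⟨m, j⟩ h
    simp only at h
    have h1 : (m : G)⁻¹ * n ∈ D.N₀ ⊓ Subgroup.zpowers D.σ := by
      refine ⟨D.N₀.mul_mem (D.N₀.inv_mem m.2) n.2, ?_⟩
      have h2 : (m : G)⁻¹ * n = D.σ ^ j.val * (D.σ ^ i.val)⁻¹ := by
        rw [eq_mul_inv_iff_mul_eq, mul_assoc, h, ← mul_assoc, inv_mul_cancel, one_mul]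
      rw [h2]
      exact (Subgroup.zpowers D.σ).mul_mem (Subgroup.pow_mem _ (Subgroup.mem_zpowers D.σ) _)
        ((Subgroup.zpowers D.σ).inv_mem (Subgroup.pow_mem _ (Subgroup.mem_zpowers D.σ) _))
    rw [D.hdisj, Subgroup.mem_bot, inv_mul_eq_one] at h1
    have h3 : n = m := Subtype.ext h1.symm
    subst h3
    have h4 := mul_left_cancel h
    rw [pow_val_inj D h4]
  rw [← Fintype.sum_prod_type' (fun (n : D.N₀) (j : ZMod p) => F (n * D.σ ^ j.val))]
  rw [← Finset.sum_image (f := F) (g := fun a : D.N₀ × ZMod p => (a.1 : G) * D.σ ^ a.2.val)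
    (fun a _ b _ h => hinj a b h)]
  symm
  apply Finset.sum_subset (Finset.subset_univ _)
  intro x _ hx
  apply hF
  intro hxN
  apply hx
  obtain ⟨n, hn, y, hy, rfl⟩ := D.hsup x hxN
  have hfin : IsOfFinOrder D.σ := by
    rw [← orderOf_pos_iff, D.hσ]; exact hp.out.pos
  obtain ⟨k, hk⟩ := (IsOfFinOrder.mem_powers_iff_mem_zpowers hfin).2 hy
  have hk : D.σ ^ k = y := hk
  refine mem_image.2 ⟨(⟨n, hn⟩, (k : ZMod p)), mem_univ _, ?_⟩
  simp only
  congr 1
  rw [← hk, pow_eq_pow_iff_modEq, D.hσ, ZMod.val_natCast]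
  exact Nat.mod_modEq _ _

/-- the weighted multiplicity -/
noncomputable def SS (θ : D.W → ℂ) (g : ZMod p → ℂ) (χ : G → ℂ) : ℂ :=
  ((p : ℂ) * (Nat.card D.W : ℂ))⁻¹ * ∑ i : ZMod p, ∑ u : D.W, χ (D.σ ^ i.val * u) * (g i * conj (θ u))

theorem gram_general [Fintype D.N₀] [Fintype (IrrCharacter G)] (θ : D.W → ℂ) (g h : ZMod p → ℂ)
    (hg : g 0 = 0) :
    ∑ χ : IrrCharacter G, SS D θ g χ * conj (SS D θ h χ) =
      ((p : ℂ) * (Nat.card D.W : ℂ) * (Nat.card D.W : ℂ))⁻¹ * ∑ n : D.N₀,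
        (∑ i : ZMod p, g i * conj (h ((KK D n : ZMod p) * i))) *
          (∑ u : D.W, conj (θ u) * cjW D n θ u) := by
  classical
  have hp0 : (p : ℂ) ≠ 0 := by exact_mod_cast hp.out.ne_zero
  have hW0 : (Nat.card D.W : ℂ) ≠ 0 := by exact_mod_cast Nat.card_pos.ne'
  set c : ℂ := ((p : ℂ) * (Nat.card D.W : ℂ))⁻¹ with hc
  have hcc : conj c = c := by
    rw [hc, map_inv₀, map_mul, Complex.conj_natCast, Complex.conj_natCast]
  let X : ZMod p × D.W → G := fun q => D.σ ^ q.1.val * q.2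
  have hX : ∀ q : ZMod p × D.W, X q = Phi D (Multiplicative.ofAdd q.1, q.2) := fun q => rfl
  have hXinj : Function.Injective X := by
    intro a b hab
    rw [hX, hX] at hab
    have := Phi_injective D hab
    rw [Prod.mk.injEq] at this
    exact Prod.ext this.1 this.2
  have hSS : ∀ (g : ZMod p → ℂ) (χ : G → ℂ), SS D θ g χ =
      c * ∑ q : ZMod p × D.W, χ (X q) * (g q.1 * conj (θ q.2)) := by
    intro g χ
    rw [SS, Fintype.sum_prod_type]
  -- the function on the group
  let H : ZMod p × D.W → ℂ := fun q => conj (h q.1) * θ q.2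
  let Hh : G → ℂ := fun x => ∑ q : ZMod p × D.W, if x = X q then H q else 0
  have hHh : ∀ q, Hh (X q) = H q := by
    intro q
    have h1 : ∀ q', (if X q = X q' then H q' else 0) = if q' = q then H q' else 0 := by
      intro q'
      by_cases h : q' = q
      · rw [if_pos (by rw [h]), if_pos h]
      · rw [if_neg (fun h' => h (hXinj h').symm), if_neg h]
    change ∑ q', (if X q = X q' then H q' else 0) = H q
    rw [Finset.sum_congr rfl (fun q' _ => h1 q'), Finset.sum_ite_eq', if_pos (mem_univ _)]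
  have e1 : ∀ χ : IrrCharacter G, SS D θ g χ * conj (SS D θ h χ) =
      c * c * ∑ q : ZMod p × D.W, (g q.1 * conj (θ q.2)) * ∑ q' : ZMod p × D.W,
        H q' * ((χ : G → ℂ) (X q) * conj ((χ : G → ℂ) (X q'))) := by
    intro χ
    rw [hSS, hSS, map_mul, hcc, map_sum]
    have : c * (∑ q : ZMod p × D.W, (χ : G → ℂ) (X q) * (g q.1 * conj (θ q.2))) *
        (c * ∑ q : ZMod p × D.W, conj ((χ : G → ℂ) (X q) * (h q.1 * conj (θ q.2)))) =
        c * c * ((∑ q : ZMod p × D.W, (χ : G → ℂ) (X q) * (g q.1 * conj (θ q.2))) *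
        (∑ q : ZMod p × D.W, conj ((χ : G → ℂ) (X q) * (h q.1 * conj (θ q.2))))) := by ring
    rw [this, Finset.sum_mul_sum]
    congr 1
    refine Finset.sum_congr rfl (fun q _ => ?_)
    rw [Finset.mul_sum]
    refine Finset.sum_congr rfl (fun q' _ => ?_)
    simp only [H, map_mul, Complex.conj_conj]
    ring
  rw [Finset.sum_congr rfl (fun χ _ => e1 χ), ← Finset.mul_sum, Finset.sum_comm]
  have e2 : ∀ q : ZMod p × D.W, ∑ χ : IrrCharacter G, (g q.1 * conj (θ q.2)) *
      ∑ q' : ZMod p × D.W, H q' * ((χ : G → ℂ) (X q) * conj ((χ : G → ℂ) (X q'))) =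
      (g q.1 * conj (θ q.2)) * ∑ x : G, Hh (x * X q * x⁻¹) := by
    intro q
    rw [← Finset.mul_sum, Finset.sum_comm]
    congr 1
    have e3 : ∀ q', ∑ χ : IrrCharacter G, H q' * ((χ : G → ℂ) (X q) * conj ((χ : G → ℂ) (X q'))) =
        ∑ x : G, if x * X q * x⁻¹ = X q' then H q' else 0 := by
      intro q'
      rw [← Finset.mul_sum, H77.Conv.column_transporter, ← Finset.sum_filter, Finset.sum_const,
        nsmul_eq_mul, mul_comm]
      congr 2
      rw [Nat.card_eq_fintype_card, Fintype.card_subtype]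
    rw [Finset.sum_congr rfl (fun q' _ => e3 q'), Finset.sum_comm]
  rw [Finset.sum_congr rfl (fun q _ => e2 q)]
  -- evaluate the inner sum
  have e4 : ∀ q : ZMod p × D.W, (g q.1 * conj (θ q.2)) * ∑ x : G, Hh (x * X q * x⁻¹) =
      (g q.1 * conj (θ q.2)) * ((p : ℂ) * ∑ n : D.N₀, conj (h ((KK D n : ZMod p) * q.1)) *
        cjW D n θ q.2) := by
    intro q
    by_cases hq : q.1 = 0
    · rw [hq, hg, zero_mul, zero_mul, zero_mul]
    · congr 1
      rw [sum_normalizer D (fun x => Hh (x * X q * x⁻¹)), Finset.mul_sum]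
      · refine Finset.sum_congr rfl (fun n _ => ?_)
        have e5 : ∀ j : ZMod p, (n * D.σ ^ j.val : G) * X q * (n * D.σ ^ j.val : G)⁻¹ =
            X ((KK D n : ZMod p) * q.1, ⟨n * q.2 * (n : G)⁻¹, conj_mem_W D n q.2⟩) := by
          intro j
          have hcomm : D.σ ^ j.val * X q = X q * D.σ ^ j.val := by
            have h1 : Commute (q.2 : G) D.σ := D.W_comm q.2.2
            have h2 : Commute (X q) (D.σ ^ j.val) := by
              refine Commute.mul_left ?_ (h1.pow_right _)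
              exact (Commute.refl D.σ).pow_pow _ _
            exact h2.symm.eq
          calc (n * D.σ ^ j.val : G) * X q * (n * D.σ ^ j.val : G)⁻¹
              = n * (D.σ ^ j.val * X q) * (D.σ ^ j.val)⁻¹ * (n : G)⁻¹ := by group
            _ = n * X q * (n : G)⁻¹ := by rw [hcomm]; group
            _ = (n * D.σ ^ q.1.val * (n : G)⁻¹) * (n * q.2 * (n : G)⁻¹) := by
                simp only [X]; group
            _ = _ := by rw [KK_conj]
        rw [Finset.sum_congr rfl (fun j _ => by rw [e5 j, hHh]), Finset.sum_const, Finset.card_univ,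
          ZMod.card, nsmul_eq_mul]
        rfl
      · intro x hx
        apply Finset.sum_eq_zero
        intro q' _
        rw [if_neg]
        intro h
        apply hx
        rw [hX, hX] at h
        exact mem_normalizer_of_Phi D (q := (Multiplicative.ofAdd q.1, q.2)) hq h
  rw [Finset.sum_congr rfl (fun q _ => e4 q)]
  -- rearrange
  have e6 : ∀ q : ZMod p × D.W, (g q.1 * conj (θ q.2)) * ((p : ℂ) * ∑ n : D.N₀,
      conj (h ((KK D n : ZMod p) * q.1)) * cjW D n θ q.2) =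
      ∑ n : D.N₀, (p : ℂ) * ((g q.1 * conj (h ((KK D n : ZMod p) * q.1))) *
        (conj (θ q.2) * cjW D n θ q.2)) := by
    intro q
    rw [Finset.mul_sum, Finset.mul_sum]
    refine Finset.sum_congr rfl (fun n _ => ?_)
    ring
  rw [Finset.sum_congr rfl (fun q _ => e6 q), Finset.sum_comm, Finset.mul_sum, Finset.mul_sum]
  refine Finset.sum_congr rfl (fun n _ => ?_)
  rw [← Finset.mul_sum, Fintype.sum_prod_type, Finset.sum_mul_sum]
  rw [hc]
  field_simp

end H67.DefOne
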