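import Mathlib
import Cfsg.Agent.Lib.H67.LatGal

set_option autoImplicit false

/-! Local multiplicities of irreducible characters, main theorem. -/

namespace H67.Lat

open Finset Cfsg H18.CharBasic H18.CharOrtho H18.CharInd
open scoped ComplexConjugate

section value

variable {R : Type*} [CommRing R] (ι : R →+* ℂ)

theorem sum_units_pow {p : ℕ} [Fact p.Prime] {β : ℂ} (hβ : β ^ p = 1) :
    ∃ k : ℤ, ∑ a : (ZMod p)ˣ, β ^ (a : ZMod p).val = k := by
  have hp : p.Prime := Fact.out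
  rw [← sum_Ico_units (fun i => β ^ i)]
  have h1 : ∑ i ∈ range p, β ^ i = ∑ i ∈ Ico 1 p, β ^ i + 1 := by
    rw [Finset.range_eq_Ico, Finset.sum_eq_sum_Ico_succ_bot hp.pos, pow_zero, add_comm]
  by_cases h : β = 1
  · refine ⟨(p : ℤ) - 1, ?_⟩
    rw [h] at h1 ⊢
    simp only [one_pow, sum_const, card_range, nsmul_eq_mul, mul_one] at h1 ⊢
    rw [Nat.card_Ico]
    push_cast
    rw [Nat.cast_sub hp.one_lt.le]
    simp
  · refine ⟨-1, ?_⟩
    have h2 : ∑ i ∈ range p, β ^ i = 0 := by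
      have h3 := mul_geom_sum β p
      rw [hβ, sub_self] at h3
      rcases mul_eq_zero.1 h3 with h4 | h4
      · exact absurd (sub_eq_zero.1 h4) h
      · exact h4
    rw [h2] at h1
    push_cast
    linear_combination -h1

theorem ex_value {p m s0 c0 : ℕ} [Fact p.Prime] (h2 : s0 ≡ 0 [MOD p]) (h3 : c0 ≡ 0 [MOD m])
    (hroot : ∀ z : ℂ, z ^ m = 1 → ∃ r : R, ι r = z) {G : Type*} [Group G] [Finite G]
    (hG : Nat.card G = p * m) {ψ : G → ℂ} (hψ : IsCharacter G ψ) (g : G) :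
    ∃ r : R, ι r = ∑ a : (ZMod p)ˣ, ψ (g ^ ex p s0 c0 a) := by
  obtain ⟨n, ρ, rfl⟩ := hψ
  obtain ⟨b, μ, -, hμ, hk⟩ := H4.Eigen.exists_eigen_of_finite ρ g
  have hμ' : ∀ i, μ i ^ (p * m) = 1 := by
    intro i
    obtain ⟨k, hk⟩ : orderOf g ∣ p * m := by rw [← hG]; exact orderOf_dvd_natCard g
    rw [hk, pow_mul, hμ, one_pow]
  have h5 : ∀ i, ∃ r : R, ι r = ∑ a : (ZMod p)ˣ, μ i ^ ex p s0 c0 a := by
    intro i
    obtain ⟨k0, hk0⟩ := (Nat.modEq_zero_iff_dvd).1 h2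
    obtain ⟨k1, hk1⟩ := (Nat.modEq_zero_iff_dvd).1 h3
    obtain ⟨r, hr⟩ := hroot (μ i ^ s0) (by
      rw [← pow_mul, hk0, show p * k0 * m = (p * m) * k0 by ring, pow_mul, hμ', one_pow])
    obtain ⟨k, hk⟩ := sum_units_pow (p := p) (β := μ i ^ c0) (by
      rw [← pow_mul, hk1, show m * k1 * p = (p * m) * k1 by ring, pow_mul, hμ', one_pow])
    refine ⟨r * k, ?_⟩
    rw [map_mul, map_intCast, hr, ← hk, Finset.mul_sum]
    refine Finset.sum_congr rfl (fun a _ => ?_)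
    rw [ex, pow_add, mul_comm ((a : ZMod p).val) c0, pow_mul]
  choose r hr using h5
  refine ⟨∑ i, r i, ?_⟩
  rw [map_sum, Finset.sum_congr rfl (fun i _ => hr i), Finset.sum_comm]
  exact Finset.sum_congr rfl (fun a _ => (hk _).symm)

end value

section orbit

variable {p m s0 c0 : ℕ} {G : Type*} [Group G] [Fintype G]

/-- the conjugate of a character by a unit -/
noncomputable def cjg (p s0 c0 : ℕ) (ψ : G → ℂ) (a : (ZMod p)ˣ) : G → ℂ :=
  fun g => ψ (g ^ ex p s0 c0 a)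

theorem cjg_irr (hp : p.Prime) (h1 : s0 ≡ 1 [MOD m]) (h2 : s0 ≡ 0 [MOD p]) (h3 : c0 ≡ 0 [MOD m])
    (h4 : c0 ≡ 1 [MOD p]) (hG : Nat.card G = p * m) {ψ : G → ℂ} (hψ : IsIrrCharacter G ψ)
    (a : (ZMod p)ˣ) : IsIrrCharacter G (cjg p s0 c0 ψ a) :=
  H78.GalStab.irr_pw (by rw [hG]; exact ex_coprime h1 h2 h3 h4 hp a) hψ

theorem cjg_mul (hp : p.Prime) (hm : ¬ p ∣ m) (h1 : s0 ≡ 1 [MOD m]) (h2 : s0 ≡ 0 [MOD p])
    (h3 : c0 ≡ 0 [MOD m]) (h4 : c0 ≡ 1 [MOD p]) (hG : Nat.card G = p * m) (ψ : G → ℂ)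
    (a b : (ZMod p)ˣ) (g : G) : cjg p s0 c0 ψ (a * b) g = cjg p s0 c0 ψ a (g ^ ex p s0 c0 b) := by
  rw [cjg, cjg, ← pow_mul]
  congr 1
  rw [pow_eq_pow_iff_modEq]
  have h := ex_mul h1 h2 h3 h4 hp hm b a
  rw [mul_comm b a] at h
  exact (h.symm).of_dvd (by rw [← hG]; exact orderOf_dvd_natCard g)

theorem cjg_eq_mul (hp : p.Prime) (hm : ¬ p ∣ m) (h1 : s0 ≡ 1 [MOD m]) (h2 : s0 ≡ 0 [MOD p])
    (h3 : c0 ≡ 0 [MOD m]) (h4 : c0 ≡ 1 [MOD p]) (hG : Nat.card G = p * m) (ψ : G → ℂ)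
    {a b : (ZMod p)ˣ} (c : (ZMod p)ˣ) (h : cjg p s0 c0 ψ a = cjg p s0 c0 ψ b) :
    cjg p s0 c0 ψ (a * c) = cjg p s0 c0 ψ (b * c) := by
  funext g
  rw [cjg_mul hp hm h1 h2 h3 h4 hG, cjg_mul hp hm h1 h2 h3 h4 hG, h]

open Classical in
/-- the number of conjugates equal to a given one is constant -/
theorem card_eq_const (hp : p.Prime) [Fintype (ZMod p)ˣ] (hm : ¬ p ∣ m) (h1 : s0 ≡ 1 [MOD m])
    (h2 : s0 ≡ 0 [MOD p])
    (h3 : c0 ≡ 0 [MOD m]) (h4 : c0 ≡ 1 [MOD p]) (hG : Nat.card G = p * m) (ψ : G → ℂ)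
    (b : (ZMod p)ˣ) :
    ((univ : Finset (ZMod p)ˣ).filter (fun a => cjg p s0 c0 ψ a = cjg p s0 c0 ψ b)).card =
      ((univ : Finset (ZMod p)ˣ).filter (fun a => cjg p s0 c0 ψ a = cjg p s0 c0 ψ 1)).card := by
  refine Finset.card_bij' (fun a _ => a * b⁻¹) (fun a _ => a * b) ?_ ?_ ?_ ?_
  · intro a ha
    rw [mem_filter] at ha ⊢
    refine ⟨mem_univ _, ?_⟩
    have := cjg_eq_mul hp hm h1 h2 h3 h4 hG ψ b⁻¹ ha.2
    rwa [mul_inv_cancel] at this
  · intro a ha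
    rw [mem_filter] at ha ⊢
    refine ⟨mem_univ _, ?_⟩
    have := cjg_eq_mul hp hm h1 h2 h3 h4 hG ψ b ha.2
    rwa [one_mul] at this
  · intro a _; exact inv_mul_cancel_right a b
  · intro a _; exact mul_inv_cancel_right a b

end orbit

/-- Local multiplicities, averaged: Theorem C. -/
theorem local_mult {p : ℕ} (hp : p.Prime) {G : Type*} [Group G] [Fintype G]
    (hp2 : ¬ p ^ 2 ∣ Nat.card G) (D : Dat p G) [Fintype D.W] {ψ : G → ℂ} (hψ : IsIrrCharacter G ψ) :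
    ∃ M : ℕ, 1 ≤ M ∧ ∀ θ : D.W → ℂ, IsIrrCharacter D.W θ →
      ((M : ℂ) * ∑ i ∈ Ico 1 p, FF D.W ψ θ (D.σ ^ i) = 0 ∨
      (M : ℂ) * ∑ i ∈ Ico 1 p, FF D.W ψ θ (D.σ ^ i) = (p : ℂ) - 1 ∨
      (M : ℂ) * ∑ i ∈ Ico 1 p, FF D.W ψ θ (D.σ ^ i) = -((p : ℂ) - 1)) := by
  classical
  have := Fact.mk hp
  have hpG : p ∣ Nat.card G := by
    rw [← D.hσ]; exact orderOf_dvd_natCard D.σ
  obtain ⟨m, hG⟩ := hpG
  have hm : ¬ p ∣ m := by
    intro h
    apply hp2
    rw [hG, pow_two]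
    exact Nat.mul_dvd_mul_left p h
  obtain ⟨s0, c0, h1, h2, h3, h4⟩ := exists_exponents hp hm
  obtain ⟨R, _, _, _, ι, hι, hR, hroot⟩ := exists_ring p m hm
  have hcz : CharZero R := by
    refine charZero_of_inj_zero (fun n hn => ?_)
    have : ι (n : R) = 0 := by rw [hn, map_zero]
    rw [map_natCast] at this
    exact_mod_cast this
  have hψc := isCharacter_of_isIrr hψ
  have hψ1 : ψ 1 ≠ 0 := irr_one_ne_zero hψ
  -- the integral class function
  choose Eh hEh using ex_value ι (p := p) (m := m) (s0 := s0) (c0 := c0) h2 h3 hroot hG hψc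
  have hEh' : ∀ g, ι (Eh g) = ∑ a : (ZMod p)ˣ, cjg p s0 c0 ψ a g := hEh
  have hirr : ∀ a, IsIrrCharacter G (cjg p s0 c0 ψ a) := cjg_irr hp h1 h2 h3 h4 hG hψ
  have hdeg : ∀ a, cjg p s0 c0 ψ a 1 = ψ 1 := by
    intro a; rw [cjg, one_pow]
  -- the constant
  obtain ⟨d, hd⟩ : ∃ d : ℕ, ψ 1 = d := by
    obtain ⟨n, ρ, hρ⟩ := hψc
    exact ⟨_, by rw [← hρ, Representation.char_one]⟩
  have hdvd : d ∣ Nat.card G := H77.Degree.degree_dvd_card hψ hd
  obtain ⟨e, he⟩ := hdvd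
  have hd0 : (d : ℂ) ≠ 0 := by rw [← hd]; exact hψ1
  have he' : (Nat.card G : ℂ) / ψ 1 = e := by
    rw [hd, he, Nat.cast_mul, mul_div_cancel_left₀ _ hd0]
  set κ := ((univ : Finset (ZMod p)ˣ).filter (fun a => cjg p s0 c0 ψ a = cjg p s0 c0 ψ 1)).card with hκ
  have hκ1 : 0 < κ := by
    apply Finset.card_pos.2
    exact ⟨1, mem_filter.2 ⟨mem_univ _, rfl⟩⟩
  have hcl : ∀ g h, Eh (h * g * h⁻¹) = Eh g := by
    intro g h
    apply hι
    rw [hEh', hEh']
    refine Finset.sum_congr rfl (fun a _ => ?_)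
    exact isClassFunction_of_isIrr (hirr a) g h
  have hconv : ∀ k, ∑ x : G, Eh x * Eh (x⁻¹ * k) = ((κ * e : ℕ) : R) * Eh k := by
    intro k
    apply hι
    rw [map_sum, map_mul, map_natCast, hEh']
    have e1 : ∀ x, ι (Eh x * Eh (x⁻¹ * k)) = ∑ b : (ZMod p)ˣ, ∑ a : (ZMod p)ˣ,
        cjg p s0 c0 ψ a x * cjg p s0 c0 ψ b (x⁻¹ * k) := by
      intro x
      rw [map_mul, hEh', hEh', Finset.sum_mul_sum, Finset.sum_comm]
    rw [Finset.sum_congr rfl (fun x _ => e1 x), Finset.sum_comm, Finset.mul_sum]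
    refine Finset.sum_congr rfl (fun b _ => ?_)
    rw [Finset.sum_comm]
    have e2 : ∀ a, ∑ x : G, cjg p s0 c0 ψ a x * cjg p s0 c0 ψ b (x⁻¹ * k) =
        if cjg p s0 c0 ψ a = cjg p s0 c0 ψ b then (e : ℂ) * cjg p s0 c0 ψ b k else 0 := by
      intro a
      rw [H77.Conv.sum_mul_irr (isClassFunction_of_isIrr (hirr a)) (hirr b), hdeg]
      split_ifs with h
      · rw [h, inner_irr_self (hirr b), one_mul, ← he']
        ring
      · rw [inner_irr_ne (hirr a) (hirr b) h]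
        ring
    rw [Finset.sum_congr rfl (fun a _ => e2 a), ← Finset.sum_filter, Finset.sum_const,
      card_eq_const hp hm h1 h2 h3 h4 hG ψ b, ← hκ, nsmul_eq_mul]
    push_cast
    ring
  have hE1 : Eh 1 ≠ 0 := by
    intro h
    have h5 := hEh' 1
    rw [h, map_zero, Finset.sum_congr rfl (fun a _ => hdeg a), Finset.sum_const, nsmul_eq_mul] at h5
    rcases mul_eq_zero.1 h5.symm with h6 | h6
    · have : (univ : Finset (ZMod p)ˣ).card = 0 := by exact_mod_cast h6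
      rw [Finset.card_eq_zero] at this
      exact absurd (this ▸ mem_univ (1 : (ZMod p)ˣ)) (Finset.notMem_empty _)
    · exact hψ1 h6
  obtain ⟨n, ρ, hn, hind, hZ⟩ := exists_indec hconv hcl hE1
  -- the character of the lattice
  set χ : G → ℂ := fun g => ι (LinearMap.trace R _ (ρ g)) with hχ
  have hχc : IsCharacter G χ := isCharacter_lattice ι ρ
  have hχcl := isClassFunction_of_isCharacter hχc
  have hmul : ∀ a, ∃ k : ℕ, classInner χ (cjg p s0 c0 ψ a) = k := fun a =>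
    inner_char_natCast hχc (isCharacter_of_isIrr (hirr a))
  choose mu hmu using hmul
  have hexp : ∀ g, ((κ * e : ℕ) : ℂ) * χ g = (e : ℂ) * ∑ a : (ZMod p)ˣ, mu a * cjg p s0 c0 ψ a g := by
    intro g
    have e1 : ((κ * e : ℕ) : R) * LinearMap.trace R _ (ρ g) =
        ∑ h : G, Eh h⁻¹ * LinearMap.trace R _ (ρ (h * g)) := by
      have e2 : ZE Eh ρ * ρ g = ((κ * e : ℕ) : R) • ρ g := by
        refine LinearMap.ext (fun v => ?_)
        rw [Module.End.mul_apply, hZ, LinearMap.smul_apply]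
      have e3 := congrArg (LinearMap.trace R (Fin n → R)) e2
      rw [map_smul, smul_eq_mul, ZE, Finset.sum_mul, map_sum] at e3
      rw [← e3]
      refine Finset.sum_congr rfl (fun h _ => ?_)
      rw [smul_mul_assoc, map_smul, smul_eq_mul, map_mul ρ]
    have e4 := congrArg ι e1
    rw [map_mul, map_natCast, map_sum] at e4
    rw [show χ g = ι (LinearMap.trace R _ (ρ g)) from rfl, e4]
    have e5 : ∀ h, ι (Eh h⁻¹ * LinearMap.trace R _ (ρ (h * g))) =
        ∑ a : (ZMod p)ˣ, cjg p s0 c0 ψ a h⁻¹ * χ (h * g) := by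
      intro h
      rw [map_mul, hEh', Finset.sum_mul]
    rw [Finset.sum_congr rfl (fun h _ => e5 h), Finset.sum_comm, Finset.mul_sum]
    refine Finset.sum_congr rfl (fun a _ => ?_)
    have e6 : ∑ h : G, cjg p s0 c0 ψ a h⁻¹ * χ (h * g) =
        ∑ x : G, χ x * cjg p s0 c0 ψ a (x⁻¹ * g) := by
      refine Fintype.sum_equiv (Equiv.mulRight g) _ _ (fun h => ?_)
      rw [Equiv.coe_mulRight, mul_comm]
      congr 1
      have e7 : (h * g)⁻¹ * g = g⁻¹ * h⁻¹ * (g⁻¹)⁻¹ := by group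
      rw [e7]
      exact (isClassFunction_of_isIrr (hirr a) h⁻¹ g⁻¹).symm
    rw [e6, H77.Conv.sum_mul_irr hχcl (hirr a), hmu, hdeg, ← he']
    ring
  -- unit elements of the ring
  have hunit : ∀ k : ℕ, ¬ p ∣ k → IsUnit (k : R) := fun k hk => hR.natCast_unit hk
  have hNp := D.hNp
  have hWdvd : Nat.card D.W ∣ Nat.card D.N₀ := Subgroup.card_dvd_of_le D.W_le
  have hWp : ¬ p ∣ Nat.card D.W := fun h => hNp (h.trans hWdvd)
  have hsub : ∀ K : Subgroup G, ¬ p ∣ Nat.card K → Nat.card K ∣ m := by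
    intro K hK
    have h5 : Nat.card K ∣ p * m := by rw [← hG]; exact Subgroup.card_subgroup_dvd_card K
    exact ((hp.coprime_iff_not_dvd.2 hK).symm).dvd_of_dvd_mul_left h5
  have hrootK : ∀ K : Subgroup G, ¬ p ∣ Nat.card K → ∀ z : ℂ, z ^ Monoid.exponent K = 1 →
      ∃ r : R, ι r = z := by
    intro K hK z hz
    apply hroot
    obtain ⟨k, hk⟩ := (Group.exponent_dvd_nat_card (G := K)).trans (hsub K hK)
    rw [hk, pow_mul, hz, one_pow]
  -- systems for the complement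
  let _ : Fintype D.N₀ := Fintype.ofFinite _
  let _ : Fintype (IrrCharacter D.N₀) := Fintype.ofFinite _
  have hS : ∀ Ψ : IrrCharacter D.N₀, ∃ S : MatSys D.N₀ R, ∀ g, ι (S.M g).trace = (Ψ : D.N₀ → ℂ) g :=
    fun Ψ => exists_matSys ι hι (hrootK D.N₀ hNp) Ψ.2
  choose S hS' using hS
  have hcN : (Fintype.card D.N₀ : ℕ) = Nat.card D.N₀ := Nat.card_eq_fintype_card.symm
  have hcW : (Fintype.card D.W : ℕ) = Nat.card D.W := Nat.card_eq_fintype_card.symm
  have hNu : IsUnit (Fintype.card D.N₀ : R) := by rw [hcN]; exact hunit _ hNp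
  have hWu : IsUnit (Fintype.card D.W : R) := by rw [hcW]; exact hunit _ hWp
  have hdunit : ∀ (Q : Subgroup G) [Fintype Q] (_ : IsUnit (Fintype.card Q : R)) (T : MatSys Q R)
      {θ : Q → ℂ} (_ : IsIrrCharacter Q θ) (_ : ∀ g, ι (T.M g).trace = θ g), IsUnit (T.d : R) := by
    intro Q _ hQ T θ hθ hT
    have h5 := T.degree ι hT
    have h6 : T.d ≠ 0 := by
      intro h
      rw [h, Nat.cast_zero] at h5
      exact irr_one_ne_zero hθ h5
    have h7 := T.schur ⟨0, Nat.pos_of_ne_zero h6⟩ ⟨0, Nat.pos_of_ne_zero h6⟩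
      ⟨0, Nat.pos_of_ne_zero h6⟩ ⟨0, Nat.pos_of_ne_zero h6⟩
    rw [if_pos ⟨rfl, rfl⟩] at h7
    exact isUnit_of_dvd_unit ⟨_, h7.symm⟩ hQ
  have hcomp1 : ∑ Ψ : IrrCharacter D.N₀, ((S Ψ).d : R) * ((S Ψ).M 1).trace =
      (Fintype.card D.N₀ : R) := by
    apply hι
    rw [map_sum, map_natCast, hcN, ← H18.CharInd.sum_degree_sq]
    refine Finset.sum_congr rfl (fun Ψ _ => ?_)
    rw [map_mul, map_natCast, hS', ← (S Ψ).degree ι (hS' Ψ), pow_two]
  have hcomp : ∀ g : D.N₀, g ≠ 1 → ∑ Ψ : IrrCharacter D.N₀, ((S Ψ).d : R) * ((S Ψ).M g).trace = 0 := by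
    intro g hg
    apply hι
    rw [map_sum, map_zero, ← H18.CharInd.sum_degree_mul hg]
    refine Finset.sum_congr rfl (fun Ψ _ => ?_)
    rw [map_mul, map_natCast, hS', ← (S Ψ).degree ι (hS' Ψ)]
  -- the main computation for the lattice
  have hlat : ∀ θ : D.W → ℂ, IsIrrCharacter D.W θ →
      (∑ i ∈ Ico 1 p, FF D.W χ θ (D.σ ^ i) = 0 ∨ ∑ i ∈ Ico 1 p, FF D.W χ θ (D.σ ^ i) = (p : ℂ) - 1 ∨
      ∑ i ∈ Ico 1 p, FF D.W χ θ (D.σ ^ i) = -((p : ℂ) - 1)) := by
    intro θ hθ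
    obtain ⟨T, hT⟩ := exists_matSys ι hι (hrootK D.W hWp) hθ
    have hθc := isCharacter_of_isIrr hθ
    have hinv : ∀ u : D.W, ι (T.M u⁻¹).trace = conj (θ u) := by
      intro u
      rw [hT, char_inv hθc]
    have hmult : ∀ Ψ : IrrCharacter D.N₀,
        ∑ w : D.W, (T.M w⁻¹).trace * ((S Ψ).M (Subgroup.inclusion D.W_le w)).trace = 0 ∨
        ∑ w : D.W, (T.M w⁻¹).trace * ((S Ψ).M (Subgroup.inclusion D.W_le w)).trace =
          (Fintype.card D.W : R) := by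
      intro Ψ
      let W' := D.W.subgroupOf D.N₀
      let _ : Fintype W' := Fintype.ofFinite _
      let eW : W' ≃* D.W := Subgroup.subgroupOfEquivOfLe D.W_le
      have hθ' : IsIrrCharacter W' (fun w => θ (eW w)) :=
        (H18.CharQuot.isIrrCharacter_mulEquiv eW).1 hθ
      have e1 : ι (∑ w : D.W, (T.M w⁻¹).trace * ((S Ψ).M (Subgroup.inclusion D.W_le w)).trace) =
          (Fintype.card D.W : ℂ) * classInner (fun w : W' => (Ψ : D.N₀ → ℂ) w) (fun w => θ (eW w)) := by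
        rw [map_sum, classInner]
        have e2 : (Nat.card W' : ℂ) = (Fintype.card D.W : ℂ) := by
          rw [hcW]
          congr 1
          exact Nat.card_congr eW.toEquiv
        have e3 : (Fintype.card D.W : ℂ) ≠ 0 := by
          exact_mod_cast Fintype.card_ne_zero
        rw [e2, ← mul_assoc, mul_inv_cancel₀ e3, one_mul]
        refine Fintype.sum_equiv eW.symm.toEquiv _ _ (fun w => ?_)
        rw [map_mul, hinv, hS', mul_comm]
        change _ = (Ψ : D.N₀ → ℂ) ((eW.symm w : W') : D.N₀) * conj (θ (eW (eW.symm w)))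
        rw [eW.apply_symm_apply]
        rfl
      rcases mult_free W' (D.cyclic hp) Ψ.2 hθ' with h | h
      · left
        apply hι
        rw [e1, h, mul_zero, map_zero]
      · right
        apply hι
        rw [e1, h, mul_one, map_natCast]
    have key := indec_trace_theta hR ρ hind D.hσ D.N₀ D.hN₀ D.hsup D.hdisj hNu S
      (fun Ψ => hdunit D.N₀ hNu (S Ψ) Ψ.2 (hS' Ψ)) hcomp1 hcomp D.W D.W_le
      (fun u hu => D.W_comm hu) hWu T (hdunit D.W hWu T hθ hT) hmult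
    have hc0 : (Nat.card D.W : ℂ) ≠ 0 := by exact_mod_cast Nat.card_pos.ne'
    have e4 : ι (∑ i ∈ Ico 1 p, ∑ u : D.W, (T.M u⁻¹).trace * LinearMap.trace R _ (ρ (D.σ ^ i * u))) =
        (Nat.card D.W : ℂ) * ∑ i ∈ Ico 1 p, FF D.W χ θ (D.σ ^ i) := by
      rw [map_sum, Finset.mul_sum]
      refine Finset.sum_congr rfl (fun i _ => ?_)
      rw [FF, ← mul_assoc, mul_inv_cancel₀ hc0, one_mul, map_sum]
      refine Finset.sum_congr rfl (fun u _ => ?_)
      rw [map_mul, hinv, mul_comm]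
    rcases key with h | h | h
    · left
      rw [h, map_zero] at e4
      exact (mul_eq_zero.1 e4.symm).resolve_left hc0
    · right; left
      rw [h, map_mul, map_natCast, map_sub, map_natCast, map_one, hcW] at e4
      exact (mul_left_cancel₀ hc0 e4).symm
    · right; right
      rw [h, map_neg, map_mul, map_natCast, map_sub, map_natCast, map_one, hcW, ← mul_neg] at e4
      exact (mul_left_cancel₀ hc0 e4).symm
  -- invariance of the averages
  have hinvar : ∀ (a : (ZMod p)ˣ) (θ : D.W → ℂ), ∑ i ∈ Ico 1 p, FF D.W (cjg p s0 c0 ψ a) θ (D.σ ^ i) =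
      ∑ i ∈ Ico 1 p, FF D.W ψ θ (D.σ ^ i) := by
    intro a θ
    rw [sum_Ico_units (fun i => FF D.W (cjg p s0 c0 ψ a) θ (D.σ ^ i)),
      sum_Ico_units (fun i => FF D.W ψ θ (D.σ ^ i))]
    refine Fintype.sum_equiv (Equiv.mulRight a) _ _ (fun b => ?_)
    rw [FF, FF]
    congr 1
    refine Finset.sum_congr rfl (fun u _ => ?_)
    congr 1
    rw [cjg]
    congr 1
    have hcomm : Commute (D.σ ^ (b : ZMod p).val) (u : G) := by
      have : Commute (u : G) D.σ := D.W_comm u.2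
      exact (this.pow_right _).symm
    rw [hcomm.mul_pow, ← pow_mul]
    congr 1
    · rw [pow_eq_pow_iff_modEq, D.hσ, ← ZMod.natCast_eq_natCast_iff, Nat.cast_mul, ex_cast h2 h4,
        ZMod.natCast_zmod_val, Equiv.coe_mulRight, ZMod.natCast_zmod_val, Units.val_mul]
    · have h5 : (u : G) ^ ex p s0 c0 a = (u : G) ^ 1 := by
        rw [pow_eq_pow_iff_modEq]
        refine (ex_mod_m h1 h3 a).of_dvd ?_
        rw [Subgroup.orderOf_coe]
        exact (orderOf_dvd_natCard u).trans (hsub D.W hWp)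
      rw [h5, pow_one]
  -- conclusion
  have hrel : ∀ θ : D.W → ℂ, (κ : ℂ) * ∑ i ∈ Ico 1 p, FF D.W χ θ (D.σ ^ i) =
      (∑ a : (ZMod p)ˣ, (mu a : ℂ)) * ∑ i ∈ Ico 1 p, FF D.W ψ θ (D.σ ^ i) := by
    intro θ
    have he0 : (e : ℂ) ≠ 0 := by
      intro h
      have : e = 0 := by exact_mod_cast h
      rw [this, mul_zero] at he
      exact Nat.card_pos.ne' he
    apply mul_left_cancel₀ he0
    have e1 : ∀ x, ((κ * e : ℕ) : ℂ) * FF D.W χ θ x =
        (e : ℂ) * ∑ a : (ZMod p)ˣ, mu a * FF D.W (cjg p s0 c0 ψ a) θ x := by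
      intro x
      simp only [FF]
      rw [mul_left_comm, Finset.mul_sum]
      have e2 : ∀ u : D.W, ((κ * e : ℕ) : ℂ) * (χ (x * u) * conj (θ u)) =
          ∑ a : (ZMod p)ˣ, (e : ℂ) * (mu a * (cjg p s0 c0 ψ a (x * u) * conj (θ u))) := by
        intro u
        rw [← mul_assoc, hexp, mul_assoc, Finset.sum_mul, Finset.mul_sum]
        exact Finset.sum_congr rfl (fun a _ => by ring)
      rw [Finset.sum_congr rfl (fun u _ => e2 u), Finset.sum_comm, Finset.mul_sum, Finset.mul_sum]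
      refine Finset.sum_congr rfl (fun a _ => ?_)
      rw [← Finset.mul_sum, ← Finset.mul_sum]
      ring
    calc (e : ℂ) * ((κ : ℂ) * ∑ i ∈ Ico 1 p, FF D.W χ θ (D.σ ^ i))
        = ∑ i ∈ Ico 1 p, ((κ * e : ℕ) : ℂ) * FF D.W χ θ (D.σ ^ i) := by
          rw [← Finset.mul_sum]; push_cast; ring
      _ = ∑ i ∈ Ico 1 p, (e : ℂ) * ∑ a : (ZMod p)ˣ, mu a * FF D.W (cjg p s0 c0 ψ a) θ (D.σ ^ i) :=
          Finset.sum_congr rfl (fun i _ => e1 _)
      _ = (e : ℂ) * ((∑ a : (ZMod p)ˣ, (mu a : ℂ)) * ∑ i ∈ Ico 1 p, FF D.W ψ θ (D.σ ^ i)) := by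
          rw [← Finset.mul_sum, Finset.sum_comm, Finset.sum_mul]
          congr 1
          refine Finset.sum_congr rfl (fun a _ => ?_)
          rw [← Finset.mul_sum, hinvar]
  -- the multiplicity is at least one
  have hmu_const : ∀ a b, cjg p s0 c0 ψ a = cjg p s0 c0 ψ b → mu a = mu b := by
    intro a b hab
    have : (mu a : ℂ) = mu b := by rw [← hmu, ← hmu, hab]
    exact_mod_cast this
  obtain ⟨a0, ha0⟩ : ∃ a, mu a ≠ 0 := by
    by_contra hcon
    push Not at hcon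
    have h5 := hexp 1
    rw [Finset.sum_eq_zero (fun a _ => by rw [hcon a, Nat.cast_zero, zero_mul]), mul_zero] at h5
    rcases mul_eq_zero.1 h5 with h6 | h6
    · have h7 : κ * e = 0 := by exact_mod_cast h6
      rcases Nat.mul_eq_zero.1 h7 with h8 | h8
      · omega
      · rw [h8, mul_zero] at he
        exact Nat.card_pos.ne' he
    · have h7 : χ 1 = n := by
        change ι (LinearMap.trace R _ (ρ 1)) = n
        rw [map_one, LinearMap.trace_one, Module.finrank_fin_fun, map_natCast]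
      rw [h7] at h6
      have : n = 0 := by exact_mod_cast h6
      omega
  obtain ⟨M, hM⟩ : κ ∣ ∑ a : (ZMod p)ˣ, mu a := by
    rw [← Finset.sum_fiberwise_of_maps_to (s := univ) (t := univ.image (cjg p s0 c0 ψ))
      (g := cjg p s0 c0 ψ) (fun a _ => mem_image_of_mem _ (mem_univ _))]
    apply Finset.dvd_sum
    intro φ hφ
    obtain ⟨b, _, rfl⟩ := mem_image.1 hφ
    rw [Finset.sum_congr rfl (fun a ha => hmu_const a b (mem_filter.1 ha).2), Finset.sum_const,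
      card_eq_const hp hm h1 h2 h3 h4 hG ψ b, smul_eq_mul]
    exact dvd_mul_right _ _
  have hM1 : 1 ≤ M := by
    rcases Nat.eq_zero_or_pos M with h | h
    · exfalso
      rw [h, mul_zero] at hM
      exact ha0 (Finset.sum_eq_zero_iff.1 hM a0 (mem_univ _))
    · exact h
  refine ⟨M, hM1, ?_⟩
  intro θ hθ
  have hκC : (κ : ℂ) ≠ 0 := by exact_mod_cast hκ1.ne'
  have h5 : (M : ℂ) * ∑ i ∈ Ico 1 p, FF D.W ψ θ (D.σ ^ i) =
      ∑ i ∈ Ico 1 p, FF D.W χ θ (D.σ ^ i) := by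
    apply mul_left_cancel₀ hκC
    rw [hrel θ, ← mul_assoc]
    congr 1
    rw [← Nat.cast_sum, hM, Nat.cast_mul]
  rw [h5]
  exact hlat θ hθ

end H67.Lat
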