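import Mathlib
import Cfsg.Agent.Lib.H67.DefOne3
import Cfsg.Agent.Lib.H67.DefComb
import Cfsg.Agent.Lib.H67.LatGal2

set_option autoImplicit false

/-! The characters attached to a character of the complement of the Sylow subgroup in its
centralizer: Brauer's theory of blocks of defect one. -/

namespace H67.DefOne

open Finset Cfsg H18.CharBasic H18.CharOrtho H18.CharInd H67.Lat
open scoped ComplexConjugate

variable {p : ℕ} [hp : Fact p.Prime] {G : Type*} [Group G] [Fintype G] (D : Dat p G) [Fintype D.W]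

theorem sum_units_eq (f : ZMod p → ℂ) : ∑ b : (ZMod p)ˣ, f b = ∑ b : ZMod p, f b - f 0 := by
  classical
  have h1 : ∑ b : (ZMod p)ˣ, f b = ∑ b ∈ univ.erase (0 : ZMod p), f b := by
    refine Finset.sum_bij (fun (a : (ZMod p)ˣ) _ => (a : ZMod p)) ?_ ?_ ?_ (fun _ _ => rfl)
    · intro a _; exact mem_erase.2 ⟨a.ne_zero, mem_univ _⟩
    · intro a _ b _ h; exact Units.ext h
    · intro b hb
      exact ⟨Units.mk0 b (mem_erase.1 hb).1, mem_univ _, rfl⟩
  rw [h1, Finset.sum_erase_eq_sub (mem_univ _)]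

/-- the weight attached to `b` -/
noncomputable def gg (b : ZMod p) : ZMod p → ℂ := fun i => 1 - conj (ee (b * i))

theorem gg_zero (b : ZMod p) : gg b 0 = 0 := by
  rw [gg, mul_zero, ee_zero, map_one, sub_self]

theorem SS_gg (χ : G → ℂ) (θ : D.W → ℂ) (b : ZMod p) : SS D θ (gg b) χ = mu D χ θ 0 - mu D χ θ b :=
  (diff_eq D χ θ b).symm

theorem sum_gg {b b' : ZMod p} (hb : b ≠ 0) (hb' : b' ≠ 0) {k : ZMod p} (hk : k ≠ 0) :
    ∑ i : ZMod p, gg b i * conj (gg b' (k * i)) = (p : ℂ) * (1 + if b' * k = b then 1 else 0) := by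
  have h1 : ∀ i, gg b i * conj (gg b' (k * i)) =
      1 - ee (-b * i) - ee (b' * k * i) + ee ((b' * k - b) * i) := by
    intro i
    rw [gg, gg, map_sub, map_one, Complex.conj_conj, ← ee_neg]
    have e1 : ee ((b' * k - b) * i) = ee (-(b * i)) * ee (b' * (k * i)) := by
      rw [← ee_add]; congr 1; ring
    rw [e1, show -b * i = -(b * i) by ring, show b' * k * i = b' * (k * i) by ring]
    ring
  rw [Finset.sum_congr rfl (fun i _ => h1 i), Finset.sum_add_distrib, Finset.sum_sub_distrib,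
    Finset.sum_sub_distrib, sum_ee, sum_ee, sum_ee, if_neg (neg_ne_zero.2 hb),
    if_neg (mul_ne_zero hb' hk), Finset.sum_const, Finset.card_univ, ZMod.card, nsmul_eq_mul]
  by_cases h : b' * k = b
  · rw [if_pos h, if_pos (sub_eq_zero.2 h)]; ring
  · rw [if_neg h, if_neg (fun h' => h (sub_eq_zero.1 h'))]; ring

open Classical in
theorem gram [Fintype (IrrCharacter G)] {θ : D.W → ℂ} (hθ : IsIrrCharacter D.W θ) (b b' : (ZMod p)ˣ) :
    ∑ χ : IrrCharacter G, (mu D χ θ 0 - mu D χ θ b) * conj (mu D χ θ 0 - mu D χ θ b') =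
      (Nat.card (HH D θ) : ℂ) + if b * b'⁻¹ ∈ HH D θ then 1 else 0 := by
  let _ : Fintype D.N₀ := Fintype.ofFinite _
  let _ : Fintype (T₀ D θ) := Fintype.ofFinite _
  have hp0 : (p : ℂ) ≠ 0 := by exact_mod_cast hp.out.ne_zero
  have hW0 : (Nat.card D.W : ℂ) ≠ 0 := by exact_mod_cast Nat.card_pos.ne'
  have h1 := gram_general D θ (gg (b : ZMod p)) (gg (b' : ZMod p)) (gg_zero _)
  simp only [SS_gg] at h1
  rw [h1]
  have h2 : ∀ n : D.N₀, (∑ i : ZMod p, gg (b : ZMod p) i * conj (gg (b' : ZMod p) ((KK D n : ZMod p) * i))) *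
      (∑ u : D.W, conj (θ u) * cjW D n θ u) =
      if n ∈ T₀ D θ then ((p : ℂ) * (1 + if b' * KK D n = b then 1 else 0)) * (Nat.card D.W : ℂ) else 0 := by
    intro n
    rw [sum_gg b.ne_zero b'.ne_zero (KK D n).ne_zero]
    have h3 : (∑ u : D.W, conj (θ u) * cjW D n θ u) = (Nat.card D.W : ℂ) * classInner (cjW D n θ) θ := by
      rw [classInner, ← mul_assoc, mul_inv_cancel₀ hW0, one_mul]
      exact Finset.sum_congr rfl (fun u _ => mul_comm _ _)
    rw [h3, inner_irr (cjW_irr D hθ n) hθ]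
    have h4 : ((b' : ZMod p) * (KK D n : ZMod p) = (b : ZMod p)) ↔ b' * KK D n = b := by
      rw [← Units.val_mul, Units.val_inj]
    by_cases hn : n ∈ T₀ D θ
    · rw [if_pos hn, if_pos ((mem_T₀ D).1 hn), mul_one]
      congr 3
      simp only [h4]
    · rw [if_neg hn, if_neg (fun h => hn ((mem_T₀ D).2 h)), mul_zero, mul_zero]
  rw [Finset.sum_congr rfl (fun n _ => h2 n), ← Finset.sum_filter]
  have h5 : ∑ n ∈ univ.filter (fun n => n ∈ T₀ D θ),
      ((p : ℂ) * (1 + if b' * KK D n = b then 1 else 0)) * (Nat.card D.W : ℂ) =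
      ∑ n : T₀ D θ, ((p : ℂ) * (1 + if b' * KK D n = b then 1 else 0)) * (Nat.card D.W : ℂ) := by
    refine (Finset.sum_subtype _ (fun n => ?_) _)
    rw [mem_filter]; simp
  rw [h5, ← Finset.sum_mul, ← Finset.mul_sum, Finset.sum_add_distrib, Finset.sum_const,
    Finset.card_univ, nsmul_eq_mul, mul_one, ← Nat.card_eq_fintype_card, card_T₀ D
    (isClassFunction_of_isIrr hθ), ← Finset.sum_filter, Finset.sum_const, nsmul_eq_mul, mul_one]
  have h6 : ((univ : Finset (T₀ D θ)).filter (fun n : T₀ D θ => b' * KK D (n : D.N₀) = b)).card =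
      if b * b'⁻¹ ∈ HH D θ then Nat.card D.W else 0 := by
    split_ifs with h
    · rw [← card_fiber D (isClassFunction_of_isIrr hθ) h, Nat.card_eq_fintype_card,
        Fintype.card_subtype]
      congr 1
      ext n
      simp only [mem_filter, mem_univ, true_and]
      rw [eq_mul_inv_iff_mul_eq, mul_comm]
    · rw [Finset.card_eq_zero, Finset.filter_eq_empty_iff]
      intro n _ hn
      apply h
      refine ⟨n, n.2, ?_⟩
      rw [eq_mul_inv_iff_mul_eq, mul_comm]
      exact hn
  rw [h6]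
  push_cast
  split_ifs with h
  · field_simp
  · field_simp
    ring

/-- orthogonality to the values at `p`-regular elements -/
theorem orth_regular [Fintype (IrrCharacter G)] (θ : D.W → ℂ) (b : ZMod p) {g : G}
    (hg : ¬ p ∣ orderOf g) :
    ∑ χ : IrrCharacter G, (mu D χ θ 0 - mu D χ θ b) * conj ((χ : G → ℂ) g) = 0 := by
  classical
  have h0 : ∀ χ : IrrCharacter G, (mu D χ θ 0 - mu D χ θ b) * conj ((χ : G → ℂ) g) =
      ((p : ℂ) * (Nat.card D.W : ℂ))⁻¹ * ∑ i : ZMod p, ∑ u : D.W,
        ((1 - conj (ee (b * i))) * conj (θ u)) *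
          ((χ : G → ℂ) (D.σ ^ i.val * u) * conj ((χ : G → ℂ) g)) := by
    intro χ
    rw [diff_eq, mul_assoc, Finset.sum_mul]
    congr 1
    refine Finset.sum_congr rfl (fun i _ => ?_)
    rw [Finset.sum_mul]
    refine Finset.sum_congr rfl (fun u _ => ?_)
    ring
  rw [Finset.sum_congr rfl (fun χ _ => h0 χ), ← Finset.mul_sum, Finset.sum_comm]
  have h1 : ∀ i : ZMod p, ∑ χ : IrrCharacter G, ∑ u : D.W,
        ((1 - conj (ee (b * i))) * conj (θ u)) *
          ((χ : G → ℂ) (D.σ ^ i.val * u) * conj ((χ : G → ℂ) g)) = 0 := by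
    intro i
    rw [Finset.sum_comm]
    apply Finset.sum_eq_zero
    intro u _
    rw [← Finset.mul_sum]
    by_cases hi : i = 0
    · rw [hi, mul_zero, ee_zero, map_one, sub_self, zero_mul, zero_mul]
    · rw [H77.Conv.column_transporter]
      have h2 : Nat.card {x : G // x * (D.σ ^ i.val * u) * x⁻¹ = g} = 0 := by
        rw [Nat.card_eq_zero]
        left
        refine ⟨fun ⟨x, hx⟩ => ?_⟩
        apply hg
        have h3 : orderOf g = orderOf (D.σ ^ i.val * (u : G)) := by
          rw [← hx]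
          exact (MulAut.conj x).orderOf_eq _
        rw [h3]
        -- the order is divisible by `p`
        have hcomm : Commute (D.σ ^ i.val) (u : G) := by
          have : Commute (u : G) D.σ := D.W_comm u.2
          exact (this.pow_right _).symm
        by_contra hcon
        have hord := pow_orderOf_eq_one (D.σ ^ i.val * (u : G))
        set m := orderOf (D.σ ^ i.val * (u : G)) with hm
        have h4 : (D.σ ^ i.val * (u : G)) ^ (m * Nat.card D.W) = 1 := by rw [pow_mul, hord, one_pow]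
        have hu : (u : G) ^ Nat.card D.W = 1 := by
          rw [← Subgroup.coe_pow, pow_card_eq_one', Subgroup.coe_one]
        rw [hcomm.mul_pow, mul_comm m, pow_mul (u : G), hu, one_pow, mul_one, ← pow_mul] at h4
        have h5 := orderOf_dvd_of_pow_eq_one h4
        rw [D.hσ] at h5
        rcases hp.out.dvd_mul.1 h5 with h6 | h6
        · have h7 := Nat.eq_zero_of_dvd_of_lt h6 (ZMod.val_lt i)
          exact hi ((ZMod.val_eq_zero i).1 h7)
        · rcases hp.out.dvd_mul.1 h6 with h7 | h7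
          · exact D.hNp (h7.trans (Subgroup.card_dvd_of_le D.W_le))
          · exact hcon h7
      rw [h2, Nat.cast_zero, mul_zero]
  rw [Finset.sum_eq_zero (fun i _ => h1 i), mul_zero]

end H67.DefOne
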