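import Mathlib
import Cfsg.Agent.Lib.H67.DefOne4

set_option autoImplicit false

/-! The characters attached to a character of the complement of the Sylow subgroup in its
centralizer: main theorem. -/

namespace H67.DefOne

open Finset Cfsg H18.CharBasic H18.CharOrtho H18.CharInd H67.Lat
open scoped ComplexConjugate

variable {p : ℕ} [hp : Fact p.Prime] {G : Type*} [Group G] [Fintype G] (D : Dat p G) [Fintype D.W]

open Classical in
theorem card_coset {U : Type*} [Group U] [Fintype U] (H : Subgroup U) (q : U ⧸ H) :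
    ((univ : Finset U).filter (fun b : U => (QuotientGroup.mk b : U ⧸ H) = q)).card = Nat.card H := by
  obtain ⟨b0, rfl⟩ := QuotientGroup.mk_surjective q
  let _ : Fintype H := Fintype.ofFinite _
  rw [Nat.card_eq_fintype_card, ← Finset.card_univ]
  symm
  refine Finset.card_bij (fun (h : H) _ => b0 * h) ?_ ?_ ?_
  · intro h _
    rw [mem_filter]
    exact ⟨mem_univ _, (QuotientGroup.eq.2 (by simp)).symm⟩
  · intro a _ b _ h
    exact Subtype.ext (mul_left_cancel h)
  · intro b hb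
    rw [mem_filter] at hb
    have h1 : b0⁻¹ * b ∈ H := QuotientGroup.eq.1 hb.2.symm
    exact ⟨⟨b0⁻¹ * b, h1⟩, mem_univ _, by simp⟩

open Classical in
theorem sum_cosets {U : Type*} [Group U] [Fintype U] (H : Subgroup U) [Fintype (U ⧸ H)]
    {A : Type*} [AddCommMonoid A] (f : U ⧸ H → A) :
    ∑ b : U, f (QuotientGroup.mk b) = Nat.card H • ∑ q : U ⧸ H, f q := by
  rw [← Finset.sum_fiberwise (s := univ) (g := fun b : U => (QuotientGroup.mk b : U ⧸ H))
    (f := fun b : U => f (QuotientGroup.mk b)), Finset.smul_sum]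
  refine Finset.sum_congr rfl (fun q _ => ?_)
  rw [Finset.sum_congr rfl (fun b hb => by rw [(mem_filter.1 hb).2]), Finset.sum_const, card_coset]

open Classical in
/-- Brauer's theorem on characters of groups with a Sylow subgroup of order `p`. -/
theorem defect_one (hp2 : ¬ p ^ 2 ∣ Nat.card G) [Fintype (IrrCharacter G)] {θ : D.W → ℂ}
    (hθ : IsIrrCharacter D.W θ) :
    ∃ (s : ℤ) (y : (ZMod p)ˣ ⧸ HH D θ → IrrCharacter G) (c : IrrCharacter G → ℤ),
      (s = 1 ∨ s = -1) ∧ Function.Injective y ∧ (∀ χ, c χ = 0 ∨ c χ = 1 ∨ c χ = -1) ∧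
      (∀ q, c (y q) = 0) ∧
      (∀ q, ∀ i : ZMod p, i ≠ 0 → FF D.W (y q) θ (D.σ ^ i.val) =
        -(s : ℂ) * ∑ b ∈ (univ : Finset (ZMod p)ˣ).filter (fun b => QuotientGroup.mk b = q),
          ee ((b : ZMod p) * i)) ∧
      (∀ χ : IrrCharacter G, (∀ q, χ ≠ y q) → ∀ i : ZMod p, i ≠ 0 →
        FF D.W χ θ (D.σ ^ i.val) = c χ) ∧
      (univ.filter (fun χ : IrrCharacter G => c χ ≠ 0)).card = Nat.card (HH D θ) ∧
      (∀ g : G, ¬ p ∣ orderOf g → ∀ q, (s : ℂ) * conj ((y q : G → ℂ) g) +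
        ∑ χ : IrrCharacter G, (c χ : ℂ) * conj ((χ : G → ℂ) g) = 0) := by
  have hθc := isCharacter_of_isIrr hθ
  -- the integral vectors
  have hA : ∀ (b : (ZMod p)ˣ) (χ : IrrCharacter G), ∃ a : ℤ, (a : ℂ) = mu D χ θ 0 - mu D χ θ b := by
    intro b χ
    obtain ⟨k, hk⟩ := mu_nat D (isCharacter_of_isIrr χ.2) hθc 0
    obtain ⟨l, hl⟩ := mu_nat D (isCharacter_of_isIrr χ.2) hθc (b : ZMod p)
    exact ⟨(k : ℤ) - l, by rw [hk, hl]; push_cast; ring⟩
  choose A hA' using hA
  have hconj : ∀ (b : (ZMod p)ˣ) (χ : IrrCharacter G),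
      conj (mu D χ θ 0 - mu D χ θ (b : ZMod p)) = (A b χ : ℂ) := by
    intro b χ
    rw [← hA', map_intCast]
  have hgram : ∀ b b' : (ZMod p)ˣ, ∑ χ, A b χ * A b' χ =
      (Nat.card (HH D θ) : ℤ) + if b * b'⁻¹ ∈ HH D θ then 1 else 0 := by
    intro b b'
    have h1 := gram D hθ b b'
    have h2 : ((∑ χ, A b χ * A b' χ : ℤ) : ℂ) =
        (((Nat.card (HH D θ) : ℤ) + if b * b'⁻¹ ∈ HH D θ then 1 else 0 : ℤ) : ℂ) := by
      push_cast
      rw [← h1]
      refine Finset.sum_congr rfl (fun χ _ => ?_)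
      rw [hconj, hA']
    exact_mod_cast h2
  have hAq : ∀ b b' : (ZMod p)ˣ, b * b'⁻¹ ∈ HH D θ → ∀ χ, A b χ = A b' χ := by
    intro b b' hb χ
    have h1 : ∑ χ, (A b χ - A b' χ) * (A b χ - A b' χ) = 0 := by
      have h2 : ∀ χ, (A b χ - A b' χ) * (A b χ - A b' χ) =
          A b χ * A b χ - A b χ * A b' χ - A b' χ * A b χ + A b' χ * A b' χ := fun χ => by ring
      rw [Finset.sum_congr rfl (fun χ _ => h2 χ), Finset.sum_add_distrib, Finset.sum_sub_distrib,
        Finset.sum_sub_distrib, hgram, hgram, hgram, hgram, if_pos hb, mul_inv_cancel,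
        mul_inv_cancel, if_pos (HH D θ).one_mem]
      have h3 : b' * b⁻¹ ∈ HH D θ := by
        have := (HH D θ).inv_mem hb
        rwa [mul_inv_rev, inv_inv] at this
      rw [if_pos h3]
      ring
    have h4 := (Finset.sum_eq_zero_iff_of_nonneg (fun χ _ => mul_self_nonneg _)).1 h1 χ (mem_univ _)
    exact sub_eq_zero.1 (mul_self_eq_zero.1 h4)
  -- descend to cosets
  let Q := (ZMod p)ˣ ⧸ HH D θ
  let Aq : Q → IrrCharacter G → ℤ := fun q => A q.out
  have hout : ∀ b : (ZMod p)ˣ, ∀ χ, A b χ = Aq (QuotientGroup.mk b) χ := by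
    intro b χ
    apply hAq
    obtain ⟨h, hh⟩ := QuotientGroup.mk_out_eq_mul (HH D θ) b
    rw [hh, mul_inv_rev, mul_left_comm, mul_inv_cancel, mul_one]
    exact (HH D θ).inv_mem h.2
  have hgramq : ∀ q r : Q, ∑ χ, Aq q χ * Aq r χ = (Nat.card (HH D θ) : ℤ) + if q = r then 1 else 0 := by
    intro q r
    rw [hgram]
    congr 1
    have h1 : (q.out * r.out⁻¹ ∈ HH D θ) ↔ q = r := by
      rw [mul_comm, ← QuotientGroup.eq, QuotientGroup.out_eq', QuotientGroup.out_eq', eq_comm]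
    simp only [h1]
  -- degrees
  have hdegx : ∀ χ : IrrCharacter G, ∃ d : ℤ, 0 < d ∧ (χ : G → ℂ) 1 = d := by
    intro χ
    obtain ⟨n, ρ, hρ⟩ := isCharacter_of_isIrr χ.2
    have h1 : (χ : G → ℂ) 1 = (Module.finrank ℂ (Fin n → ℂ) : ℂ) := by
      rw [← hρ, Representation.char_one]
    refine ⟨(Module.finrank ℂ (Fin n → ℂ) : ℤ), ?_, by rw [h1]; norm_cast⟩
    have h2 := irr_one_ne_zero χ.2
    rw [h1] at h2
    have h3 : Module.finrank ℂ (Fin n → ℂ) ≠ 0 := by exact_mod_cast h2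
    omega
  choose d hd hd' using hdegx
  have hone : ¬ p ∣ orderOf (1 : G) := by
    rw [orderOf_one]
    intro h
    exact hp.out.one_lt.ne' (Nat.dvd_one.1 h)
  have horth : ∀ (b : (ZMod p)ˣ) (g : G), ¬ p ∣ orderOf g →
      ∑ χ : IrrCharacter G, (A b χ : ℂ) * conj ((χ : G → ℂ) g) = 0 := by
    intro b g hg
    rw [← orth_regular D θ (b : ZMod p) hg]
    exact Finset.sum_congr rfl (fun χ _ => by rw [hA'])
  have hdeg : ∀ q : Q, ∑ χ, Aq q χ * d χ = 0 := by
    intro q
    have h1 := horth q.out 1 hone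
    have h2 : ((∑ χ, Aq q χ * d χ : ℤ) : ℂ) = ((0 : ℤ) : ℂ) := by
      rw [Int.cast_zero, ← h1]
      push_cast
      refine Finset.sum_congr rfl (fun χ _ => ?_)
      rw [hd', map_intCast]
    exact_mod_cast h2
  -- local multiplicities
  have hcardQ : (p : ℤ) - 1 = (Nat.card (HH D θ) : ℤ) * Fintype.card Q := by
    have h1 := (HH D θ).card_mul_index
    rw [Subgroup.index, Nat.card_eq_fintype_card (α := (ZMod p)ˣ), ZMod.card_units] at h1
    have h2 : Nat.card Q = Fintype.card Q := Nat.card_eq_fintype_card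
    have h3 : Nat.card (HH D θ) * Fintype.card Q = p - 1 := by rw [← h2]; exact h1
    have h4 := hp.out.one_lt
    have h5 : ((Nat.card (HH D θ) * Fintype.card Q : ℕ) : ℤ) = ((p - 1 : ℕ) : ℤ) := by rw [h3]
    rw [Nat.cast_mul, Nat.cast_sub h4.le, Nat.cast_one] at h5
    exact h5.symm
  have hepos : (0 : ℤ) < Nat.card (HH D θ) := by exact_mod_cast Nat.card_pos
  have hM : ∀ χ, ∃ M : ℕ, 1 ≤ M ∧ ((M : ℤ) * ∑ q, Aq q χ = 0 ∨ (M : ℤ) * ∑ q, Aq q χ = Fintype.card Q ∨
      (M : ℤ) * ∑ q, Aq q χ = -(Fintype.card Q : ℤ)) := by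
    intro χ
    obtain ⟨M, hM1, hM2⟩ := local_mult hp.out hp2 D χ.2
    refine ⟨M, hM1, ?_⟩
    have h1 := hM2 θ hθ
    have h2 : ∑ i ∈ Ico 1 p, FF D.W χ θ (D.σ ^ i) = (((Nat.card (HH D θ) : ℤ) * ∑ q, Aq q χ : ℤ) : ℂ) := by
      rw [sum_nonzero_FF, Finset.sum_congr rfl (fun b _ => (hA' b χ).symm)]
      have h3 : ∑ b : (ZMod p)ˣ, A b χ = (Nat.card (HH D θ) : ℤ) * ∑ q, Aq q χ := by
        rw [Finset.sum_congr rfl (fun b _ => hout b χ), sum_cosets (HH D θ) (fun q => Aq q χ),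
          nsmul_eq_mul]
      rw [← h3]; push_cast; rfl
    rw [h2] at h1
    have h4 : ((p : ℂ) - 1) = (((Nat.card (HH D θ) : ℤ) * Fintype.card Q : ℤ) : ℂ) := by
      rw [← hcardQ]; push_cast; ring
    rw [h4] at h1
    have h5 : (M : ℤ) * ((Nat.card (HH D θ) : ℤ) * ∑ q, Aq q χ) = 0 ∨
        (M : ℤ) * ((Nat.card (HH D θ) : ℤ) * ∑ q, Aq q χ) = (Nat.card (HH D θ) : ℤ) * Fintype.card Q ∨
        (M : ℤ) * ((Nat.card (HH D θ) : ℤ) * ∑ q, Aq q χ) = -((Nat.card (HH D θ) : ℤ) * Fintype.card Q) := by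
      rcases h1 with h | h | h
      · left; exact_mod_cast h
      · right; left; exact_mod_cast h
      · right; right; exact_mod_cast h
    rcases h5 with h | h | h
    · left
      apply mul_left_cancel₀ hepos.ne'
      linear_combination h
    · right; left
      apply mul_left_cancel₀ hepos.ne'
      linear_combination h
    · right; right
      apply mul_left_cancel₀ hepos.ne'
      linear_combination h
  obtain ⟨s, y, hs, hy, hAy, hconst, hcount⟩ :=
    H67.DefComb.structure_thm (e := Nat.card (HH D θ)) Aq hgramq d hd hdeg hM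
  choose! c0 hc0 hc1 using hconst
  let q0 : Q := QuotientGroup.mk 1
  let c : IrrCharacter G → ℤ := fun χ => if ∀ q, χ ≠ y q then c0 χ else 0
  have hc : ∀ χ, (∀ q, χ ≠ y q) → c χ = c0 χ := fun χ h => if_pos h
  have hcy : ∀ q, c (y q) = 0 := fun q => if_neg (fun h => h q rfl)
  -- Fourier inversion away from zero
  have hFF : ∀ (χ : IrrCharacter G) (i : ZMod p), i ≠ 0 → FF D.W χ θ (D.σ ^ i.val) =
      -∑ b : (ZMod p)ˣ, (A b χ : ℂ) * ee ((b : ZMod p) * i) := by
    intro χ i hi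
    have h1 : ∑ b : (ZMod p)ˣ, (A b χ : ℂ) * ee ((b : ZMod p) * i) =
        ∑ b : ZMod p, (mu D χ θ 0 - mu D χ θ b) * ee (b * i) := by
      have h2 := sum_units_eq (fun b : ZMod p => (mu D χ θ 0 - mu D χ θ b) * ee (b * i))
      rw [sub_self, zero_mul, sub_zero] at h2
      rw [← h2]
      exact Finset.sum_congr rfl (fun b _ => by rw [hA'])
    rw [h1]
    have h3 : ∀ b : ZMod p, (mu D χ θ 0 - mu D χ θ b) * ee (b * i) =
        mu D χ θ 0 * ee (i * b) - mu D χ θ b * ee (b * i) := fun b => by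
      rw [mul_comm i b]; ring
    rw [Finset.sum_congr rfl (fun b _ => h3 b), Finset.sum_sub_distrib, ← Finset.mul_sum, sum_ee,
      if_neg hi, mul_zero, zero_sub, neg_neg, FF_eq]
  refine ⟨s, y, c, hs, hy, ?_, hcy, ?_, ?_, ?_, ?_⟩
  · intro χ
    by_cases h : ∀ q, χ ≠ y q
    · rw [hc χ h]; exact hc0 χ h
    · left; exact if_neg h
  · intro q i hi
    rw [hFF _ i hi, neg_mul, neg_inj, Finset.mul_sum]
    symm
    rw [Finset.sum_filter]
    refine Finset.sum_congr rfl (fun b _ => ?_)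
    rw [hout, hAy]
    by_cases h : (QuotientGroup.mk b : Q) = q
    · rw [if_pos h, if_pos h]
    · rw [if_neg h, if_neg h, Int.cast_zero, zero_mul]
  · intro χ hχ i hi
    rw [hFF χ i hi, hc χ hχ]
    have h1 : ∀ b : (ZMod p)ˣ, (A b χ : ℂ) * ee ((b : ZMod p) * i) = (c0 χ : ℂ) * ee (i * (b : ZMod p)) := by
      intro b
      rw [hout, hc1 χ hχ, mul_comm (b : ZMod p) i]
    rw [Finset.sum_congr rfl (fun b _ => h1 b), ← Finset.mul_sum,
      sum_units_eq (fun b : ZMod p => ee (i * b)), sum_ee, if_neg hi, mul_zero, ee_zero]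
    ring
  · rw [← hcount]
    congr 1
    ext χ
    simp only [mem_filter, mem_univ, true_and]
    constructor
    · intro h
      by_cases h1 : ∀ q, χ ≠ y q
      · refine ⟨h1, q0, ?_⟩
        rw [hc1 χ h1]
        rwa [hc χ h1] at h
      · exact absurd (if_neg h1) h
    · rintro ⟨h1, q, hq⟩
      rw [hc χ h1]
      rwa [hc1 χ h1] at hq
  · intro g hg q
    have h1 := horth q.out g hg
    rw [← h1]
    have h2 : ∀ χ : IrrCharacter G, (A q.out χ : ℂ) * conj ((χ : G → ℂ) g) =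
        (if χ = y q then (s : ℂ) * conj ((y q : G → ℂ) g) else 0) + (c χ : ℂ) * conj ((χ : G → ℂ) g) := by
      intro χ
      by_cases h3 : ∀ q', χ ≠ y q'
      · rw [if_neg (h3 q), zero_add, hc χ h3]
        congr 2
        exact hc1 χ h3 q
      · push Not at h3
        obtain ⟨r, rfl⟩ := h3
        rw [hcy, Int.cast_zero, zero_mul, add_zero]
        have h4 : A q.out (y r) = if q = r then s else 0 := hAy q r
        rw [h4]
        by_cases h5 : q = r
        · subst h5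
          rw [if_pos rfl, if_pos rfl]
        · rw [if_neg h5, if_neg (fun h => h5 (hy h).symm), Int.cast_zero, zero_mul]
    rw [Finset.sum_congr rfl (fun χ _ => h2 χ), Finset.sum_add_distrib, Finset.sum_ite_eq',
      if_pos (mem_univ _)]

end H67.DefOne
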