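import Mathlib
import Cfsg.Prelude.Def_Blocks
import Cfsg.Agent.Lib.H67.DefOne5
import Cfsg.Agent.Lib.H19.Second3
import Cfsg.Agent.Lib.H20.NPC
import Cfsg.Agent.Lib.H20.IndFun

set_option autoImplicit false
set_option linter.unusedSectionVars false

/-! Blocks with a defect group of order `p`: the centralizer of the Sylow subgroup. -/

namespace H67.BlkOne

open Finset Cfsg H18.CharBasic H18.CharOrtho H18.CharInd H67.Lat H67.DefOne H20.Loc
open scoped ComplexConjugate

universe u

variable {p : ℕ} [hp : Fact p.Prime] {G : Type u} [Group G] (D : Dat p G)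

/-- the centralizer of the Sylow subgroup -/
abbrev CC : Subgroup G := Subgroup.centralizer ((Subgroup.zpowers D.σ : Subgroup G) : Set G)

theorem mem_CC {x : G} : x ∈ CC D ↔ x * D.σ = D.σ * x := by
  rw [Subgroup.mem_centralizer_iff]
  constructor
  · intro h
    exact (h D.σ (Subgroup.mem_zpowers D.σ)).symm
  · intro h y hy
    obtain ⟨k, rfl⟩ := Subgroup.mem_zpowers_iff.1 hy
    have : Commute x D.σ := h
    exact (this.zpow_right k).eq.symm

theorem CC_le : CC D ≤ Subgroup.normalizer (Subgroup.zpowers D.σ : Set G) :=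
  Subgroup.centralizer_le_normalizer _

theorem W_le_CC : D.W ≤ CC D := fun _ hu => (mem_CC D).2 (D.W_comm hu)

theorem mem_cmk (i : ZMod p) (u : D.W) : D.σ ^ i.val * (u : G) ∈ CC D := by
  refine (CC D).mul_mem ((CC D).pow_mem ?_ _) (W_le_CC D u.2)
  rw [mem_CC]

/-- the elements of the centralizer -/
def cmk (i : ZMod p) (u : D.W) : CC D := ⟨D.σ ^ i.val * u, mem_cmk D i u⟩

theorem cmk_coe (i : ZMod p) (u : D.W) : (cmk D i u : G) = D.σ ^ i.val * u := rfl

theorem cmk_inj [Fintype G] [Fintype D.W] {i j : ZMod p} {u v : D.W} (h : cmk D i u = cmk D j v) :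
    i = j ∧ u = v := by
  have h1 : Phi D (Multiplicative.ofAdd i, u) = Phi D (Multiplicative.ofAdd j, v) :=
    congrArg Subtype.val h
  have h2 := Phi_injective D h1
  rw [Prod.mk.injEq] at h2
  exact ⟨h2.1, h2.2⟩

theorem cmk_surj [Finite G] (k : CC D) : ∃ i u, cmk D i u = k := by
  obtain ⟨u, hu, y, hy, h⟩ := D.cent ((mem_CC D).1 k.2)
  have hfin : IsOfFinOrder D.σ := by
    rw [← orderOf_pos_iff, D.hσ]; exact hp.out.pos
  obtain ⟨n, hn⟩ := (IsOfFinOrder.mem_powers_iff_mem_zpowers hfin).2 hy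
  have hn : D.σ ^ n = y := hn
  refine ⟨(n : ZMod p), ⟨u, hu⟩, Subtype.ext ?_⟩
  rw [cmk_coe, h]
  have h1 : D.σ ^ ((n : ZMod p)).val = y := by
    rw [← hn, pow_eq_pow_iff_modEq, D.hσ, ZMod.val_natCast]
    exact Nat.mod_modEq _ _
  rw [h1]
  exact (D.W_comm' hu hy).symm

theorem cmk_mul (i j : ZMod p) (u v : D.W) : cmk D i u * cmk D j v = cmk D (i + j) (u * v) := by
  apply Subtype.ext
  rw [Subgroup.coe_mul, cmk_coe, cmk_coe, cmk_coe]
  have h1 : D.σ ^ (i + j).val = D.σ ^ i.val * D.σ ^ j.val := by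
    rw [← pow_add, pow_eq_pow_iff_modEq, D.hσ, ZMod.val_add]
    exact Nat.mod_modEq _ _
  have h2 : Commute (u : G) (D.σ ^ j.val) := by
    have : Commute (u : G) D.σ := D.W_comm u.2
    exact this.pow_right _
  rw [h1, Subgroup.coe_mul]
  calc D.σ ^ i.val * (u : G) * (D.σ ^ j.val * v) = D.σ ^ i.val * ((u : G) * D.σ ^ j.val) * v := by group
    _ = _ := by rw [h2.eq]; group

variable [Fintype G] [Fintype D.W]

theorem sum_CC [Fintype (CC D)] {A : Type*} [AddCommMonoid A] (f : CC D → A) :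
    ∑ k : CC D, f k = ∑ i : ZMod p, ∑ u : D.W, f (cmk D i u) := by
  classical
  rw [← Fintype.sum_prod_type' (fun (i : ZMod p) (u : D.W) => f (cmk D i u))]
  symm
  refine Fintype.sum_bijective (fun x : ZMod p × D.W => cmk D x.1 x.2) ⟨?_, ?_⟩ _ _ (fun _ => rfl)
  · rintro ⟨i, u⟩ ⟨j, v⟩ h
    obtain ⟨h1, h2⟩ := cmk_inj D h
    exact Prod.ext h1 h2
  · intro k
    obtain ⟨i, u, h⟩ := cmk_surj D k
    exact ⟨(i, u), h⟩

theorem card_CC : Nat.card (CC D) = p * Nat.card D.W := by
  classical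
  let _ : Fintype (CC D) := Fintype.ofFinite _
  rw [Nat.card_eq_fintype_card, Fintype.card_eq_sum_ones, sum_CC]
  simp [ZMod.card]

/-- restriction to `W` -/
def resW (ψ : CC D → ℂ) : D.W → ℂ := fun u => ψ ⟨u, W_le_CC D u.2⟩

theorem resW_apply (ψ : CC D → ℂ) (u : D.W) : resW D ψ u = ψ ⟨u, W_le_CC D u.2⟩ := rfl

theorem cmk_zero (u : D.W) : cmk D 0 u = ⟨u, W_le_CC D u.2⟩ := by
  apply Subtype.ext
  rw [cmk_coe, ZMod.val_zero, pow_zero, one_mul]

theorem isCharacter_resW {ψ : CC D → ℂ} (hψ : IsCharacter (CC D) ψ) : IsCharacter D.W (resW D ψ) :=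
  isCharacter_comp (Subgroup.inclusion (W_le_CC D)) hψ

/-- the projections -/
noncomputable def prI : CC D → ZMod p := fun k => (cmk_surj D k).choose
noncomputable def prU : CC D → D.W := fun k => (cmk_surj D k).choose_spec.choose

theorem cmk_pr (k : CC D) : cmk D (prI D k) (prU D k) = k := (cmk_surj D k).choose_spec.choose_spec

theorem pr_mul (k l : CC D) : prI D (k * l) = prI D k + prI D l ∧ prU D (k * l) = prU D k * prU D l := by
  apply cmk_inj D
  rw [cmk_pr, ← cmk_mul, cmk_pr, cmk_pr]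

/-- projection homomorphism to `W` -/
noncomputable def homU : CC D →* D.W where
  toFun := prU D
  map_one' := by
    have h := (pr_mul D 1 1).2
    rw [mul_one] at h
    exact (mul_eq_left.1 h.symm)
  map_mul' k l := (pr_mul D k l).2

noncomputable def homI : CC D →* Multiplicative (ZMod p) where
  toFun k := Multiplicative.ofAdd (prI D k)
  map_one' := by
    have h := (pr_mul D 1 1).1
    rw [mul_one] at h
    have h2 : prI D 1 = 0 := by
      have := h.symm
      rwa [add_eq_left] at this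
    rw [h2]; rfl
  map_mul' k l := by rw [(pr_mul D k l).1]; rfl

/-- the characters of the centralizer lying over a character of `W` -/
noncomputable def psi (θ : D.W → ℂ) (j : ZMod p) (k : CC D) : ℂ := ee (j * prI D k) * θ (prU D k)

theorem psi_cmk (θ : D.W → ℂ) (j : ZMod p) (i : ZMod p) (u : D.W) :
    psi D θ j (cmk D i u) = ee (j * i) * θ u := by
  have h := cmk_inj D (cmk_pr D (cmk D i u))
  rw [psi, h.1, h.2]

theorem psi_eq (θ : D.W → ℂ) (j : ZMod p) : psi D θ j =
    fun k => (((lamHom j).comp (homI D)) k : ℂ) * θ (homU D k) := by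
  rfl

theorem isIrr_psi {θ : D.W → ℂ} (hθ : IsIrrCharacter D.W θ) (j : ZMod p) :
    IsIrrCharacter (CC D) (psi D θ j) := by
  rw [psi_eq]
  have h1 : IsIrrCharacter (CC D) (fun k => θ (homU D k)) := by
    have hs : Function.Surjective (homU D) := by
      intro u
      refine ⟨cmk D 0 u, ?_⟩
      have h := cmk_pr D (cmk D 0 u)
      exact (cmk_inj D h).2
    exact isIrrCharacter_comp (homU D) hs hθ
  exact H18.CharQuot.isIrrCharacter_hom_mul _ h1

end H67.BlkOne
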