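import Mathlib
import Cfsg.Agent.Lib.H67.BlkOne1

set_option autoImplicit false
set_option linter.unusedSectionVars false

/-! Blocks with a defect group of order `p`: the block of the centralizer. -/

namespace H67.BlkOne

open Finset Cfsg H18.CharBasic H18.CharOrtho H18.CharInd H67.Lat H67.DefOne H20.Loc
open scoped ComplexConjugate

universe u

variable {p : ℕ} [hp : Fact p.Prime] {G : Type u} [Group G] (D : Dat p G) [Fintype G] [Fintype D.W]

/-- the character has the Sylow subgroup in its kernel -/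
def KerP (θ : CC D → ℂ) : Prop :=
  ∀ x : CC D, (x : G) ∈ Subgroup.zpowers D.σ → θ x = θ 1

variable {D}

theorem KerP.apply_cmk {θ : CC D → ℂ} (hθ : IsCharacter (CC D) θ) (h : KerP D θ) (i : ZMod p) (u : D.W) :
    θ (cmk D i u) = resW D θ u := by
  have h1 : cmk D i u = (⟨D.σ ^ i.val, (CC D).pow_mem ((mem_CC D).2 rfl) _⟩ : CC D) *
      ⟨u, W_le_CC D u.2⟩ := rfl
  rw [h1, H18.CharQuot.char_mul_left hθ]
  · rfl
  · exact h _ (Subgroup.pow_mem _ (Subgroup.mem_zpowers D.σ) _)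

theorem KerP.irr {θ : CC D → ℂ} (hθ : IsIrrCharacter (CC D) θ) (h : KerP D θ) :
    IsIrrCharacter D.W (resW D θ) := by
  classical
  let _ : Fintype (CC D) := Fintype.ofFinite _
  have hθc := isCharacter_of_isIrr hθ
  apply isIrr_of_norm_one (isCharacter_resW D hθc)
  have h1 := inner_irr_self hθ
  have hp0 : (p : ℂ) ≠ 0 := by exact_mod_cast hp.out.ne_zero
  rw [classInner, sum_CC, card_CC] at h1
  simp only [h.apply_cmk hθc] at h1
  rw [Finset.sum_const, Finset.card_univ, ZMod.card, nsmul_eq_mul, Nat.cast_mul, mul_inv,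
    mul_comm (p : ℂ)⁻¹, mul_assoc, inv_mul_cancel_left₀ hp0] at h1
  exact h1

theorem psi_zero {θ : CC D → ℂ} (hθ : IsCharacter (CC D) θ) (h : KerP D θ) :
    psi D (resW D θ) 0 = θ := by
  funext k
  rw [← cmk_pr D k, psi_cmk, h.apply_cmk hθ, zero_mul, ee_zero, one_mul]

theorem psi_inj {θ : D.W → ℂ} (hθ : IsIrrCharacter D.W θ) {i j : ZMod p}
    (h : psi D θ i = psi D θ j) : i = j := by
  have h1 : ∀ l : ZMod p, ee (i * l) = ee (j * l) := by
    intro l
    have h2 := congrFun h (cmk D l 1)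
    rw [psi_cmk, psi_cmk] at h2
    exact mul_right_cancel₀ (irr_one_ne_zero hθ) h2
  by_contra hne
  have h2 := sum_ee (i - j)
  rw [if_neg (sub_ne_zero.2 hne)] at h2
  have h3 : ∀ l : ZMod p, ee ((i - j) * l) = 1 := by
    intro l
    rw [sub_mul, sub_eq_add_neg, ee_add, h1, ← ee_add, add_neg_cancel, ee_zero]
  rw [Finset.sum_congr rfl (fun l _ => h3 l), Finset.sum_const, Finset.card_univ, ZMod.card,
    nsmul_eq_mul, mul_one] at h2
  exact hp.out.ne_zero (by exact_mod_cast h2)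

/-- sum over the characters `psi` of the scalar products -/
theorem sum_inner_psi [Fintype (CC D)] (ψ : CC D → ℂ) (θ : D.W → ℂ) :
    ∑ j : ZMod p, classInner ψ (psi D θ j) = classInner (resW D ψ) θ := by
  classical
  have hp0 : (p : ℂ) ≠ 0 := by exact_mod_cast hp.out.ne_zero
  have hW0 : (Nat.card D.W : ℂ) ≠ 0 := by exact_mod_cast Nat.card_pos.ne'
  simp only [classInner]
  rw [← Finset.mul_sum]
  have h1 : ∀ j : ZMod p, ∑ k : CC D, ψ k * conj (psi D θ j k) =
      ∑ i : ZMod p, ∑ u : D.W, (ψ (cmk D i u) * conj (θ u)) * ee (-i * j) := by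
    intro j
    rw [sum_CC]
    refine Finset.sum_congr rfl (fun i _ => Finset.sum_congr rfl (fun u _ => ?_))
    rw [psi_cmk, map_mul, ← ee_neg, show -(j * i) = -i * j by ring]
    ring
  rw [Finset.sum_congr rfl (fun j _ => h1 j), Finset.sum_comm]
  have h2 : ∀ i : ZMod p, ∑ j : ZMod p, ∑ u : D.W, (ψ (cmk D i u) * conj (θ u)) * ee (-i * j) =
      if i = 0 then (p : ℂ) * ∑ u : D.W, (ψ (cmk D 0 u) * conj (θ u)) else 0 := by
    intro i
    have h3 : ∀ j : ZMod p, ∑ u : D.W, (ψ (cmk D i u) * conj (θ u)) * ee (-i * j) =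
        (∑ u : D.W, (ψ (cmk D i u) * conj (θ u))) * ee (-i * j) := fun j => by
      rw [Finset.sum_mul]
    rw [Finset.sum_congr rfl (fun j _ => h3 j), ← Finset.mul_sum, sum_ee]
    by_cases hi : i = 0
    · subst hi
      rw [if_pos (neg_zero), if_pos rfl, mul_comm]
    · rw [if_neg (neg_ne_zero.2 hi), if_neg hi, mul_zero]
  rw [Finset.sum_congr rfl (fun i _ => h2 i), Finset.sum_ite_eq', if_pos (mem_univ _), card_CC,
    Nat.cast_mul, mul_inv]
  rw [show ((p : ℂ)⁻¹ * (Nat.card D.W : ℂ)⁻¹) * ((p : ℂ) * ∑ u : D.W, (ψ (cmk D 0 u) * conj (θ u))) =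
    ((p : ℂ)⁻¹ * p) * ((Nat.card D.W : ℂ)⁻¹ * ∑ u : D.W, (ψ (cmk D 0 u) * conj (θ u))) by ring,
    inv_mul_cancel₀ hp0, one_mul]
  simp only [cmk_zero]
  rfl

instance normal_V : (D.W.subgroupOf (CC D)).Normal := by
  refine ⟨fun w hw g => ?_⟩
  rw [Subgroup.mem_subgroupOf] at hw ⊢
  obtain ⟨i, u, rfl⟩ := cmk_surj D g
  have h1 : cmk D i u * w * (cmk D i u)⁻¹ = ⟨u * w * (u : G)⁻¹, W_le_CC D
      (D.W.mul_mem (D.W.mul_mem u.2 hw) (D.W.inv_mem u.2))⟩ := by
    apply Subtype.ext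
    rw [Subgroup.coe_mul, Subgroup.coe_mul, Subgroup.coe_inv, cmk_coe]
    have h2 : Commute ((u : G) * w * (u : G)⁻¹) (D.σ ^ i.val) := by
      have : Commute ((u : G) * w * (u : G)⁻¹) D.σ :=
        D.W_comm (D.W.mul_mem (D.W.mul_mem u.2 hw) (D.W.inv_mem u.2))
      exact this.pow_right _
    calc D.σ ^ i.val * (u : G) * w * (D.σ ^ i.val * u)⁻¹ =
        D.σ ^ i.val * ((u : G) * w * (u : G)⁻¹) * (D.σ ^ i.val)⁻¹ := by group
      _ = _ := by rw [← h2.eq, mul_inv_cancel_right]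
  rw [h1]
  exact D.W.mul_mem (D.W.mul_mem u.2 hw) (D.W.inv_mem u.2)

theorem card_V : Nat.card (D.W.subgroupOf (CC D)) = Nat.card D.W :=
  Nat.card_congr (Subgroup.subgroupOfEquivOfLe (W_le_CC D)).toEquiv

theorem not_dvd_card_W : ¬ p ∣ Nat.card D.W := fun h => D.hNp (h.trans (Subgroup.card_dvd_of_le D.W_le))

theorem index_V : (D.W.subgroupOf (CC D)).index = p := by
  have h := (D.W.subgroupOf (CC D)).card_mul_index
  rw [card_V, card_CC, mul_comm] at h
  exact Nat.eq_of_mul_eq_mul_right Nat.card_pos h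

theorem inner_V [Fintype (D.W.subgroupOf (CC D))] (f g : CC D → ℂ) :
    classInner (fun n : D.W.subgroupOf (CC D) => f n) (fun n : D.W.subgroupOf (CC D) => g n) =
      classInner (resW D f) (resW D g) := by
  rw [classInner, classInner, card_V]
  congr 1
  exact Fintype.sum_equiv (Subgroup.subgroupOfEquivOfLe (W_le_CC D)).toEquiv _ _ (fun _ => rfl)

variable {M : Ideal AlgInt}

theorem mem_blockOf_iff (hM : IsPModular p M) {θ : IrrCharacter (CC D)} (h : KerP D (θ : CC D → ℂ))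
    (ψ : IrrCharacter (CC D)) : ψ ∈ blockOf M (θ : CC D → ℂ) ↔
      ∃ j : ZMod p, (ψ : CC D → ℂ) = psi D (resW D θ) j := by
  classical
  let _ : Fintype (CC D) := Fintype.ofFinite _
  let _ : Fintype (D.W.subgroupOf (CC D)) := Fintype.ofFinite _
  have hθW := h.irr θ.2
  have hθV : IsIrrCharacter (D.W.subgroupOf (CC D)) (fun n => (θ : CC D → ℂ) n) :=
    isIrrCharacter_comp (Subgroup.subgroupOfEquivOfLe (W_le_CC D)).toMonoidHom
      (Subgroup.subgroupOfEquivOfLe (W_le_CC D)).surjective hθW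
  change SameBlock M (θ : CC D → ℂ) ψ ↔ _
  rw [H20.NPC.sameBlock_iff_of_complement hM (D.W.subgroupOf (CC D)) (by rw [card_V]; exact not_dvd_card_W)
    ⟨1, by rw [index_V, pow_one]⟩]
  constructor
  · rintro ⟨η, h1, h2⟩
    have h3 : (fun n : D.W.subgroupOf (CC D) => (θ : CC D → ℂ) n) = η := by
      by_contra hne
      exact h1 (inner_irr_ne hθV η.2 hne)
    rw [← h3, inner_V, ← sum_inner_psi] at h2
    obtain ⟨j, _, hj⟩ := Finset.exists_ne_zero_of_sum_ne_zero h2
    refine ⟨j, ?_⟩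
    by_contra hne
    exact hj (inner_irr_ne ψ.2 (isIrr_psi D hθW j) hne)
  · rintro ⟨j, hj⟩
    refine ⟨⟨_, hθV⟩, ?_, ?_⟩
    · change classInner (fun n : D.W.subgroupOf (CC D) => (θ : CC D → ℂ) n)
        (fun n : D.W.subgroupOf (CC D) => (θ : CC D → ℂ) n) ≠ 0
      rw [inner_irr_self hθV]
      exact one_ne_zero
    · change classInner (fun n : D.W.subgroupOf (CC D) => (ψ : CC D → ℂ) n)
        (fun n : D.W.subgroupOf (CC D) => (θ : CC D → ℂ) n) ≠ 0
      rw [inner_V, hj]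
      have h4 : resW D (psi D (resW D θ) j) = resW D θ := by
        funext u
        rw [resW_apply, ← cmk_zero, psi_cmk, mul_zero, ee_zero, one_mul]
      rw [h4, inner_irr_self hθW]
      exact one_ne_zero

/-- the coefficients of the block idempotent -/
theorem blockCoeff_cmk (hM : IsPModular p M) {θ : IrrCharacter (CC D)} (h : KerP D (θ : CC D → ℂ))
    (i : ZMod p) (u : D.W) : blockCoeff (blockOf M (θ : CC D → ℂ)) (cmk D i u) =
      if i = 0 then (Nat.card D.W : ℂ)⁻¹ * (resW D θ 1 * conj (resW D θ u)) else 0 := by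
  classical
  let _ : Fintype (CC D) := Fintype.ofFinite _
  let _ : Fintype (IrrCharacter (CC D)) := Fintype.ofFinite _
  have hp0 : (p : ℂ) ≠ 0 := by exact_mod_cast hp.out.ne_zero
  have hθW := h.irr θ.2
  rw [H20.Blk.blockCoeff_eq_sum, ← Finset.sum_filter]
  let Ψ : ZMod p → IrrCharacter (CC D) := fun j => ⟨psi D (resW D θ) j, isIrr_psi D hθW j⟩
  have hΨ : Function.Injective Ψ := fun a b hab => psi_inj hθW (congrArg Subtype.val hab)
  have hS : univ.filter (fun χ : IrrCharacter (CC D) => χ ∈ blockOf M (θ : CC D → ℂ)) =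
      univ.image Ψ := by
    ext χ
    rw [mem_filter, mem_image, mem_blockOf_iff hM h]
    constructor
    · rintro ⟨_, j, hj⟩
      exact ⟨j, mem_univ _, Subtype.ext hj.symm⟩
    · rintro ⟨j, _, hj⟩
      exact ⟨mem_univ _, j, (congrArg Subtype.val hj).symm⟩
  rw [hS, Finset.sum_image (fun a _ b _ hab => hΨ hab)]
  have h1 : ∀ j : ZMod p, (Ψ j : CC D → ℂ) 1 * conj ((Ψ j : CC D → ℂ) (cmk D i u)) =
      (resW D θ 1 * conj (resW D θ u)) * ee (-i * j) := by
    intro j
    change psi D (resW D θ) j 1 * conj (psi D (resW D θ) j (cmk D i u)) = _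
    have h2 : psi D (resW D θ) j 1 = resW D θ 1 := by
      have h3 : (1 : CC D) = cmk D 0 1 := by rw [cmk_zero]; rfl
      rw [h3, psi_cmk, mul_zero, ee_zero, one_mul]
    rw [h2, psi_cmk, map_mul, ← ee_neg, show -(j * i) = -i * j by ring]
    ring
  rw [Finset.sum_congr rfl (fun j _ => h1 j), ← Finset.mul_sum, sum_ee, card_CC, Nat.cast_mul, mul_inv]
  by_cases hi : i = 0
  · rw [if_pos hi, if_pos (by rw [hi, neg_zero])]
    field_simp
  · rw [if_neg hi, if_neg (neg_ne_zero.2 hi), mul_zero, mul_zero]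

/-- characters outside the induced block -/
theorem FF_eq_zero (hM : IsPModular p M) {θ : IrrCharacter (CC D)} (h : KerP D (θ : CC D → ℂ))
    {B : Set (IrrCharacter G)} (hind : IsInducedBlock M (CC D) (blockOf M (θ : CC D → ℂ)) B)
    (χ : IrrCharacter G) (hχ : χ ∉ B) {i : ZMod p} (hi : i ≠ 0) :
    FF D.W χ (resW D θ) (D.σ ^ i.val) = 0 := by
  classical
  let _ : Fintype (CC D) := Fintype.ofFinite _
  have hθW := h.irr θ.2
  have hW0 : (Nat.card D.W : ℂ) ≠ 0 := by exact_mod_cast Nat.card_pos.ne'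
  have hmem : D.σ ^ i.val ∈ CC D := (CC D).pow_mem ((mem_CC D).2 rfl) _
  have h1 := H19.Second3.second_main_idem hM (CC D) _ B hind ⟨D.σ ^ i.val, hmem⟩ (by
    intro z hz
    have hz' : IsPPart p (D.σ ^ i.val) (D.σ ^ i.val) := by
      refine ⟨1, mul_one _, Commute.one_right _, ?_, ?_⟩
      · have h2 : orderOf (D.σ ^ i.val) ∣ p := (orderOf_pow_dvd _).trans D.hσ.dvd
        rcases (Nat.dvd_prime hp.out).1 h2 with h3 | h3
        · exact ⟨0, by rw [h3, pow_zero]⟩
        · exact ⟨1, by rw [h3, pow_one]⟩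
      · rw [orderOf_one]
        exact fun h => hp.out.one_lt.ne' (Nat.dvd_one.1 h)
    have h2 := H19.Second.isPPart_unique hp.out hz hz'
    rw [h2]
    intro x hx
    rw [Subgroup.mem_centralizer_singleton_iff] at hx
    rw [mem_CC]
    have h3 : Commute x (D.σ ^ i.val) := hx
    have h4 := h3.pow_right (i⁻¹).val
    rw [pow_val_mul, mul_inv_cancel₀ hi, ZMod.val_one_eq_one_mod,
      Nat.mod_eq_of_lt hp.out.one_lt, pow_one] at h4
    exact h4) χ hχ
  rw [finsum_eq_sum_of_fintype, sum_CC] at h1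
  simp only [blockCoeff_cmk hM h] at h1
  rw [Finset.sum_eq_single 0] at h1
  · simp only [if_true, cmk_zero] at h1
    have h2 : ∀ u : D.W, (Nat.card D.W : ℂ)⁻¹ * (resW D θ 1 * conj (resW D θ u)) *
        (χ : G → ℂ) ((u : G) * D.σ ^ i.val) = resW D θ 1 * ((Nat.card D.W : ℂ)⁻¹ *
          ((χ : G → ℂ) (D.σ ^ i.val * u) * conj (resW D θ u))) := by
      intro u
      have h3 : (u : G) * D.σ ^ i.val = D.σ ^ i.val * u := D.W_comm' u.2
        (Subgroup.pow_mem _ (Subgroup.mem_zpowers D.σ) _)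
      rw [h3]
      ring
    rw [Finset.sum_congr rfl (fun u _ => h2 u), ← Finset.mul_sum, ← Finset.mul_sum] at h1
    rcases mul_eq_zero.1 h1 with h3 | h3
    · exact absurd h3 (irr_one_ne_zero hθW)
    · exact h3
  · intro j _ hj
    apply Finset.sum_eq_zero
    intro u _
    rw [if_neg hj, zero_mul]
  · intro h; exact absurd (mem_univ _) h

end H67.BlkOne
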