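import Mathlib
import Cfsg.Agent.Lib.H67.BlkOne2
import Cfsg.Agent.Lib.H77.Degree

set_option autoImplicit false
set_option linter.unusedSectionVars false

/-! Blocks with a defect group of order `p`: congruences. -/

namespace H67.BlkOne

open Finset Cfsg H18.CharBasic H18.CharOrtho H18.CharInd H67.Lat H67.DefOne H20.Loc
open scoped ComplexConjugate

universe u

variable {p : ℕ} [hp : Fact p.Prime] {G : Type u} [Group G] {D : Dat p G} [Fintype G] [Fintype D.W]

theorem cmk_conj (n : D.N₀) (j i : ZMod p) (u : D.W) :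
    (n * D.σ ^ j.val : G) * (cmk D i u : G) * (n * D.σ ^ j.val : G)⁻¹ =
      (cmk D ((KK D n : ZMod p) * i) ⟨n * u * (n : G)⁻¹, conj_mem_W D n u⟩ : CC D) := by
  have hcomm : D.σ ^ j.val * (cmk D i u : G) = (cmk D i u : G) * D.σ ^ j.val := by
    have h2 : Commute ((cmk D i u : CC D) : G) D.σ := (mem_CC D).1 (cmk D i u).2
    exact (h2.pow_right _).eq.symm
  calc (n * D.σ ^ j.val : G) * (cmk D i u : G) * (n * D.σ ^ j.val : G)⁻¹
      = n * (D.σ ^ j.val * (cmk D i u : G)) * (D.σ ^ j.val)⁻¹ * (n : G)⁻¹ := by group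
    _ = n * (cmk D i u : G) * (n : G)⁻¹ := by rw [hcomm]; group
    _ = (n * D.σ ^ i.val * (n : G)⁻¹) * (n * u * (n : G)⁻¹) := by
        rw [cmk_coe]; group
    _ = _ := by rw [KK_conj, cmk_coe]

theorem indFun_cmk [Fintype D.N₀] {θ : CC D → ℂ} (hθ : IsCharacter (CC D) θ) (h : KerP D θ)
    {i : ZMod p} (hi : i ≠ 0) (u : D.W) :
    indFun (CC D) θ (cmk D i u : G) = (Nat.card D.W : ℂ)⁻¹ * ∑ n : D.N₀, cjW D n (resW D θ) u := by
  have hp0 : (p : ℂ) ≠ 0 := by exact_mod_cast hp.out.ne_zero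
  rw [indFun_apply', sum_normalizer D]
  · have h1 : ∀ (n : D.N₀) (j : ZMod p), extendByZero (CC D) θ
        ((n * D.σ ^ j.val : G) * (cmk D i u : G) * (n * D.σ ^ j.val : G)⁻¹) = cjW D n (resW D θ) u := by
      intro n j
      rw [cmk_conj, ext_coe, h.apply_cmk hθ]
      rfl
    have h2 : ∀ n : D.N₀, ∑ j : ZMod p, extendByZero (CC D) θ
        ((n * D.σ ^ j.val : G) * (cmk D i u : G) * (n * D.σ ^ j.val : G)⁻¹) =
          (p : ℂ) * cjW D n (resW D θ) u := by
      intro n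
      rw [Finset.sum_congr rfl (fun j _ => h1 n j), Finset.sum_const, Finset.card_univ, ZMod.card,
        nsmul_eq_mul]
    rw [Finset.sum_congr rfl (fun n _ => h2 n), ← Finset.mul_sum, card_CC, Nat.cast_mul, mul_inv,
      mul_comm (p : ℂ)⁻¹, mul_assoc, inv_mul_cancel_left₀ hp0]
  · intro x hx
    rw [ext_notMem]
    intro hmem
    obtain ⟨i', u', h'⟩ := cmk_surj D ⟨_, hmem⟩
    apply hx
    exact mem_normalizer_of_Phi D (q := (Multiplicative.ofAdd i, u)) (q' := (Multiplicative.ofAdd i', u'))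
      hi (congrArg Subtype.val h').symm

variable {M : Ideal AlgInt}

theorem congr_pre [Fintype D.N₀] (hM : IsPModular p M) {θ : IrrCharacter (CC D)} (h : KerP D (θ : CC D → ℂ))
    {b : Set (IrrCharacter (CC D))} (hθb : θ ∈ b)
    {B : Set (IrrCharacter G)} (hind : IsInducedBlock M (CC D) b B) {χ : IrrCharacter G} (hχ : χ ∈ B)
    {i : ZMod p} (hi : i ≠ 0) (u : D.W) :
    MemLocalIdeal M ((∑ n : D.N₀, cjW D n (resW D θ) u) / resW D θ 1 -
      ((Nat.card G : ℂ) / p) * (χ : G → ℂ) (D.σ ^ i.val * u) / (χ : G → ℂ) 1) := by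
  have := H20.Loc.pm_isPrime hM
  have hp0 : (p : ℂ) ≠ 0 := by exact_mod_cast hp.out.ne_zero
  have hW0 : (Nat.card D.W : ℂ) ≠ 0 := by exact_mod_cast Nat.card_pos.ne'
  have h1 := hind.2.2 θ hθb χ hχ (cmk D i u : G)
  rw [H20.IndFun.inducedCentralChar_eq_centralChar] at h1
  set g : G := (cmk D i u : G) with hg
  -- the centralizer has order divisible by `p`
  obtain ⟨K', hK'⟩ : p ∣ Nat.card (Subgroup.centralizer ({g} : Set G)) := by
    have h2 : D.σ ∈ Subgroup.centralizer ({g} : Set G) := by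
      rw [Subgroup.mem_centralizer_singleton_iff]
      exact ((mem_CC D).1 (cmk D i u).2).symm
    have h3 := Subgroup.orderOf_dvd_natCard _ h2
    rwa [D.hσ] at h3
  have h2 := locI_mul_left (locR_natCast (M := M) K') h1
  have hcard : ((K' : ℂ) * ((Subgroup.centralizer ({g} : Set G)).index : ℂ)) = (Nat.card G : ℂ) / p := by
    rw [eq_div_iff hp0, ← (Subgroup.centralizer ({g} : Set G)).card_mul_index, hK']
    push_cast
    ring
  have hCi : ((CC D).index : ℂ) = (Nat.card G : ℂ) / ((p : ℂ) * Nat.card D.W) := by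
    rw [eq_div_iff (mul_ne_zero hp0 hW0), ← (CC D).card_mul_index, card_CC]
    push_cast
    ring
  have hθ1 : (θ : CC D → ℂ) 1 = resW D θ 1 := rfl
  have hθ0 : resW D θ 1 ≠ 0 := irr_one_ne_zero (h.irr θ.2)
  have hG0 : (Nat.card G : ℂ) ≠ 0 := by exact_mod_cast Nat.card_pos.ne'
  have h3 : (K' : ℂ) * (centralChar (indFun (CC D) (θ : CC D → ℂ)) g - centralChar (χ : G → ℂ) g) =
      (∑ n : D.N₀, cjW D n (resW D θ) u) / resW D θ 1 -
      ((Nat.card G : ℂ) / p) * (χ : G → ℂ) (D.σ ^ i.val * u) / (χ : G → ℂ) 1 := by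
    rw [centralChar, centralChar, mul_sub]
    have e1 : (K' : ℂ) * (((Subgroup.centralizer ({g} : Set G)).index : ℂ) * (χ : G → ℂ) g / (χ : G → ℂ) 1) =
        ((Nat.card G : ℂ) / p) * (χ : G → ℂ) (D.σ ^ i.val * u) / (χ : G → ℂ) 1 := by
      rw [← hcard]
      change _ = (K' : ℂ) * ((Subgroup.centralizer ({g} : Set G)).index : ℂ) * (χ : G → ℂ) g / (χ : G → ℂ) 1
      ring
    have e2 : (K' : ℂ) * (((Subgroup.centralizer ({g} : Set G)).index : ℂ) *
        indFun (CC D) (θ : CC D → ℂ) g / indFun (CC D) (θ : CC D → ℂ) 1) =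
        (∑ n : D.N₀, cjW D n (resW D θ) u) / resW D θ 1 := by
      rw [hg, indFun_cmk (isCharacter_of_isIrr θ.2) h hi, indFun_one, hCi, ← hg, hθ1]
      rw [show (K' : ℂ) * (((Subgroup.centralizer ({g} : Set G)).index : ℂ) *
        ((Nat.card D.W : ℂ)⁻¹ * ∑ n : D.N₀, cjW D n (resW D θ) u) /
          ((Nat.card G : ℂ) / ((p : ℂ) * Nat.card D.W) * resW D θ 1)) =
        ((K' : ℂ) * ((Subgroup.centralizer ({g} : Set G)).index : ℂ)) *
        (((Nat.card D.W : ℂ)⁻¹ * ∑ n : D.N₀, cjW D n (resW D θ) u) /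
          ((Nat.card G : ℂ) / ((p : ℂ) * Nat.card D.W) * resW D θ 1)) by ring, hcard]
      field_simp
    rw [e1, e2]
  rwa [h3] at h2

theorem sum_cjW [Fintype D.N₀] {θ : D.W → ℂ} (hθ : IsIrrCharacter D.W θ) :
    ∑ u : D.W, conj (θ u) * ∑ n : D.N₀, cjW D n θ u = (Nat.card D.W : ℂ) * Nat.card (T₀ D θ) := by
  classical
  let _ : Fintype (T₀ D θ) := Fintype.ofFinite _
  have hW0 : (Nat.card D.W : ℂ) ≠ 0 := by exact_mod_cast Nat.card_pos.ne'
  have h1 : ∀ n : D.N₀, ∑ u : D.W, conj (θ u) * cjW D n θ u =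
      if n ∈ T₀ D θ then (Nat.card D.W : ℂ) else 0 := by
    intro n
    have h2 := inner_irr (cjW_irr D hθ n) hθ
    rw [classInner] at h2
    have h3 : ∑ u : D.W, conj (θ u) * cjW D n θ u = ∑ u : D.W, cjW D n θ u * conj (θ u) :=
      Finset.sum_congr rfl (fun u _ => mul_comm _ _)
    rw [h3]
    by_cases hn : n ∈ T₀ D θ
    · rw [if_pos ((mem_T₀ D).1 hn), inv_mul_eq_one₀ hW0] at h2
      rw [if_pos hn, h2]
    · rw [if_neg (fun h => hn ((mem_T₀ D).2 h))] at h2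
      rw [if_neg hn]
      exact (mul_eq_zero.1 h2).resolve_left (inv_ne_zero hW0)
  simp only [Finset.mul_sum]
  rw [Finset.sum_comm, Finset.sum_congr rfl (fun n _ => h1 n), ← Finset.sum_filter, Finset.sum_const,
    nsmul_eq_mul, mul_comm]
  congr 2
  rw [Nat.card_eq_fintype_card, Fintype.card_subtype]

/-- the main congruence -/
theorem congr_one (hM : IsPModular p M) {θ : IrrCharacter (CC D)} (h : KerP D (θ : CC D → ℂ))
    {b : Set (IrrCharacter (CC D))} (hθb : θ ∈ b)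
    {B : Set (IrrCharacter G)} (hind : IsInducedBlock M (CC D) b B) {χ : IrrCharacter G} (hχ : χ ∈ B)
    {i : ZMod p} (hi : i ≠ 0) :
    MemLocalIdeal M (((Nat.card D.W : ℂ) * Nat.card (T₀ D (resW D θ))) / resW D θ 1 -
      ((Nat.card G : ℂ) / p) * ((Nat.card D.W : ℂ) * FF D.W χ (resW D θ) (D.σ ^ i.val)) / (χ : G → ℂ) 1) := by
  have := H20.Loc.pm_isPrime hM
  let _ : Fintype D.N₀ := Fintype.ofFinite _
  have hW0 : (Nat.card D.W : ℂ) ≠ 0 := by exact_mod_cast Nat.card_pos.ne'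
  have hθW := h.irr θ.2
  have hint : ∀ u : D.W, MemLocalRing M (conj (resW D θ u)) := fun u =>
    isIntegral_mem ((char_isIntegral (isCharacter_of_isIrr hθW) u).map
      (Complex.conjAe.restrictScalars ℤ).toAlgHom)
  have h1 := locI_sum (M := M) (s := univ) (f := fun u : D.W => conj (resW D θ u) *
    ((∑ n : D.N₀, cjW D n (resW D θ) u) / resW D θ 1 -
      ((Nat.card G : ℂ) / p) * (χ : G → ℂ) (D.σ ^ i.val * u) / (χ : G → ℂ) 1))
      (fun u _ => locI_mul_left (hint u) (congr_pre hM h hθb hind hχ hi u))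
  have h2 : ∑ u : D.W, conj (resW D θ u) *
    ((∑ n : D.N₀, cjW D n (resW D θ) u) / resW D θ 1 -
      ((Nat.card G : ℂ) / p) * (χ : G → ℂ) (D.σ ^ i.val * u) / (χ : G → ℂ) 1) =
      ((Nat.card D.W : ℂ) * Nat.card (T₀ D (resW D θ))) / resW D θ 1 -
      ((Nat.card G : ℂ) / p) * ((Nat.card D.W : ℂ) * FF D.W χ (resW D θ) (D.σ ^ i.val)) / (χ : G → ℂ) 1 := by
    rw [← sum_cjW hθW, FF, mul_inv_cancel_left₀ hW0, Finset.sum_div, Finset.mul_sum, Finset.sum_div,
      ← Finset.sum_sub_distrib]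
    refine Finset.sum_congr rfl (fun u _ => ?_)
    ring
  rwa [h2] at h1

end H67.BlkOne
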