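import Mathlib
import Cfsg.Agent.Lib.H67.BlkOne3

set_option autoImplicit false
set_option linter.unusedSectionVars false

/-! Blocks with a defect group of order `p`: degrees. -/

namespace H67.BlkOne

open Finset Cfsg H18.CharBasic H18.CharOrtho H18.CharInd H67.Lat H67.DefOne H20.Loc
open scoped ComplexConjugate

universe u

variable {p : ℕ} [hp : Fact p.Prime] {G : Type u} [Group G] {D : Dat p G} [Fintype G] [Fintype D.W]

open Classical in
/-- orders of the groups between the Sylow subgroup and its normalizer -/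
theorem card_between (K : Subgroup G) (h1 : Subgroup.zpowers D.σ ≤ K)
    (h2 : K ≤ Subgroup.normalizer (Subgroup.zpowers D.σ : Set G)) :
    Nat.card K = p * Nat.card {n : D.N₀ // (n : G) ∈ K} := by
  let _ : Fintype D.N₀ := Fintype.ofFinite _
  have h3 := sum_normalizer D (fun x : G => if x ∈ K then (1 : ℂ) else 0) (fun x hx => by
    rw [if_neg (fun h => hx (h2 h))])
  have h4 : ∀ (n : D.N₀) (j : ZMod p), (if (n : G) * D.σ ^ j.val ∈ K then (1 : ℂ) else 0) =
      if (n : G) ∈ K then 1 else 0 := by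
    intro n j
    have h5 : D.σ ^ j.val ∈ K := K.pow_mem (h1 (Subgroup.mem_zpowers D.σ)) _
    congr 1
    rw [eq_iff_iff]
    exact K.mul_mem_cancel_right h5
  have h6 : ∀ n : D.N₀, ∑ j : ZMod p, (if (n : G) * D.σ ^ j.val ∈ K then (1 : ℂ) else 0) =
      if (n : G) ∈ K then (p : ℂ) else 0 := by
    intro n
    rw [Finset.sum_congr rfl (fun j _ => h4 n j), Finset.sum_const, Finset.card_univ, ZMod.card,
      nsmul_eq_mul]
    split_ifs
    · rw [mul_one]
    · rw [mul_zero]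
  simp only [h6] at h3
  rw [← Finset.sum_filter, ← Finset.sum_filter, Finset.sum_const, Finset.sum_const, nsmul_eq_mul,
    nsmul_eq_mul, mul_one] at h3
  have h7 : Nat.card K = (univ.filter (fun x : G => x ∈ K)).card := by
    rw [Nat.card_eq_fintype_card, Fintype.card_subtype]
  have h8 : Nat.card {n : D.N₀ // (n : G) ∈ K} = (univ.filter (fun n : D.N₀ => (n : G) ∈ K)).card := by
    rw [Nat.card_eq_fintype_card, Fintype.card_subtype]
  rw [h7, h8]
  have h9 : (((univ.filter (fun x : G => x ∈ K)).card : ℕ) : ℂ) =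
      ((p * (univ.filter (fun n : D.N₀ => (n : G) ∈ K)).card : ℕ) : ℂ) := by
    rw [h3]; push_cast; ring
  exact_mod_cast h9

theorem card_normalizer : Nat.card (Subgroup.normalizer (Subgroup.zpowers D.σ : Set G)) =
    p * Nat.card D.N₀ := by
  rw [card_between (D := D) _ Subgroup.le_normalizer le_rfl]
  congr 1
  exact Nat.card_congr (Equiv.subtypeUnivEquiv (fun n => D.hN₀ n.2))

theorem card_div_modEq (P : Sylow p G) (hP : (P : Subgroup G) = Subgroup.zpowers D.σ) :
    ∃ m : ℕ, Nat.card G = p * m ∧ m ≡ Nat.card D.N₀ [MOD p] := by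
  have h1 := (Subgroup.normalizer (Subgroup.zpowers D.σ : Set G)).card_mul_index
  rw [card_normalizer] at h1
  refine ⟨Nat.card D.N₀ * (Subgroup.normalizer (Subgroup.zpowers D.σ : Set G)).index, ?_, ?_⟩
  · rw [← h1, mul_assoc]
  · have h2 := card_sylow_modEq_one p G
    have e : (P : Set G) = (Subgroup.zpowers D.σ : Set G) :=
      congrArg (fun H : Subgroup G => (H : Set G)) hP
    rw [P.card_eq_index_normalizer, e] at h2
    have h3 := (Nat.ModEq.refl (n := p) (Nat.card D.N₀)).mul h2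
    rwa [mul_one] at h3

variable {M : Ideal AlgInt}

theorem FF_memR (hM : IsPModular p M) {χ : G → ℂ} (hχ : IsCharacter G χ) {θ : D.W → ℂ}
    (hθ : IsCharacter D.W θ) (x : G) : MemLocalRing M (FF D.W χ θ x) := by
  have := H20.Loc.pm_isPrime hM
  rw [FF]
  refine locR_mul (locR_natCast_inv hM not_dvd_card_W) (locR_sum (fun u _ => ?_))
  exact locR_mul (isIntegral_mem (char_isIntegral hχ _))
    (isIntegral_mem ((char_isIntegral hθ u).map (Complex.conjAe.restrictScalars ℤ).toAlgHom))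

theorem degree_W {θ : D.W → ℂ} (hθ : IsIrrCharacter D.W θ) : ∃ d : ℕ, θ 1 = d ∧ ¬ p ∣ d := by
  obtain ⟨n, ρ, hρ⟩ := isCharacter_of_isIrr hθ
  have h1 : θ 1 = (Module.finrank ℂ (Fin n → ℂ) : ℂ) := by
    rw [← hρ, Representation.char_one]
  refine ⟨_, h1, fun h => not_dvd_card_W (D := D) (h.trans ?_)⟩
  exact H77.Degree.degree_dvd_card hθ h1

/-- the degree of a character of the block -/
theorem congr_two (hM : IsPModular p M) (P : Sylow p G) (hP : (P : Subgroup G) = Subgroup.zpowers D.σ)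
    {θ : IrrCharacter (CC D)} (h : KerP D (θ : CC D → ℂ))
    {b : Set (IrrCharacter (CC D))} (hθb : θ ∈ b)
    {B : Set (IrrCharacter G)} (hind : IsInducedBlock M (CC D) b B) {χ : IrrCharacter G} (hχ : χ ∈ B)
    {i : ZMod p} (hi : i ≠ 0) :
    MemLocalIdeal M ((χ : G → ℂ) 1 -
      ((T₀ D (resW D θ)).index : ℂ) * (resW D θ 1 * FF D.W χ (resW D θ) (D.σ ^ i.val))) := by
  have := H20.Loc.pm_isPrime hM
  have hp0 : (p : ℂ) ≠ 0 := by exact_mod_cast hp.out.ne_zero
  have hW0 : (Nat.card D.W : ℂ) ≠ 0 := by exact_mod_cast Nat.card_pos.ne'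
  have hθW := h.irr θ.2
  have hθ0 : resW D θ 1 ≠ 0 := irr_one_ne_zero hθW
  have hχ0 : (χ : G → ℂ) 1 ≠ 0 := irr_one_ne_zero χ.2
  have h1 := congr_one hM h hθb hind hχ hi
  obtain ⟨m, hm, hmod⟩ := card_div_modEq P hP
  have hGp : (Nat.card G : ℂ) / p = m := by
    rw [hm]; push_cast; field_simp
  rw [hGp] at h1
  have hFR : MemLocalRing M (FF D.W χ (resW D θ) (D.σ ^ i.val)) :=
    FF_memR hM (isCharacter_of_isIrr χ.2) (isCharacter_of_isIrr hθW) _
  have hθR : MemLocalRing M (resW D θ 1) := isIntegral_mem (char_isIntegral (isCharacter_of_isIrr hθW) 1)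
  have hχR : MemLocalRing M ((χ : G → ℂ) 1) := isIntegral_mem (char_isIntegral (isCharacter_of_isIrr χ.2) 1)
  have hWR : MemLocalRing M ((Nat.card D.W : ℂ)⁻¹) := locR_natCast_inv hM not_dvd_card_W
  have h2 := locI_mul_left (locR_mul hWR (locR_mul hθR hχR)) h1
  have h3 : (Nat.card D.W : ℂ)⁻¹ * (resW D θ 1 * (χ : G → ℂ) 1) *
      ((Nat.card D.W : ℂ) * Nat.card (T₀ D (resW D θ)) / resW D θ 1 -
        (m : ℂ) * ((Nat.card D.W : ℂ) * FF D.W χ (resW D θ) (D.σ ^ i.val)) / (χ : G → ℂ) 1) =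
      (Nat.card (T₀ D (resW D θ)) : ℂ) * (χ : G → ℂ) 1 -
        (m : ℂ) * (resW D θ 1 * FF D.W χ (resW D θ) (D.σ ^ i.val)) := by
    field_simp
  rw [h3] at h2
  -- replace `m`
  have h4 : MemLocalIdeal M ((m : ℂ) - (Nat.card D.N₀ : ℂ)) := by
    have h5 : (p : ℤ) ∣ ((m : ℤ) - (Nat.card D.N₀ : ℤ)) := (Nat.modEq_iff_dvd.1 hmod.symm)
    have h6 := (locI_intCast_iff hM).2 h5
    push_cast at h6
    exact h6
  have h5 := locI_mul_right h4 (locR_mul hθR hFR)
  have h6 := locI_add h2 h5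
  have hT := (T₀ D (resW D θ)).card_mul_index
  have h7 : (Nat.card (T₀ D (resW D θ)) : ℂ) * (χ : G → ℂ) 1 -
        (m : ℂ) * (resW D θ 1 * FF D.W χ (resW D θ) (D.σ ^ i.val)) +
      ((m : ℂ) - (Nat.card D.N₀ : ℂ)) * (resW D θ 1 * FF D.W χ (resW D θ) (D.σ ^ i.val)) =
      (Nat.card (T₀ D (resW D θ)) : ℂ) * ((χ : G → ℂ) 1 -
      ((T₀ D (resW D θ)).index : ℂ) * (resW D θ 1 * FF D.W χ (resW D θ) (D.σ ^ i.val))) := by
    rw [← hT]
    push_cast
    ring
  rw [h7] at h6
  have hTp : ¬ p ∣ Nat.card (T₀ D (resW D θ)) := fun h => D.hNp (h.trans (Subgroup.card_subgroup_dvd_card _))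
  have hT0 : (Nat.card (T₀ D (resW D θ)) : ℂ) ≠ 0 := by exact_mod_cast Nat.card_pos.ne'
  have h8 := locI_mul_left (locR_natCast_inv hM hTp) h6
  rwa [inv_mul_cancel_left₀ hT0] at h8

/-- nonvanishing on the block -/
theorem FF_ne_zero (hM : IsPModular p M)
    {θ : IrrCharacter (CC D)} (h : KerP D (θ : CC D → ℂ))
    {b : Set (IrrCharacter (CC D))} (hθb : θ ∈ b)
    {B : Set (IrrCharacter G)} (hind : IsInducedBlock M (CC D) b B) {χ : IrrCharacter G} (hχ : χ ∈ B)
    {i : ZMod p} (hi : i ≠ 0) : FF D.W χ (resW D θ) (D.σ ^ i.val) ≠ 0 := by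
  have := H20.Loc.pm_isPrime hM
  intro h0
  have hθW := h.irr θ.2
  have h1 := congr_one hM h hθb hind hχ hi
  rw [h0, mul_zero, mul_zero, zero_div, sub_zero] at h1
  obtain ⟨d, hd, hdp⟩ := degree_W hθW
  rw [hd] at h1
  have hd0 : (d : ℂ) ≠ 0 := by
    rw [← hd]; exact irr_one_ne_zero hθW
  have h2 := locI_mul_right h1 (locR_natCast (M := M) d)
  rw [div_mul_cancel₀ _ hd0] at h2
  have h3 : ((Nat.card D.W : ℂ) * Nat.card (T₀ D (resW D θ))) =
      ((Nat.card D.W * Nat.card (T₀ D (resW D θ)) : ℕ) : ℂ) := by push_cast; ring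
  rw [h3, locI_natCast_iff hM, hp.out.dvd_mul] at h2
  rcases h2 with h2 | h2
  · exact not_dvd_card_W h2
  · exact D.hNp (h2.trans (Subgroup.card_subgroup_dvd_card _))

end H67.BlkOne
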