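import Mathlib
import Cfsg.Agent.Lib.H67.BlkOne4
import Cfsg.Agent.Lib.H82.Deg

set_option autoImplicit false
set_option linter.unusedSectionVars false

/-! Blocks with a defect group of order `p`: main theorem. -/

namespace H67.BlkOne

open Finset Cfsg H18.CharBasic H18.CharOrtho H18.CharInd H67.Lat H67.DefOne H20.Loc
open scoped ComplexConjugate

universe u

variable {p : ℕ} [hp : Fact p.Prime] {G : Type u} [Group G] {D : Dat p G} [Fintype G] [Fintype D.W]
variable {M : Ideal AlgInt}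

theorem card_HH_dvd (θ : D.W → ℂ) : Nat.card (HH D θ) ∣ p - 1 := by
  have h := (HH D θ).card_subgroup_dvd_card
  rwa [Nat.card_eq_fintype_card (α := (ZMod p)ˣ), ZMod.card_units] at h

theorem ee_sub_one (hM : IsPModular p M) (i : ZMod p) : MemLocalIdeal M (ee i - 1) := by
  have := hM.2.1
  have h1 : ee i ^ (p ^ 1) = 1 := by
    rw [pow_one]
    have h2 : ∀ n : ℕ, ee ((n : ZMod p) * i) = ee i ^ n := by
      intro n
      induction n with
      | zero => rw [Nat.cast_zero, zero_mul, ee_zero, pow_zero]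
      | succ n ih =>
        rw [Nat.cast_succ, add_mul, one_mul, ee_add, ih, pow_succ]
    rw [← h2, CharP.cast_eq_zero, zero_mul, ee_zero]
  exact locI_root_of_unity_sub_one hM h1

open Classical in
theorem sum_ee_coset (hM : IsPModular p M) (H : Subgroup (ZMod p)ˣ) (q : (ZMod p)ˣ ⧸ H) (i : ZMod p) :
    MemLocalIdeal M (∑ b ∈ (univ : Finset (ZMod p)ˣ).filter (fun b => QuotientGroup.mk b = q),
      ee ((b : ZMod p) * i) - Nat.card H) := by
  have := H20.Loc.pm_isPrime hM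
  have h1 := locI_sum (M := M) (s := (univ : Finset (ZMod p)ˣ).filter (fun b => QuotientGroup.mk b = q))
    (f := fun b => ee ((b : ZMod p) * i) - 1) (fun b _ => ee_sub_one hM _)
  rw [Finset.sum_sub_distrib, Finset.sum_const, card_coset, nsmul_eq_mul, mul_one] at h1
  exact h1

theorem core (hM : IsPModular p M) (P : Sylow p G) (hP : (P : Subgroup G) = Subgroup.zpowers D.σ)
    (hp2 : ¬ p ^ 2 ∣ Nat.card G)
    {θ : IrrCharacter (CC D)} (h : KerP D (θ : CC D → ℂ))
    {b : Set (IrrCharacter (CC D))} (hθb : θ ∈ b)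
    {B : Set (IrrCharacter G)} (hind : IsInducedBlock M (CC D) b B) :
    Nat.card (HH D (resW D θ)) ∣ p - 1 ∧
    Nat.card B = Nat.card (HH D (resW D θ)) + (p - 1) / Nat.card (HH D (resW D θ)) ∧
    ∃ X Y : Set (IrrCharacter G), B = X ∪ Y ∧ Disjoint X Y ∧ Nat.card X = Nat.card (HH D (resW D θ)) ∧
      Nat.card Y = (p - 1) / Nat.card (HH D (resW D θ)) ∧
      (∀ χ ∈ X, (charDegree (χ : G → ℂ) : ℤ) ≡
        (((T₀ D (resW D θ)).index * charDegree (θ : CC D → ℂ) : ℕ) : ℤ) [ZMOD p] ∨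
        (charDegree (χ : G → ℂ) : ℤ) ≡
        -(((T₀ D (resW D θ)).index * charDegree (θ : CC D → ℂ) : ℕ) : ℤ) [ZMOD p]) ∧
      (∃ ε : ℤ, (ε = 1 ∨ ε = -1) ∧ ∀ ψ ∈ Y, (charDegree (ψ : G → ℂ) : ℤ) ≡
        ε * ((Nat.card (HH D (resW D θ)) * (T₀ D (resW D θ)).index * charDegree (θ : CC D → ℂ) : ℕ) : ℤ)
          [ZMOD p]) ∧
      ∀ ψ ∈ Y, ∀ ψ' ∈ Y, ∀ g : G, ¬ p ∣ orderOf g → (ψ : G → ℂ) g = (ψ' : G → ℂ) g := by
  classical
  have := H20.Loc.pm_isPrime hM
  let _ : Fintype (IrrCharacter G) := Fintype.ofFinite _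
  have hθW := h.irr θ.2
  have hb : b = blockOf M (θ : CC D → ℂ) := H20.Blk.isPBlock_eq hind.1 hθb
  obtain ⟨s, y, c, hs, hy, hc, hcy, hyF, hcF, hcard, hreg⟩ := defect_one D hp2 hθW
  set e := Nat.card (HH D (resW D θ)) with he
  have hedvd : e ∣ p - 1 := card_HH_dvd _
  have hp1 : 0 < p - 1 := Nat.sub_pos_of_lt hp.out.one_lt
  have hepos : 0 < e := Nat.pos_of_dvd_of_pos hedvd hp1
  have hep : ¬ p ∣ e := by
    intro hd
    have h1 := Nat.le_of_dvd hepos hd
    have h2 := Nat.le_of_dvd hp1 hedvd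
    omega
  have hi : (1 : ZMod p) ≠ 0 := one_ne_zero
  have hsR : MemLocalRing M (-(s : ℂ)) := locR_neg (locR_intCast s)
  have hs0 : (s : ℂ) ≠ 0 := by
    rcases hs with rfl | rfl <;> norm_num
  -- exceptional characters modulo the ideal
  have hyF' : ∀ q, MemLocalIdeal M (FF D.W (y q) (resW D θ) (D.σ ^ (1 : ZMod p).val) - (-(s : ℂ) * e)) := by
    intro q
    rw [hyF q 1 hi, ← mul_sub]
    exact locI_mul_left hsR (sum_ee_coset hM _ q 1)
  have hyne : ∀ q, FF D.W (y q) (resW D θ) (D.σ ^ (1 : ZMod p).val) ≠ 0 := by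
    intro q h0
    have h1 := hyF' q
    rw [h0, zero_sub, ← neg_mul, neg_neg] at h1
    have h2 : (s : ℂ) * e = ((s * e : ℤ) : ℂ) := by push_cast; ring
    rw [h2, locI_intCast_iff hM] at h1
    apply hep
    rcases hs with rfl | rfl
    · rw [one_mul] at h1
      exact Int.natCast_dvd_natCast.1 h1
    · rw [neg_one_mul, dvd_neg] at h1
      exact Int.natCast_dvd_natCast.1 h1
  have hcy' : ∀ χ, c χ ≠ 0 → ∀ q, χ ≠ y q := by
    rintro χ h1 q rfl
    exact h1 (hcy q)
  let X : Set (IrrCharacter G) := {χ | c χ ≠ 0}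
  let Y : Set (IrrCharacter G) := Set.range y
  have hBXY : B = X ∪ Y := by
    ext χ
    constructor
    · intro hχ
      by_cases hχY : ∃ q, y q = χ
      · exact Or.inr hχY
      · push Not at hχY
        have h1 := hcF χ (fun q h => hχY q h.symm) 1 hi
        have h2 := FF_ne_zero hM h hθb hind hχ hi
        rw [h1] at h2
        exact Or.inl (by exact_mod_cast h2)
    · intro hχ
      by_contra hχB
      have h0 := FF_eq_zero hM h (hb ▸ hind) χ hχB hi
      rcases hχ with hχ | ⟨q, rfl⟩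
      · have h1 := hcF χ (hcy' χ hχ) 1 hi
        rw [h0] at h1
        exact hχ (by exact_mod_cast h1.symm)
      · exact hyne q h0
  have hdisj : Disjoint X Y := by
    rw [Set.disjoint_left]
    rintro χ hχ ⟨q, rfl⟩
    exact hχ (hcy q)
  have hX : Nat.card X = e := by
    rw [← hcard, Nat.card_eq_fintype_card]
    change Fintype.card {χ // c χ ≠ 0} = _
    rw [Fintype.card_subtype]
  have hY : Nat.card Y = (p - 1) / e := by
    have h1 : Nat.card Y = Nat.card ((ZMod p)ˣ ⧸ HH D (resW D θ)) :=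
      (Nat.card_congr (Equiv.ofInjective y hy)).symm
    have h2 := (HH D (resW D θ)).card_mul_index
    rw [Subgroup.index, Nat.card_eq_fintype_card (α := (ZMod p)ˣ), ZMod.card_units, ← he] at h2
    rw [h1, ← h2, Nat.mul_div_cancel_left _ hepos]
  obtain ⟨d, hd, hdp⟩ := degree_W hθW
  have hdθ : charDegree (θ : CC D → ℂ) = d := H82.Deg.charDegree_eq_of hd
  refine ⟨hedvd, ?_, X, Y, hBXY, hdisj, hX, hY, ?_, ?_, ?_⟩
  · have h1 : Nat.card B = Nat.card X + Nat.card Y := by
      rw [hBXY]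
      rw [Nat.card_coe_set_eq, Nat.card_coe_set_eq, Nat.card_coe_set_eq]
      exact Set.ncard_union_eq hdisj (Set.toFinite _) (Set.toFinite _)
    rw [h1, hX, hY]
  · intro χ hχ
    have hχB : χ ∈ B := by rw [hBXY]; exact Or.inl hχ
    have h1 := congr_two hM P hP h hθb hind hχB hi
    rw [hcF χ (hcy' χ hχ) 1 hi, ← H82.Deg.coe_charDegree' χ, hd] at h1
    have h2 : ((charDegree (χ : G → ℂ) : ℂ) - ((T₀ D (resW D θ)).index : ℂ) * ((d : ℂ) * (c χ : ℂ))) =
        (((charDegree (χ : G → ℂ) : ℤ) - c χ * (((T₀ D (resW D θ)).index * d : ℕ) : ℤ) : ℤ) : ℂ) := by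
      push_cast; ring
    rw [h2, locI_intCast_iff hM] at h1
    have h3 := (Int.modEq_iff_dvd.2 h1).symm
    rw [hdθ]
    rcases hc χ with h4 | h4 | h4
    · exact absurd h4 hχ
    · left
      rwa [h4, one_mul] at h3
    · right
      rwa [h4, neg_one_mul] at h3
  · refine ⟨-s, ?_, ?_⟩
    · rcases hs with rfl | rfl
      · right; rfl
      · left; rfl
    · intro ψ hψ
      obtain ⟨q, rfl⟩ := hψ
      have hχB : y q ∈ B := by rw [hBXY]; exact Or.inr ⟨q, rfl⟩
      have h1 := congr_two hM P hP h hθb hind hχB hi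
      rw [← H82.Deg.coe_charDegree' (y q), hd] at h1
      have h4 := locI_mul_left (locR_natCast (M := M) ((T₀ D (resW D θ)).index * d)) (hyF' q)
      have h5 := locI_add h1 h4
      have h2 : (((charDegree ((y q : IrrCharacter G) : G → ℂ) : ℂ) - ((T₀ D (resW D θ)).index : ℂ) *
          ((d : ℂ) * FF D.W (y q) (resW D θ) (D.σ ^ (1 : ZMod p).val))) +
          (((T₀ D (resW D θ)).index * d : ℕ) : ℂ) *
            (FF D.W (y q) (resW D θ) (D.σ ^ (1 : ZMod p).val) - -(s : ℂ) * e)) =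
          (((charDegree ((y q : IrrCharacter G) : G → ℂ) : ℤ) -
            (-s) * ((e * (T₀ D (resW D θ)).index * d : ℕ) : ℤ) : ℤ) : ℂ) := by
        push_cast; ring
      rw [h2, locI_intCast_iff hM] at h5
      rw [hdθ]
      exact (Int.modEq_iff_dvd.2 h5).symm
  · rintro ψ ⟨q, rfl⟩ ψ' ⟨q', rfl⟩ g hg
    have h1 := hreg g hg q
    have h2 := hreg g hg q'
    have h3 : (s : ℂ) * conj (((y q : IrrCharacter G) : G → ℂ) g) =
        (s : ℂ) * conj (((y q' : IrrCharacter G) : G → ℂ) g) := by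
      linear_combination h1 - h2
    have h4 := mul_left_cancel₀ hs0 h3
    exact (starRingEnd ℂ).injective h4

end H67.BlkOne
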