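import Mathlib
import Cfsg.Agent.Lib.H67.LatTrace

set_option autoImplicit false

/-! Eigenvectors for the normalizer, and the trace theorem for indecomposable lattices. -/

namespace H67.Lat

open Finset Polynomial

theorem exists_poly_prod {p : ℕ} (hp : p.Prime) : ∃ k : ℤ[X],
    ∏ a ∈ range p, (X - (a : ℤ[X])) = X ^ p - X + (p : ℤ[X]) * k := by
  have := Fact.mk hp
  have h1 : (X ^ p - X : (ZMod p)[X]) = ∏ a : ZMod p, (X - C a) := by
    have hdeg : (X ^ p - X : (ZMod p)[X]).natDegree = p :=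
      FiniteField.X_pow_card_sub_X_natDegree_eq (ZMod p) hp.one_lt
    have hroots : (X ^ p - X : (ZMod p)[X]).roots = (Finset.univ : Finset (ZMod p)).val := by
      have := FiniteField.roots_X_pow_card_sub_X (ZMod p)
      rwa [ZMod.card] at this
    have hmonic : (X ^ p - X : (ZMod p)[X]).Monic := by
      apply Polynomial.monic_X_pow_sub
      rw [Polynomial.degree_X]
      exact_mod_cast hp.one_lt
    have h2 := Polynomial.prod_multiset_X_sub_C_of_monic_of_roots_card_eq hmonic (by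
      rw [hroots, hdeg]
      change (Finset.univ : Finset (ZMod p)).card = p
      rw [Finset.card_univ, ZMod.card])
    rw [← h2, hroots]
    rfl
  have h3 : Polynomial.map (Int.castRingHom (ZMod p)) (∏ a ∈ range p, (X - (a : ℤ[X])) - (X ^ p - X)) = 0 := by
    rw [Polynomial.map_sub, Polynomial.map_prod, Polynomial.map_sub, Polynomial.map_pow,
      Polynomial.map_X, h1, sub_eq_zero]
    have h4 : ∀ a : ℕ, Polynomial.map (Int.castRingHom (ZMod p)) (X - (a : ℤ[X])) = X - C (a : ZMod p) := by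
      intro a
      rw [Polynomial.map_sub, Polynomial.map_X, Polynomial.map_natCast, Polynomial.C_eq_natCast]
    rw [Finset.prod_congr rfl (fun a _ => h4 a)]
    refine Finset.prod_bij (fun a _ => (a : ZMod p)) (fun _ _ => mem_univ _) ?_ ?_ (fun _ _ => rfl)
    · intro a ha b hb hab
      rw [ZMod.natCast_eq_natCast_iff'] at hab
      rwa [Nat.mod_eq_of_lt (mem_range.1 ha), Nat.mod_eq_of_lt (mem_range.1 hb)] at hab
    · intro b _
      exact ⟨b.val, mem_range.2 (ZMod.val_lt b), ZMod.natCast_zmod_val b⟩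
  have h5 : ∀ i, (p : ℤ) ∣ (∏ a ∈ range p, (X - (a : ℤ[X])) - (X ^ p - X)).coeff i := by
    intro i
    have h6 := congrArg (fun f => Polynomial.coeff f i) h3
    simp only [Polynomial.coeff_map, Polynomial.coeff_zero] at h6
    exact (ZMod.intCast_zmod_eq_zero_iff_dvd _ _).1 h6
  obtain ⟨k, hk⟩ := (Polynomial.C_dvd_iff_dvd_coeff _ _).2 h5
  refine ⟨k, ?_⟩
  have h10 : (Polynomial.C (p : ℤ)) = (p : ℤ[X]) := by simp
  rw [← h10, ← hk]
  ring

section eigen

variable {R : Type*} [CommRing R] {V : Type*} [AddCommGroup V] [Module R V] {p : ℕ}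

/-- an eigenvector modulo `Y` -/
theorem exists_eigen (hp : p.Prime) (y : Module.End R V) (X1 Y : Submodule R V)
    (hX : ∀ u ∈ X1, y u ∈ X1) (hpX : ∀ u ∈ X1, (p : ℕ) • u ∈ Y)
    (hy : ∀ u ∈ X1, (y ^ p) u - y u ∈ Y) {v0 : V} (hv0 : v0 ∈ X1) (hv0Y : v0 ∉ Y) :
    ∃ v ∈ X1, v ∉ Y ∧ ∃ a : ℕ, y v - (a : R) • v ∈ Y := by
  classical
  obtain ⟨k, hk⟩ := exists_poly_prod hp
  have hst : ∀ (f : ℤ[X]), ∀ u ∈ X1, (Polynomial.aeval y f) u ∈ X1 := by
    intro f u hu
    induction f using Polynomial.induction_on' with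
    | add f g hf hg => rw [map_add, LinearMap.add_apply]; exact X1.add_mem hf hg
    | monomial n a =>
      rw [Polynomial.aeval_monomial]
      have h1 : ∀ n : ℕ, (y ^ n) u ∈ X1 := by
        intro n
        induction n with
        | zero => simpa using hu
        | succ n ih => rw [pow_succ', Module.End.mul_apply]; exact hX _ ih
      have h2 : ((algebraMap ℤ (Module.End R V)) a * y ^ n) u = a • (y ^ n) u := by
        rw [Module.End.mul_apply]
        simp
      rw [h2]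
      exact X1.toAddSubgroup.zsmul_mem (h1 n) a
  let f : ℕ → ℤ[X] := fun j => ∏ a ∈ range j, (X - (a : ℤ[X]))
  have h0 : (Polynomial.aeval y (f 0)) v0 = v0 := by simp [f]
  have hlast : (Polynomial.aeval y (f p)) v0 ∈ Y := by
    change (Polynomial.aeval y (∏ a ∈ range p, (X - (a : ℤ[X])))) v0 ∈ Y
    rw [hk, map_add, map_sub, map_pow, Polynomial.aeval_X, map_mul, map_natCast,
      LinearMap.add_apply, LinearMap.sub_apply, Module.End.mul_apply, Module.End.natCast_apply]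
    exact Y.add_mem (hy v0 hv0) (hpX _ (hst k v0 hv0))
  have hex : ∃ j, (Polynomial.aeval y (f j)) v0 ∈ Y := ⟨p, hlast⟩
  set j := Nat.find hex with hj
  have hj1 : (Polynomial.aeval y (f j)) v0 ∈ Y := Nat.find_spec hex
  have hj0 : j ≠ 0 := by
    intro h
    rw [h, h0] at hj1
    exact hv0Y hj1
  obtain ⟨i, hi⟩ : ∃ i, j = i + 1 := ⟨j - 1, by omega⟩
  have hi1 : (Polynomial.aeval y (f i)) v0 ∉ Y := Nat.find_min hex (by omega)
  refine ⟨(Polynomial.aeval y (f i)) v0, hst _ _ hv0, hi1, i, ?_⟩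
  rw [hi] at hj1
  have h2 : f (i + 1) = (X - (i : ℤ[X])) * f i := by
    simp only [f]
    rw [Finset.prod_range_succ, mul_comm]
  rw [h2, map_mul, map_sub, Polynomial.aeval_X, map_natCast, Module.End.mul_apply,
    LinearMap.sub_apply, Module.End.natCast_apply] at hj1
  rw [Nat.cast_smul_eq_nsmul]
  exact hj1

end eigen

section main

variable {p : ℕ} {R : Type*} [CommRing R] [IsDomain R] [IsPrincipalIdealRing R] {n : ℕ}
variable {G : Type*} [Group G] [Finite G]

/-- Traces of an indecomposable lattice on the `p`-singular elements of the centralizer of the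
Sylow subgroup `⟨σ⟩` of order `p`. -/
theorem indec_trace (hR : Good p R) (ρ : Representation R G (Fin n → R)) (hind : Indec ρ) {σ : G}
    (hσ : orderOf σ = p) (hp2 : ¬ p ^ 2 ∣ Nat.card G) (W : Subgroup G) [Fintype W]
    (hWp : ¬ p ∣ Nat.card W) (hWc : ∀ u ∈ W, u * σ = σ * u)
    (hC : ∀ c : G, c * σ = σ * c → ∃ i : ℕ, ∃ u ∈ W, c = σ ^ i * u)
    (hWN : ∀ g ∈ Subgroup.normalizer (Subgroup.zpowers σ : Set G), ∀ u ∈ W, g * u * g⁻¹ ∈ W)
    (y : G) (hyN : y ∈ Subgroup.normalizer (Subgroup.zpowers σ : Set G))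
    (hy : ∀ g ∈ Subgroup.normalizer (Subgroup.zpowers σ : Set G), ∃ k : ℕ, ∃ c : G,
      c * σ = σ * c ∧ g = y ^ k * c) (hyp : (y ^ (p - 1)) * σ = σ * y ^ (p - 1)) :
    (∑ i ∈ Finset.Ico 1 p, ∑ u : W, LinearMap.trace R _ (ρ (σ ^ i * u)) = 0) ∨
    (∑ i ∈ Finset.Ico 1 p, ∑ u : W, LinearMap.trace R _ (ρ (σ ^ i * u)) =
      (Nat.card W : R) * ((p : R) - 1)) ∨
    (∑ i ∈ Finset.Ico 1 p, ∑ u : W, LinearMap.trace R _ (ρ (σ ^ i * u)) =
      -((Nat.card W : R) * ((p : R) - 1))) := by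
  classical
  have hp := hR.prime
  have hppos := hp.pos
  have hσp : σ ^ p = 1 := by rw [← hσ, pow_orderOf_eq_one]
  set s := ρ σ with hsdef
  have hs : s ^ p = 1 := by rw [hsdef, ← map_pow, hσp, map_one]
  set V := Fin n → R
  -- submodules
  set XF : Submodule R V := LinearMap.ker (s - 1) with hXF
  set YT : Submodule R V := LinearMap.range (TT p s) with hYT
  set XK : Submodule R V := LinearMap.ker (TT p s) with hXK
  set YD : Submodule R V := LinearMap.range (s - 1) with hYD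
  have mXF : ∀ u, u ∈ XF ↔ s u = u := by
    intro u
    rw [hXF, LinearMap.mem_ker, LinearMap.sub_apply, Module.End.one_apply, sub_eq_zero]
  have mXK : ∀ u, u ∈ XK ↔ TT p s u = 0 := fun u => LinearMap.mem_ker
  have mYT : ∀ u, u ∈ YT ↔ ∃ w, u = TT p s w := by
    intro u; constructor
    · rintro ⟨w, rfl⟩; exact ⟨w, rfl⟩
    · rintro ⟨w, rfl⟩; exact ⟨w, rfl⟩
  have mYD : ∀ u, u ∈ YD ↔ ∃ w, u = s w - w := by
    intro u; constructor
    · rintro ⟨w, rfl⟩; exact ⟨w, rfl⟩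
    · rintro ⟨w, rfl⟩; exact ⟨w, rfl⟩
  have hk1 : ∀ a, Kills p s a ↔ (∀ u ∈ XF, a u ∈ YT) ∧ ∀ u ∈ XK, a u ∈ YD := by
    intro a
    constructor
    · rintro ⟨h1, h2⟩
      exact ⟨fun u hu => (mYT _).2 (h1 u ((mXF u).1 hu)), fun u hu => (mYD _).2 (h2 u ((mXK u).1 hu))⟩
    · rintro ⟨h1, h2⟩
      exact ⟨fun u hu => (mYT _).1 (h1 u ((mXF u).2 hu)), fun u hu => (mYD _).1 (h2 u ((mXK u).2 hu))⟩
  have hk2 : ∀ a, Kills p s a ↔ (∀ u ∈ XK, a u ∈ YD) ∧ ∀ u ∈ XF, a u ∈ YT := by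
    intro a; rw [hk1, and_comm]
  -- stability
  have cYT : ∀ b, Commute b s → ∀ u ∈ YT, b u ∈ YT := by
    rintro b hb _ ⟨w, rfl⟩
    exact ⟨b w, (comm_TT hb w).symm⟩
  have cYD : ∀ b, Commute b s → ∀ u ∈ YD, b u ∈ YD := by
    intro b hb u hu
    obtain ⟨w, rfl⟩ := (mYD u).1 hu
    exact (mYD _).2 ⟨b w, by rw [map_sub, comm_s hb]⟩
  have nT : ∀ g ∈ Subgroup.normalizer (Subgroup.zpowers σ : Set G), ∀ u, ρ g (TT p s u) = TT p s (ρ g u) :=
    fun g hg u => TT_normalizer ρ hσ hg u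
  have nXK : ∀ g ∈ Subgroup.normalizer (Subgroup.zpowers σ : Set G), ∀ u ∈ XK, ρ g u ∈ XK := by
    intro g hg u hu
    rw [mXK] at hu ⊢
    rw [← nT g hg, hu, map_zero]
  have nYT : ∀ g ∈ Subgroup.normalizer (Subgroup.zpowers σ : Set G), ∀ u ∈ YT, ρ g u ∈ YT := by
    rintro g hg _ ⟨w, rfl⟩
    exact ⟨ρ g w, (nT g hg w).symm⟩
  -- conjugates of `σ` are powers
  have hconj : ∀ g ∈ Subgroup.normalizer (Subgroup.zpowers σ : Set G), ∃ k : ℕ, σ * g = g * σ ^ k := by
    intro g hg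
    have h1 := (Subgroup.mem_normalizer_iff.1 (inv_mem hg) σ).1 (Subgroup.mem_zpowers σ)
    obtain ⟨k, hk⟩ := mem_powers_iff_mem_zpowers.2 h1
    have hk : σ ^ k = g⁻¹ * σ * g⁻¹⁻¹ := hk
    exact ⟨k, by rw [hk]; group⟩
  have hconj' : ∀ g ∈ Subgroup.normalizer (Subgroup.zpowers σ : Set G), ∃ k : ℕ, g * σ = σ ^ k * g := by
    intro g hg
    have h1 := (Subgroup.mem_normalizer_iff.1 hg σ).1 (Subgroup.mem_zpowers σ)
    obtain ⟨k, hk⟩ := mem_powers_iff_mem_zpowers.2 h1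
    have hk : σ ^ k = g * σ * g⁻¹ := hk
    exact ⟨k, by rw [hk]; group⟩
  have nXF : ∀ g ∈ Subgroup.normalizer (Subgroup.zpowers σ : Set G), ∀ u ∈ XF, ρ g u ∈ XF := by
    intro g hg u hu
    rw [mXF] at hu ⊢
    obtain ⟨k, hk⟩ := hconj g hg
    rw [hsdef, ← Module.End.mul_apply, ← map_mul, hk, map_mul, Module.End.mul_apply, map_pow,
      pow_fix hu]
  have nYD : ∀ g ∈ Subgroup.normalizer (Subgroup.zpowers σ : Set G), ∀ u ∈ YD, ρ g u ∈ YD := by
    intro g hg u hu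
    obtain ⟨w, rfl⟩ := (mYD u).1 hu
    obtain ⟨k, hk⟩ := hconj' g hg
    rw [map_sub, hsdef, ← Module.End.mul_apply, ← map_mul, hk, map_mul, Module.End.mul_apply, map_pow]
    exact (mYD _).2 (exists_pow_sub k (ρ g w))
  -- `p` maps `X` into `Y`
  have pXF : ∀ u ∈ XF, (p : ℕ) • u ∈ YT := fun u hu => (mYT _).2 ⟨u, (TT_fix ((mXF u).1 hu)).symm⟩
  have pXK : ∀ u ∈ XK, (p : ℕ) • u ∈ YD := by
    intro u hu
    have := (kills_p (p := p) (s := s)).2 u ((mXK u).1 hu)
    rw [Module.End.natCast_apply] at this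
    exact (mYD _).2 this
  -- `P` acts trivially
  have tXF : ∀ (i : ℕ), ∀ u ∈ XF, ρ (σ ^ i) u - u ∈ YT := by
    intro i u hu
    rw [map_pow, pow_fix ((mXF u).1 hu), sub_self]
    exact YT.zero_mem
  have tXK : ∀ (i : ℕ), ∀ u ∈ XK, ρ (σ ^ i) u - u ∈ YD := by
    intro i u hu
    rw [map_pow]
    exact (mYD _).2 (exists_pow_sub i u)
  -- general eigenvector statement
  have heigen : ∀ X Y : Submodule R V, Y ≤ X →
      (∀ g ∈ Subgroup.normalizer (Subgroup.zpowers σ : Set G), ∀ u ∈ X, ρ g u ∈ X) →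
      (∀ g ∈ Subgroup.normalizer (Subgroup.zpowers σ : Set G), ∀ u ∈ Y, ρ g u ∈ Y) →
      (∀ u ∈ X, (p : ℕ) • u ∈ Y) → (∀ (i : ℕ), ∀ u ∈ X, ρ (σ ^ i) u - u ∈ Y) →
      ∀ v0 ∈ X, v0 ∉ Y → (∀ u ∈ W, ρ u v0 - v0 ∈ Y) →
      ∃ v ∈ X, v ∉ Y ∧ (∀ u ∈ W, ρ u v - v ∈ Y) ∧
        ∀ g ∈ Subgroup.normalizer (Subgroup.zpowers σ : Set G), ∃ μ : R, ρ g v - μ • v ∈ Y := by
    intro X Y hYX hX hY hpX htr v0 hv0 hv0Y hv0W
    let X1 : Submodule R V :=
      { carrier := {u | u ∈ X ∧ ∀ w ∈ W, ρ w u - u ∈ Y}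
        add_mem' := by
          rintro a b ⟨ha1, ha2⟩ ⟨hb1, hb2⟩
          refine ⟨X.add_mem ha1 hb1, fun w hw => ?_⟩
          have := Y.add_mem (ha2 w hw) (hb2 w hw)
          convert this using 1
          rw [map_add]; abel
        zero_mem' := ⟨X.zero_mem, fun w _ => by rw [map_zero, sub_zero]; exact Y.zero_mem⟩
        smul_mem' := by
          rintro c a ⟨ha1, ha2⟩
          refine ⟨X.smul_mem c ha1, fun w hw => ?_⟩
          have := Y.smul_mem c (ha2 w hw)
          convert this using 1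
          rw [map_smul, smul_sub] }
    have hWn : W ≤ Subgroup.normalizer (Subgroup.zpowers σ : Set G) := by
      intro u hu
      rw [← smul_eq_iff_normalizer hp hσ]
      have h1 : σ • (QuotientGroup.mk u : G ⧸ Subgroup.zpowers σ) = QuotientGroup.mk (σ * u) := rfl
      rw [h1, ← hWc u hu]
      exact (QuotientGroup.eq.2 (by
        rw [mul_inv_rev, mul_assoc, inv_mul_cancel, mul_one]
        exact inv_mem (Subgroup.mem_zpowers σ)))
    -- `ρ c` acts trivially on `X1` modulo `Y`, for `c` centralizing `σ`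
    have hc : ∀ c : G, c * σ = σ * c → ∀ u ∈ X1, ρ c u - u ∈ Y := by
      rintro c hc u ⟨hu1, hu2⟩
      obtain ⟨i, w, hw, rfl⟩ := hC c hc
      have h1 := hY (σ ^ i) (pow_mem (Subgroup.le_normalizer (Subgroup.mem_zpowers σ)) i) _ (hu2 w hw)
      have h2 := Y.add_mem h1 (htr i u hu1)
      convert h2 using 1
      rw [map_sub, map_mul, Module.End.mul_apply]
      abel
    have hX1y : ∀ u ∈ X1, ρ y u ∈ X1 := by
      rintro u ⟨hu1, hu2⟩
      refine ⟨hX y hyN u hu1, fun w hw => ?_⟩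
      have h1 : y⁻¹ * w * y ∈ W := by
        have := hWN y⁻¹ (inv_mem hyN) w hw
        rwa [inv_inv] at this
      have h2 := hY y hyN _ (hu2 _ h1)
      convert h2 using 1
      rw [map_sub, ← Module.End.mul_apply, ← Module.End.mul_apply, ← map_mul, ← map_mul]
      congr 3
      group
    obtain ⟨v, ⟨hv1, hv2⟩, hvY, a, ha⟩ := exists_eigen hp (ρ y) X1 Y hX1y (fun u hu => hpX u hu.1) (by
      intro u hu
      have h1 := hc _ hyp u hu
      have h2 := hY y hyN _ h1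
      convert h2 using 1
      rw [map_sub, ← Module.End.mul_apply, ← map_mul, ← map_pow, ← pow_succ',
        show p - 1 + 1 = p by omega]) ⟨hv0, hv0W⟩ hv0Y
    refine ⟨v, hv1, hvY, hv2, ?_⟩
    have hpow : ∀ k : ℕ, ρ (y ^ k) v - ((a : R) ^ k) • v ∈ Y := by
      intro k
      induction k with
      | zero => simp
      | succ k ih =>
        have h1 := hY y hyN _ ih
        have h2 := Y.smul_mem ((a : R) ^ k) ha
        have h3 := Y.add_mem h1 h2
        convert h3 using 1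
        rw [map_sub, map_smul, smul_sub, smul_smul, ← pow_succ, pow_succ' y, map_mul,
          Module.End.mul_apply]
        abel
    intro g hg
    obtain ⟨k, c, hcs, rfl⟩ := hy g hg
    refine ⟨(a : R) ^ k, ?_⟩
    have h1 := hc c hcs v ⟨hv1, hv2⟩
    have h2 := hY (y ^ k) (pow_mem hyN k) _ h1
    have h3 := Y.add_mem h2 (hpow k)
    convert h3 using 1
    rw [map_sub, map_mul, Module.End.mul_apply]
    abel
  have YTX : YT ≤ XF := by
    intro u hu
    obtain ⟨w, rfl⟩ := (mYT u).1 hu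
    exact (mXF _).2 (s_TT hs w)
  have YDX : YD ≤ XK := by
    intro u hu
    obtain ⟨w, rfl⟩ := (mYD u).1 hu
    exact (mXK _).2 (TT_sub hs w)
  -- averaging over `W`
  have hwu : IsUnit ((Nat.card W : ℕ) : R) := hR.natCast_unit hWp
  obtain ⟨wu, hwu'⟩ := hwu
  set eW : Module.End R V := (↑wu⁻¹ : R) • ∑ u : W, ρ (u : G) with heW
  have eW_apply : ∀ v, eW v = (↑wu⁻¹ : R) • ∑ u : W, ρ (u : G) v := by
    intro v; rw [heW, LinearMap.smul_apply, LinearMap.sum_apply]
  have eW_s : Commute eW s := by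
    rw [heW]
    refine Commute.smul_left ?_ _
    refine Commute.sum_left _ _ _ (fun (u : W) _ => ?_)
    rw [hsdef, commute_iff_eq, ← map_mul, ← map_mul, hWc u.1 u.2]
  have eW_fix : ∀ v, (∀ u ∈ W, ρ u v = v) → eW v = v := by
    intro v hv
    rw [eW_apply, Finset.sum_congr rfl (fun (u : W) _ => hv u.1 u.2), Finset.sum_const, Finset.card_univ,
      ← Nat.card_eq_fintype_card, ← Nat.cast_smul_eq_nsmul R, ← hwu', smul_smul, Units.inv_mul,
      one_smul]
  have eW_inv : ∀ v, ∀ u ∈ W, ρ u (eW v) = eW v := by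
    intro v u hu
    rw [eW_apply, map_smul, map_sum]
    congr 1
    refine Fintype.sum_equiv (Equiv.mulLeft (⟨u, hu⟩ : W)) _ _ (fun w => ?_)
    rw [Equiv.coe_mulLeft, Subgroup.coe_mul, map_mul, Module.End.mul_apply]
  have eW_mod : ∀ (Y : Submodule R V) (v : V), (∀ u ∈ W, ρ u v - v ∈ Y) → eW v - v ∈ Y := by
    intro Y v hv
    have h1 : eW v - v = (↑wu⁻¹ : R) • ∑ u : W, (ρ (u : G) v - v) := by
      rw [eW_apply, Finset.sum_sub_distrib, smul_sub, Finset.sum_const, Finset.card_univ,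
        ← Nat.card_eq_fintype_card, ← Nat.cast_smul_eq_nsmul R, ← hwu', smul_smul, Units.inv_mul,
        one_smul]
    rw [h1]
    exact Y.smul_mem _ (Y.sum_mem (fun u _ => hv u u.2))
  set M : Submodule R V := LinearMap.range eW with hM
  have mM : ∀ v, v ∈ M → eW v = v := by
    rintro _ ⟨v, rfl⟩
    exact eW_fix _ (eW_inv v)
  have mM' : ∀ v, v ∈ M → ∀ u ∈ W, ρ u v = v := by
    rintro _ ⟨v, rfl⟩ u hu
    exact eW_inv v u hu
  let sM : Module.End R M := s.restrict (fun v hv => by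
    obtain ⟨w, rfl⟩ := hv
    exact ⟨s w, comm_s eW_s w⟩)
  have sM_pow : ∀ (i : ℕ) (v : M), (((sM ^ i) v : M) : V) = (s ^ i) v := by
    intro i v
    induction i with
    | zero => rfl
    | succ i ih =>
      rw [pow_succ', Module.End.mul_apply, pow_succ', Module.End.mul_apply, ← ih]; rfl
  have sM_TT : ∀ v : M, ((TT p sM v : M) : V) = TT p s v := by
    intro v
    rw [TT_apply, TT_apply, Submodule.coe_sum]
    exact Finset.sum_congr rfl (fun i _ => sM_pow i v)
  have hsM : sM ^ p = 1 := by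
    ext v
    rw [sM_pow, hs]; rfl
  have sM_apply : ∀ v : M, ((sM v : M) : V) = s v := fun v => rfl
  -- the trace
  have htrace : ∑ i ∈ Finset.Ico 1 p, ∑ u : W, LinearMap.trace R _ (ρ (σ ^ i * u)) =
      (Nat.card W : R) * ∑ i ∈ Finset.Ico 1 p, LinearMap.trace R M (sM ^ i) := by
    rw [Finset.mul_sum]
    refine Finset.sum_congr rfl (fun i _ => ?_)
    have h1 : LinearMap.trace R M (sM ^ i) = LinearMap.trace R V (s ^ i * eW) := by
      have hmem : ∀ v, (s ^ i * eW) v ∈ M := by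
        intro v
        rw [Module.End.mul_apply]
        exact ⟨(s ^ i) v, by
          rw [← Module.End.mul_apply, (eW_s.pow_right i).eq, Module.End.mul_apply]⟩
      rw [← LinearMap.trace_restrict_eq_of_forall_mem M (s ^ i * eW) hmem]
      congr 1
      ext v
      rw [sM_pow, LinearMap.coe_restrict_apply, Module.End.mul_apply, mM v v.2]
    rw [h1, heW, mul_smul_comm, map_smul, smul_eq_mul, ← mul_assoc, ← hwu', Units.mul_inv, one_mul,
      Finset.mul_sum, map_sum]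
    refine Finset.sum_congr rfl (fun u _ => ?_)
    rw [map_mul, map_pow]
  by_cases hcase1 : ∃ v0 ∈ XF, v0 ∉ YT ∧ ∀ u ∈ W, ρ u v0 - v0 ∈ YT
  · -- case 1
    right; left
    obtain ⟨v0, hv0, hv0Y, hv0W⟩ := hcase1
    obtain ⟨v, hv, hvY, hvW, hveig⟩ := heigen XF YT YTX nXF nYT pXF tXF v0 hv0 hv0Y hv0W
    obtain ⟨f, hf1, hf2, hf3, hf4⟩ := exists_dual_fix hR.ne_zero hR.loc hs ((mXF v).1 hv)
      (fun w hw => hvY ((mYT v).2 ⟨w, hw⟩))
    obtain ⟨hc1, hc2⟩ := core hR ρ hind hσ hp2 XF YT XK YD hk1 cYT cYD nXF nYT nXK hv hvY hveig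
      (alpha1 f v) (alpha1_commute hf1 ((mXF v).1 hv)) f
      (fun u _ => by rw [alpha1_apply, sub_self]; exact YT.zero_mem)
      (fun u hu => by rw [alpha1_apply, hf3 u ((mXK u).1 hu), zero_smul]) hf2
      (fun u hu => by obtain ⟨w, rfl⟩ := (mYT u).1 hu; exact hf4 w)
    rw [htrace]
    congr 1
    have hvM : eW v ∈ M := ⟨v, rfl⟩
    have hv' := eW_mod YT v hvW
    refine trace_one_case hR hsM (v := ⟨eW v, hvM⟩) ?_ ?_ ?_ ?_
    · apply Subtype.ext
      rw [sM_apply]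
      change s (eW v) = eW v
      rw [← comm_s eW_s, (mXF v).1 hv]
    · intro w hw
      apply hvY
      have h1 : eW v = TT p s w := by rw [← sM_TT, ← hw]
      have h2 := YT.sub_mem ((mYT _).2 ⟨(w : V), h1⟩) hv'
      rwa [sub_sub_cancel] at h2
    · intro u hu
      have hu' : (u : V) ∈ XF := (mXF _).2 (by rw [← sM_apply, hu])
      obtain ⟨r, hr⟩ := hc1 u hu'
      obtain ⟨w, hw⟩ := (mYT _).1 hr
      refine ⟨r, ⟨eW w, ⟨w, rfl⟩⟩, ?_⟩
      apply Subtype.ext
      rw [sM_TT]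
      change (u : V) - r • eW v = TT p s (eW w)
      rw [← comm_TT eW_s, ← hw, map_sub, map_smul, mM u u.2]
    · intro u hu
      have hu' : (u : V) ∈ XK := (mXK _).2 (by rw [← sM_TT, hu]; rfl)
      obtain ⟨w, hw⟩ := (mYD _).1 (hc2 u hu')
      refine ⟨⟨eW w, ⟨w, rfl⟩⟩, ?_⟩
      apply Subtype.ext
      change (u : V) = s (eW w) - eW w
      rw [← comm_s eW_s, ← map_sub, ← hw, mM u u.2]
  by_cases hcase2 : ∃ v0 ∈ XK, v0 ∉ YD ∧ ∀ u ∈ W, ρ u v0 - v0 ∈ YD
  · -- case 2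
    right; right
    obtain ⟨v0, hv0, hv0Y, hv0W⟩ := hcase2
    obtain ⟨v, hv, hvY, hvW, hveig⟩ := heigen XK YD YDX nXK nYD pXK tXK v0 hv0 hv0Y hv0W
    obtain ⟨g, hg1, hg2⟩ := exists_dual_ker hR.ne_zero hR.loc hs ((mXK v).1 hv)
      (fun w hw => hvY ((mYD v).2 ⟨w, hw⟩))
    obtain ⟨hc1, hc2⟩ := core hR ρ hind hσ hp2 XK YD XF YT hk2 cYD cYT nXK nYD nXF hv hvY hveig
      (alpha2 p s g v) (alpha2_commute hs hg1 ((mXK v).1 hv)) (g ∘ₗ DD p s)
      (fun u _ => by
        obtain ⟨w, hw⟩ := alpha2_sub (p := p) (s := s) (g := g) (v := v) u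
        exact (mYD _).2 ⟨w, hw⟩)
      (fun u hu => alpha2_fix hg1 ((mXF u).1 hu)) hg2
      (fun u hu => by
        obtain ⟨w, rfl⟩ := (mYD u).1 hu
        rw [LinearMap.comp_apply]
        have hcDD : Commute (DD p s) s := by
          rw [DD]
          exact Commute.sum_left _ _ _ (fun j _ => ((Commute.refl s).pow_left _).smul_left _)
        rw [map_sub, comm_s hcDD, sub_DD hs, map_sub, hg1 _ (s_TT hs w), zero_sub, map_smul,
          smul_eq_mul, dvd_neg]
        exact dvd_mul_right _ _)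
    rw [htrace, ← mul_neg]
    congr 1
    have hvM : eW v ∈ M := ⟨v, rfl⟩
    have hv' := eW_mod YD v hvW
    refine trace_neg_case hR hsM (v := ⟨eW v, hvM⟩) ?_ ?_ ?_ ?_
    · apply Subtype.ext
      rw [sM_TT]
      change TT p s (eW v) = 0
      rw [← comm_TT eW_s, (mXK v).1 hv, map_zero]
    · intro w hw
      apply hvY
      have h1 : eW v = s w - w := congrArg Subtype.val hw
      have h2 := YD.sub_mem ((mYD _).2 ⟨(w : V), h1⟩) hv'
      rwa [sub_sub_cancel] at h2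
    · intro u hu
      have hu' : (u : V) ∈ XF := (mXF _).2 (by rw [← sM_apply, hu])
      obtain ⟨w, hw⟩ := (mYT _).1 (hc2 u hu')
      refine ⟨⟨eW w, ⟨w, rfl⟩⟩, ?_⟩
      apply Subtype.ext
      rw [sM_TT]
      change (u : V) = TT p s (eW w)
      rw [← comm_TT eW_s, ← hw, mM u u.2]
    · intro u hu
      have hu' : (u : V) ∈ XK := (mXK _).2 (by rw [← sM_TT, hu]; rfl)
      obtain ⟨r, hr⟩ := hc1 u hu'
      obtain ⟨w, hw⟩ := (mYD _).1 hr
      refine ⟨r, ⟨eW w, ⟨w, rfl⟩⟩, ?_⟩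
      apply Subtype.ext
      change (u : V) - r • eW v = s (eW w) - eW w
      rw [← comm_s eW_s, ← map_sub, ← hw, map_sub, map_smul, mM u u.2]
  · -- case 3
    left
    rw [htrace]
    have : ∑ i ∈ Finset.Ico 1 p, LinearMap.trace R M (sM ^ i) = 0 := by
      apply trace_zero hR hsM
      · intro u hu
        have hu' : (u : V) ∈ XF := (mXF _).2 (by rw [← sM_apply, hu])
        have h1 : (u : V) ∈ YT := by
          by_contra h
          exact hcase1 ⟨u, hu', h, fun w hw => by rw [mM' u u.2 w hw, sub_self]; exact YT.zero_mem⟩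
        obtain ⟨w, hw⟩ := (mYT _).1 h1
        refine ⟨⟨eW w, ⟨w, rfl⟩⟩, ?_⟩
        apply Subtype.ext
        rw [sM_TT]
        change (u : V) = TT p s (eW w)
        rw [← comm_TT eW_s, ← hw, mM u u.2]
      · intro u hu
        have hu' : (u : V) ∈ XK := (mXK _).2 (by rw [← sM_TT, hu]; rfl)
        have h1 : (u : V) ∈ YD := by
          by_contra h
          exact hcase2 ⟨u, hu', h, fun w hw => by rw [mM' u u.2 w hw, sub_self]; exact YD.zero_mem⟩
        obtain ⟨w, hw⟩ := (mYD _).1 h1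
        refine ⟨⟨eW w, ⟨w, rfl⟩⟩, ?_⟩
        apply Subtype.ext
        change (u : V) = s (eW w) - eW w
        rw [← comm_s eW_s, ← map_sub, ← hw, mM u u.2]
    rw [this, mul_zero]

end main

end H67.Lat
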