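import Mathlib
import Cfsg.Agent.Lib.H67.BlkOne5
import Cfsg.Agent.Lib.H78.Cong
import Cfsg.Agent.Lib.H19.BrMap
import Cfsg.Agent.Lib.H20.Height

set_option autoImplicit false
set_option linter.unusedSectionVars false

/-! The principal block of a group with a Sylow subgroup of order `p`. -/

namespace H67.Least

open Finset Cfsg H18.CharBasic H18.CharOrtho H18.CharInd H67.Lat H67.DefOne H67.BlkOne H20.Loc
open scoped ComplexConjugate

universe u

variable {p : ℕ} [hp : Fact p.Prime] {G : Type u} [Group G] {D : Dat p G} [Fintype G] [Fintype D.W]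
variable {M : Ideal AlgInt}

theorem T₀_one : T₀ D (fun _ => 1) = ⊤ := by
  rw [eq_top_iff]
  intro n _
  rw [mem_T₀]
  rfl

theorem irr_one : IsIrrCharacter D.W (fun _ => (1 : ℂ)) := isIrrCharacter_one

theorem card_N₀ : Nat.card D.N₀ = Nat.card (HH D (fun _ => 1)) * Nat.card D.W := by
  rw [← card_T₀ D (isClassFunction_of_isIrr irr_one), T₀_one, Subgroup.card_top]

theorem FF_one_one (x : G) : FF D.W (fun _ => 1) (fun _ => 1) x = 1 := by
  have hW0 : (Nat.card D.W : ℂ) ≠ 0 := by exact_mod_cast Nat.card_pos.ne'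
  simp only [FF, map_one, mul_one]
  rw [Finset.sum_const, Finset.card_univ, nsmul_eq_mul, mul_one, ← Nat.card_eq_fintype_card,
    inv_mul_cancel₀ hW0]

theorem principal (hM : IsPModular p M) : IsInducedBlock M (CC D) (blockOf M (fun _ : CC D => (1 : ℂ)))
    (blockOf M (fun _ : G => (1 : ℂ))) := by
  have hpg : IsPGroup p (Subgroup.zpowers D.σ) := by
    apply IsPGroup.of_card_dvd_pow (n := 1)
    rw [Nat.card_zpowers, pow_one]
    exact D.hσ.dvd
  have hb : IsPBlock M (blockOf M (fun _ : CC D => (1 : ℂ))) := ⟨⟨_, isIrrCharacter_one⟩, rfl⟩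
  have h1 : Subgroup.zpowers D.σ ≤ CC D := by
    rw [Subgroup.zpowers_le]
    exact (mem_CC D).2 rfl
  have h2 := H19.BrMap.exists_induced hM hpg h1 le_rfl (CC_le D) hb
  exact (H20.Height.third_main hM h2).2 rfl

theorem kerP_one : KerP D (fun _ : CC D => (1 : ℂ)) := fun _ _ => rfl

theorem congr_principal (hM : IsPModular p M) (P : Sylow p G)
    (hP : (P : Subgroup G) = Subgroup.zpowers D.σ) {χ : IrrCharacter G} {i : ZMod p} (hi : i ≠ 0)
    (hne : FF D.W χ (fun _ => 1) (D.σ ^ i.val) ≠ 0) :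
    MemLocalIdeal M ((χ : G → ℂ) 1 - FF D.W χ (fun _ => 1) (D.σ ^ i.val)) := by
  have := H20.Loc.pm_isPrime hM
  have hχ : χ ∈ blockOf M (fun _ : G => (1 : ℂ)) := by
    by_contra hχ
    exact hne (FF_eq_zero hM (θ := ⟨fun _ : CC D => (1 : ℂ), isIrrCharacter_one⟩) kerP_one
      (principal hM) χ hχ hi)
  have h1 := congr_two hM P hP (θ := ⟨fun _ : CC D => (1 : ℂ), isIrrCharacter_one⟩) kerP_one
    (H20.Blk.mem_blockOf_self _) (principal hM) hχ hi
  have h2 : (T₀ D (resW D ((⟨fun _ : CC D => (1 : ℂ), isIrrCharacter_one⟩ : IrrCharacter (CC D)) :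
    CC D → ℂ))).index = 1 := by
    rw [Subgroup.index_eq_one]
    exact T₀_one
  rw [h2, Nat.cast_one, one_mul] at h1
  have h3 : resW D ((⟨fun _ : CC D => (1 : ℂ), isIrrCharacter_one⟩ : IrrCharacter (CC D)) :
    CC D → ℂ) = fun _ => 1 := rfl
  rw [h3, one_mul] at h1
  exact h1

/-- the trivial character -/
abbrev oneG (G : Type u) [Group G] : IrrCharacter G := ⟨fun _ => 1, isIrrCharacter_one⟩

/-- structure of the principal block -/
theorem struct (P : Sylow p G) (hP : (P : Subgroup G) = Subgroup.zpowers D.σ)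
    (hp2 : ¬ p ^ 2 ∣ Nat.card G) [Fintype (IrrCharacter G)]
    (he : 2 ≤ Nat.card (HH D (fun _ => 1))) (he' : Nat.card (HH D (fun _ => 1)) + 1 < p) :
    ∃ (s : ℤ) (c : IrrCharacter G → ℤ) (y : IrrCharacter G),
      (s = 1 ∨ s = -1) ∧ (∀ χ, c χ = 0 ∨ c χ = 1 ∨ c χ = -1) ∧ c y = 0 ∧
      c (oneG G) = 1 ∧ (∀ χ, c χ ≠ 0 → (charDegree (χ : G → ℂ) : ℤ) ≡ c χ [ZMOD p]) ∧
      (univ.filter (fun χ : IrrCharacter G => c χ ≠ 0)).card = Nat.card (HH D (fun _ => 1)) ∧
      s * charDegree (y : G → ℂ) + ∑ χ : IrrCharacter G, c χ * charDegree (χ : G → ℂ) = 0 := by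
  classical
  obtain ⟨M, hM⟩ := H78.Cong.exists_isPModular hp.out
  have := H20.Loc.pm_isPrime hM
  obtain ⟨s, y, c, hs, hy, hc, hcy, hyF, hcF, hcard, hreg⟩ := defect_one D hp2 (irr_one (D := D))
  set e := Nat.card (HH D (fun _ => 1)) with hedef
  have hi : (1 : ZMod p) ≠ 0 := one_ne_zero
  have hone : ∀ q, oneG G ≠ y q := by
    intro q hq
    have h1 := hyF q 1 hi
    rw [← hq, FF_one_one] at h1
    have h2 := sum_ee_coset hM (HH D (fun _ => 1)) q 1
    have h3 := locI_mul_left (locR_neg (locR_intCast (M := M) s)) h2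
    rw [mul_sub, ← h1, ← hedef] at h3
    have h4 : (1 : ℂ) - -(s : ℂ) * (e : ℂ) = ((1 + s * e : ℤ) : ℂ) := by push_cast; ring
    rw [h4, locI_intCast_iff hM] at h3
    rcases hs with rfl | rfl
    · have h5 := Int.le_of_dvd (by positivity) h3
      omega
    · have h5 : (p : ℤ) ∣ (e : ℤ) - 1 := by
        have := (dvd_neg (a := (p : ℤ))).2 h3
        have h6 : -(1 + -1 * (e : ℤ)) = (e : ℤ) - 1 := by ring
        rwa [h6] at this
      have h6 := Int.le_of_dvd (by omega) h5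
      omega
  refine ⟨s, c, y 1, hs, hc, hcy 1, ?_, ?_, hcard, ?_⟩
  · have h1 := hcF (oneG G) hone 1 hi
    rw [FF_one_one] at h1
    exact_mod_cast h1.symm
  · intro χ hχ
    have h1 : ∀ q, χ ≠ y q := by
      rintro q rfl
      exact hχ (hcy q)
    have h2 := hcF χ h1 1 hi
    have h3 := congr_principal hM P hP (χ := χ) hi (by rw [h2]; exact_mod_cast hχ)
    rw [h2, ← H82.Deg.coe_charDegree' χ] at h3
    have h4 : ((charDegree (χ : G → ℂ) : ℂ) - (c χ : ℂ)) =
        (((charDegree (χ : G → ℂ) : ℤ) - c χ : ℤ) : ℂ) := by push_cast; ring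
    rw [h4, locI_intCast_iff hM] at h3
    exact (Int.modEq_iff_dvd.2 h3).symm
  · have h1 := hreg 1 (by
      rw [orderOf_one]
      exact fun h => hp.out.one_lt.ne' (Nat.dvd_one.1 h)) 1
    have h2 : ((s * charDegree ((y 1 : IrrCharacter G) : G → ℂ) +
        ∑ χ : IrrCharacter G, c χ * charDegree (χ : G → ℂ) : ℤ) : ℂ) = ((0 : ℤ) : ℂ) := by
      rw [Int.cast_zero, ← h1]
      push_cast
      rw [H82.Deg.coe_charDegree']
      have h3 : ∀ χ : IrrCharacter G, conj ((χ : G → ℂ) 1) = (χ : G → ℂ) 1 := fun χ =>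
        conj_char_one (isCharacter_of_isIrr χ.2)
      rw [h3]
      congr 1
      refine Finset.sum_congr rfl (fun χ _ => ?_)
      rw [h3, H82.Deg.coe_charDegree']
    exact_mod_cast h2

end H67.Least
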