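import Mathlib
import Cfsg.Prelude.Def_LocalStructure
import Cfsg.Agent.Lib.H67.Least1

set_option autoImplicit false
set_option linter.unusedSectionVars false

/-! The order of a simple group whose Sylow `p`-subgroups are not normal. -/

namespace H67.Least

open Finset Cfsg H18.CharBasic H18.CharOrtho H18.CharInd H67.Lat H67.DefOne H67.BlkOne H20.Loc
open scoped ComplexConjugate

universe u

/-- arithmetic -/
theorem arith {p w0 n d : ℕ} {c : ℤ} (hp : p.Prime) (hn : n ≡ 1 [MOD p])
    (hb : 2 * w0 * n < (p - 1) * (p + 1)) (hw : 2 * w0 < p - 1)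
    (hw0 : 0 < w0) (hdv : d ∣ p * (w0 * n)) (hdc : (d : ℤ) ≡ c [ZMOD p]) (hc : c = 1 ∨ c = -1) (hd1 : d ≠ 1) :
    c = 1 ∧ d = n := by
  have hp1 := hp.two_le
  have hpd : ¬ p ∣ d := by
    intro h
    have h1 : (p : ℤ) ∣ d := Int.natCast_dvd_natCast.2 h
    have h2 : (p : ℤ) ∣ c := by
      have := (Int.modEq_zero_iff_dvd.2 h1).symm.trans hdc
      exact Int.modEq_zero_iff_dvd.1 this.symm
    rcases hc with rfl | rfl
    · have := Int.le_of_dvd (by norm_num) h2
      omega
    · have := Int.le_of_dvd (by norm_num) ((dvd_neg.2 h2))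
      omega
  obtain ⟨v, hv⟩ : d ∣ w0 * n := by
    apply Nat.Coprime.dvd_of_dvd_mul_left _ hdv
    exact ((hp.coprime_iff_not_dvd).2 hpd).symm
  have hd0 : 0 < d := by
    rcases Nat.eq_zero_or_pos d with h | h
    · exact absurd (h ▸ dvd_zero p) hpd
    · exact h
  have hdge : p - 1 ≤ d := by
    rcases hc with rfl | rfl
    · have h1 : (p : ℤ) ∣ (d : ℤ) - 1 := Int.modEq_iff_dvd.1 hdc.symm
      have h2 := Int.le_of_dvd (by omega) h1
      omega
    · have h1 : (p : ℤ) ∣ (d : ℤ) - (-1) := Int.modEq_iff_dvd.1 hdc.symm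
      have h2 := Int.le_of_dvd (by omega) h1
      omega
  have hn0 : 0 < n := by
    rcases Nat.eq_zero_or_pos n with h | h
    · rw [h] at hn
      have h3 := (Nat.modEq_iff_dvd.1 hn)
      have h4 := Int.le_of_dvd (by norm_num) h3
      omega
    · exact h
  have hv0 : 0 < v := by
    rcases Nat.eq_zero_or_pos v with h | h
    · rw [h, mul_zero] at hv
      have := Nat.mul_pos hw0 hn0
      omega
    · exact h
  have hvb : 2 * v < p + 1 := by
    have h1 : (p - 1) * (2 * v) < (p - 1) * (p + 1) := by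
      calc (p - 1) * (2 * v) ≤ d * (2 * v) := Nat.mul_le_mul_right _ hdge
        _ = 2 * (d * v) := by ring
        _ = 2 * w0 * n := by rw [← hv]; ring
        _ < _ := hb
    exact Nat.lt_of_mul_lt_mul_left h1
  have hmod : (c : ℤ) * v ≡ w0 [ZMOD p] := by
    have h1 : ((d * v : ℕ) : ℤ) ≡ c * v [ZMOD p] := by
      rw [Nat.cast_mul]
      exact hdc.mul_right _
    have h2 : ((w0 * n : ℕ) : ℤ) ≡ w0 [ZMOD p] := by
      rw [Nat.cast_mul]
      have h3 := (Int.natCast_modEq_iff.2 hn)
      have h4 := (Int.ModEq.refl (n := (p : ℤ)) (w0 : ℤ)).mul h3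
      rwa [Nat.cast_one, mul_one] at h4
    rw [← hv] at h1
    exact h1.symm.trans h2
  rcases hc with rfl | rfl
  · refine ⟨rfl, ?_⟩
    rw [one_mul] at hmod
    have h1 : v = w0 := by
      have h2 := Int.natCast_modEq_iff.1 hmod
      have h3 : v % p = w0 % p := h2
      rw [Nat.mod_eq_of_lt (by omega), Nat.mod_eq_of_lt (by omega)] at h3
      exact h3
    rw [h1, mul_comm] at hv
    exact (Nat.eq_of_mul_eq_mul_right hw0 hv).symm
  · exfalso
    have h1 : (p : ℤ) ∣ (w0 : ℤ) - (-1 * v) := Int.modEq_iff_dvd.1 hmod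
    have h2 := Int.le_of_dvd (by omega) h1
    omega

theorem arith2 {p w0 n e y : ℕ} {s : ℤ} (hp : p.Prime) (hn : n ≡ 1 [MOD p]) (hnp : p < n)
    (hw : 2 * w0 < p - 1) (hw0 : 0 < w0) (he : 2 ≤ e) (hep : e < p) (hs : s = 1 ∨ s = -1)
    (hy : y ∣ p * (w0 * n)) (hrel : s * y + (1 + ((e : ℤ) - 1) * n) = 0) : False := by
  have hy1 : y = 1 + (e - 1) * n := by
    have h1 : (0 : ℤ) < 1 + ((e : ℤ) - 1) * n := by
      have : (0 : ℤ) ≤ ((e : ℤ) - 1) * n := mul_nonneg (by omega) (by omega)
      omega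
    rcases hs with rfl | rfl
    · exfalso
      have : (0 : ℤ) ≤ y := Int.natCast_nonneg y
      linarith
    · have h2 : (y : ℤ) = 1 + ((e : ℤ) - 1) * n := by linarith
      have h3 : ((1 + (e - 1) * n : ℕ) : ℤ) = 1 + ((e : ℤ) - 1) * n := by
        push_cast [Nat.cast_sub (show 1 ≤ e by omega)]
        ring
      rw [← h3] at h2
      exact_mod_cast h2
  have hyn : Nat.Coprime y n := by
    rw [hy1, Nat.coprime_add_mul_right_left]
    exact Nat.coprime_one_left n
  have hyp : ¬ p ∣ y := by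
    intro h
    have h1 : y ≡ e [MOD p] := by
      rw [hy1]
      have h2 := (Nat.ModEq.refl (n := p) 1).add ((Nat.ModEq.refl (n := p) (e - 1)).mul hn)
      have h3 : 1 + (e - 1) * 1 = e := by omega
      rwa [h3] at h2
    have h2 := (Nat.modEq_zero_iff_dvd.2 h).symm.trans h1
    have h3 := Nat.modEq_zero_iff_dvd.1 h2.symm
    have h4 := Nat.le_of_dvd (by omega) h3
    omega
  have h1 : y ∣ w0 * n := by
    apply Nat.Coprime.dvd_of_dvd_mul_left _ hy
    exact ((hp.coprime_iff_not_dvd).2 hyp).symm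
  have h2 : y ∣ w0 := hyn.dvd_of_dvd_mul_right h1
  have h3 := Nat.le_of_dvd hw0 h2
  have h4 : n ≤ y := by
    rw [hy1]
    have : 1 * n ≤ (e - 1) * n := Nat.mul_le_mul_right _ (by omega)
    omega
  omega

theorem degree_ne_one {G : Type u} [Group G] [Finite G] [IsSimpleGroup G] (hab : ∃ a b : G, a * b ≠ b * a)
    {χ : IrrCharacter G} (hχ : χ ≠ oneG G) : charDegree (χ : G → ℂ) ≠ 1 := by
  intro h
  have h1 : (χ : G → ℂ) 1 = 1 := by
    rw [← H82.Deg.coe_charDegree' χ, h, Nat.cast_one]
  obtain ⟨f, hf⟩ := H18.CharQuot.exists_hom_of_degree_one (isCharacter_of_isIrr χ.2) h1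
  rcases (inferInstance : f.ker.Normal).eq_bot_or_eq_top with h2 | h2
  · obtain ⟨a, b, hab⟩ := hab
    apply hab
    have h3 : Function.Injective f := (MonoidHom.ker_eq_bot_iff f).1 h2
    apply h3
    rw [map_mul, map_mul, mul_comm]
  · apply hχ
    apply Subtype.ext
    rw [hf]
    funext g
    have h3 : g ∈ f.ker := by rw [h2]; trivial
    rw [MonoidHom.mem_ker] at h3
    rw [h3, Units.val_one]

theorem simple_case {p : ℕ} [hp : Fact p.Prime] {G : Type u} [Group G] [Finite G] [IsSimpleGroup G]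
    (hcl : ¬ Cfsg.IsPClosed p G) : p * (p ^ 2 - 1) / 2 ≤ Nat.card G := by
  classical
  by_contra hlt
  push Not at hlt
  rw [Cfsg.IsPClosed] at hcl
  push Not at hcl
  obtain ⟨P, hPn⟩ := hcl
  have hp2' := hp.out.two_le
  -- the number of Sylow subgroups
  set N := Subgroup.normalizer (P : Set G) with hN
  have hn1 : N.index ≡ 1 [MOD p] := by
    have h2 := card_sylow_modEq_one p G
    rwa [P.card_eq_index_normalizer] at h2
  have hn2 : N.index ≠ 1 := by
    intro h
    rw [Subgroup.index_eq_one] at h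
    apply hPn
    exact Subgroup.normalizer_eq_top_iff.1 h
  have hn0 : N.index ≠ 0 := Subgroup.index_ne_zero_of_finite
  have hnp : p < N.index := by
    have h1 := (Nat.modEq_iff_dvd' (by omega)).1 hn1.symm
    have h2 := Nat.le_of_dvd (by omega) h1
    omega
  have hGN : Nat.card N * N.index = Nat.card G := N.card_mul_index
  have h2G : 2 * Nat.card G < p * (p ^ 2 - 1) := by
    have h1 := Nat.div_mul_le_self (p * (p ^ 2 - 1)) 2
    have h2 : 2 * Nat.card G < p * (p ^ 2 - 1) / 2 * 2 := by omega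
    omega
  have hsq : p ^ 2 - 1 = (p - 1) * (p + 1) := by
    obtain ⟨k, rfl⟩ : ∃ k, p = k + 1 := ⟨p - 1, by omega⟩
    rw [Nat.add_sub_cancel]
    zify [show 1 ≤ (k + 1) ^ 2 from Nat.one_le_pow _ _ (by omega)]
    ring
  -- the Sylow subgroup has order `p`
  have hPN : (P : Subgroup G) ≤ N := Subgroup.le_normalizer
  have hPcard : Nat.card P = p := by
    obtain ⟨a, ha⟩ := IsPGroup.iff_card.1 P.isPGroup'
    have ha0 : a ≠ 0 := by
      rintro rfl
      rw [pow_zero] at ha
      apply hPn
      have h1 : (P : Subgroup G) = ⊥ := by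
        rw [← Subgroup.card_eq_one]; exact ha
      rw [h1]
      infer_instance
    by_cases ha1 : a = 1
    · rw [ha, ha1, pow_one]
    · exfalso
      have h1 : p ^ 2 ≤ Nat.card P := by
        rw [ha]
        exact Nat.pow_le_pow_right (by omega) (by omega)
      have h2 : p ^ 2 ≤ Nat.card N := h1.trans (Nat.le_of_dvd Nat.card_pos (Subgroup.card_dvd_of_le hPN))
      have h3 : p ^ 2 * (p + 1) ≤ Nat.card G := by
        rw [← hGN]
        exact Nat.mul_le_mul h2 (by omega)
      have h4 : 2 * (p ^ 2 * (p + 1)) < p * ((p - 1) * (p + 1)) := by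
        rw [← hsq]; omega
      have h5 : p * ((p - 1) * (p + 1)) ≤ p * (p * (p + 1)) :=
        Nat.mul_le_mul_left _ (Nat.mul_le_mul_right _ (by omega))
      have h6 : p ^ 2 * (p + 1) = p * (p * (p + 1)) := by ring
      omega
  -- the local data
  obtain ⟨σ, hσP, hσ⟩ : ∃ σ ∈ (P : Subgroup G), orderOf σ = p := by
    have : Fintype (P : Subgroup G) := Fintype.ofFinite _
    obtain ⟨g, hg⟩ := exists_prime_orderOf_dvd_card' (G := (P : Subgroup G)) p hPcard.symm.dvd
    exact ⟨g, g.2, by rw [Subgroup.orderOf_coe]; exact hg⟩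
  have hzp : Subgroup.zpowers σ = (P : Subgroup G) := by
    apply Subgroup.eq_of_le_of_card_ge
    · rw [Subgroup.zpowers_le]; exact hσP
    · rw [Nat.card_zpowers, hσ]
      exact hPcard.le
  have hp2 : ¬ p ^ 2 ∣ Nat.card G := by
    intro h
    have h1 := (P.card_eq_multiplicity).symm
    have h2 : Nat.card P = p ^ 1 := by rw [pow_one]; exact hPcard
    rw [h2] at h1
    have h3 := Nat.pow_right_injective hp.out.two_le h1
    have h4 := (hp.out.pow_dvd_iff_le_factorization Nat.card_pos.ne').1 h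
    omega
  obtain ⟨D, hD⟩ := H67.Lat.exists_dat hp.out hp2 hσ
  subst hD
  let _ : Fintype G := Fintype.ofFinite G
  let _ : Fintype D.W := Fintype.ofFinite D.W
  let _ : Fintype (IrrCharacter G) := Fintype.ofFinite _
  have hPset : (P : Set G) = (Subgroup.zpowers D.σ : Set G) :=
    congrArg (fun H : Subgroup G => (H : Set G)) hzp.symm
  set n := N.index with hndef
  set w0 := Nat.card D.N₀ with hw0def
  have hNcard : Nat.card N = p * w0 := by
    rw [hN, hPset]
    exact card_normalizer
  have hGcard : Nat.card G = p * (w0 * n) := by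
    rw [← hGN, hNcard, mul_assoc]
  have hw0pos : 0 < w0 := Nat.card_pos
  have hb : 2 * w0 * n < (p - 1) * (p + 1) := by
    rw [hGcard, hsq] at h2G
    have h3 : p * (2 * w0 * n) < p * ((p - 1) * (p + 1)) := by
      calc p * (2 * w0 * n) = 2 * (p * (w0 * n)) := by ring
        _ < _ := h2G
    exact Nat.lt_of_mul_lt_mul_left h3
  have hw : 2 * w0 < p - 1 := by
    have h3 : (p + 1) * (2 * w0) < (p + 1) * (p - 1) := by
      calc (p + 1) * (2 * w0) ≤ n * (2 * w0) := Nat.mul_le_mul_right _ (by omega)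
        _ = 2 * w0 * n := by ring
        _ < _ := by rw [mul_comm (p + 1)]; exact hb
    exact Nat.lt_of_mul_lt_mul_left h3
  have hN₀ := card_N₀ (D := D)
  rw [← hw0def] at hN₀
  set e := Nat.card (HH D (fun _ => 1)) with hedef
  have hWpos : 0 < Nat.card D.W := Nat.card_pos
  have hew : e ≤ w0 := by
    rw [hN₀]
    exact Nat.le_mul_of_pos_right _ hWpos
  have hepos : 0 < e := Nat.card_pos
  -- Burnside
  have he2 : 2 ≤ e := by
    by_contra hlt2
    have he1 : e = 1 := by omega
    rw [he1, one_mul] at hN₀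
    have hNC : CC D = N := by
      apply Subgroup.eq_of_le_of_card_ge
      · rw [hN, hPset]
        exact CC_le D
      · rw [hNcard, hN₀]
        exact (card_CC D).ge
    have hle : Subgroup.normalizer (P : Set G) ≤ Subgroup.centralizer ((P : Subgroup G) : Set G) := by
      rw [← hN, ← hNC]
      have h1 : ((P : Subgroup G) : Set G) = (Subgroup.zpowers D.σ : Set G) := hPset
      rw [h1]
    have h1 := MonoidHom.ker_transferSylow_isComplement' P hle
    rcases (inferInstance : (MonoidHom.transferSylow P hle).ker.Normal).eq_bot_or_eq_top with h2 | h2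
    · rw [h2] at h1
      have h3 := (Subgroup.isComplement'_bot_left).1 h1
      apply hPn
      rw [h3]
      infer_instance
    · rw [h2] at h1
      have h3 := (Subgroup.isComplement'_top_left).1 h1
      apply hPn
      rw [h3]
      infer_instance
  have hab : ∃ a b : G, a * b ≠ b * a := by
    by_contra hcon
    push Not at hcon
    apply hPn
    refine ⟨fun x hx g => ?_⟩
    rw [hcon g x, mul_inv_cancel_right]
    exact hx
  obtain ⟨s, c, y, hs, hc, hcy, hc1, hcong, hcard, hrel⟩ := struct P hzp.symm hp2 (by rw [← hedef]; exact he2)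
    (by rw [← hedef]; omega)
  rw [← hedef] at hcard
  have hdeg : ∀ χ : IrrCharacter G, χ ≠ oneG G → c χ ≠ 0 → c χ = 1 ∧ charDegree (χ : G → ℂ) = n := by
    intro χ hχ hcχ
    apply arith hp.out hn1 hb hw hw0pos _ (hcong χ hcχ) _ (degree_ne_one hab hχ)
    · rw [← hGcard]
      exact H20.Defect.charDegree_dvd_card χ
    · rcases hc χ with h | h | h
      · exact absurd h hcχ
      · exact Or.inl h
      · exact Or.inr h
  have hsum : ∑ χ : IrrCharacter G, c χ * (charDegree (χ : G → ℂ) : ℤ) = 1 + ((e : ℤ) - 1) * n := by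
    have h1 : ∑ χ : IrrCharacter G, c χ * (charDegree (χ : G → ℂ) : ℤ) =
        ∑ χ ∈ univ.filter (fun χ : IrrCharacter G => c χ ≠ 0), c χ * (charDegree (χ : G → ℂ) : ℤ) := by
      symm
      apply Finset.sum_filter_of_ne
      intro χ _ h h0
      exact h (by rw [h0, zero_mul])
    have hmem : oneG G ∈ univ.filter (fun χ : IrrCharacter G => c χ ≠ 0) := by
      rw [mem_filter, hc1]
      exact ⟨mem_univ _, one_ne_zero⟩
    rw [h1, ← Finset.add_sum_erase _ _ hmem, hc1]
    have h2 : charDegree ((oneG G : IrrCharacter G) : G → ℂ) = 1 := H20.Height.charDegree_one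
    rw [h2]
    have h3 : ∑ χ ∈ (univ.filter (fun χ : IrrCharacter G => c χ ≠ 0)).erase (oneG G),
        c χ * (charDegree (χ : G → ℂ) : ℤ) = ((e : ℤ) - 1) * n := by
      have h6 : ∀ χ ∈ (univ.filter (fun χ : IrrCharacter G => c χ ≠ 0)).erase (oneG G),
          c χ * (charDegree (χ : G → ℂ) : ℤ) = (n : ℤ) := by
        intro χ hχ
        rw [mem_erase, mem_filter] at hχ
        obtain ⟨h4, h5⟩ := hdeg χ hχ.1 hχ.2.2
        rw [h4, h5, one_mul]
      rw [Finset.sum_congr rfl h6, Finset.sum_const, Finset.card_erase_of_mem hmem, hcard, nsmul_eq_mul,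
        Nat.cast_sub (by omega), Nat.cast_one]
    rw [h3]
    norm_num
  rw [hsum] at hrel
  refine arith2 hp.out hn1 hnp hw hw0pos he2 (by omega) hs ?_ hrel
  rw [← hGcard]
  exact H20.Defect.charDegree_dvd_card y

end H67.Least
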