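import Cfsg.Agent.Lib.H89.MX0
import Cfsg.Agent.Lib.H84.MXX
import Cfsg.Agent.Lib.H21.MXFE
import Cfsg.Agent.Lib.H91.MXEV
import Cfsg.Agent.Lib.H26.MXQ

/-!
S5316, piece F5: the case `n = 5`.
-/

set_option autoImplicit false
set_option linter.unusedSectionVars false
set_option linter.style.haveILetI false

namespace H67.MXF5

open Subgroup Cfsg Cfsg.FusionSystem H67.HallPetrescu H57.Mc H89.MX H86.FusBasic
open scoped commutatorElement

variable {Ω : Type*} [Group Ω] {S : Subgroup Ω} [Finite S] {p n : ℕ} [hp : Fact p.Prime] {F : FusionSystem S} {E C W B : Subgroup Ω} {τ : MulAut E}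

/-- restriction of an automorphism of the system to an invariant subgroup -/
theorem restrictAut {N V : Subgroup Ω} (hN : N ≤ S) (hV : V ≤ N) {γ : MulAut N} (hγ : γ ∈ F.autGroup N)
    (h : ∀ x : N, (x : Ω) ∈ V → ((γ x : N) : Ω) ∈ V) :
    ∃ φ ∈ F.autGroup V, ∀ x : V, ((φ x : V) : Ω) = γ ⟨x, hV x.2⟩ := by
  have hiso : IsIso F (γ : N ≃* N) := (H86.FusBasic.mem_autGroup F hN).1 hγ
  have hm := restrict_mem F hiso hV
  have hfin : Finite V := Finite.of_injective (fun x : V => (⟨x, hN (hV x.2)⟩ : S)) (by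
    intro a b hab
    exact Subtype.ext (congrArg (fun y : S => (y : Ω)) hab))
  have hle : ((N.subtype.comp (γ : N ≃* N).toMonoidHom).comp (Subgroup.inclusion hV)).range ≤ V := by
    rintro _ ⟨x, rfl⟩
    exact h ⟨x, hV x.2⟩ x.2
  have hr : ((N.subtype.comp (γ : N ≃* N).toMonoidHom).comp (Subgroup.inclusion hV)).range = V := by
    apply Subgroup.eq_of_le_of_card_ge hle
    exact (Nat.card_congr (MonoidHom.ofInjective (F.injective_of_mem hm)).toEquiv).le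
  exact ⟨_, (isIso_toEquiv F hm hr).mem_autGroup, fun x => rfl⟩

theorem mem_K {i : ℕ} {x : S} : (x : Ω) ∈ K S i ↔ x ∈ lcsF ↥S i := by
  unfold K
  constructor
  · rintro ⟨y, hy, hyx⟩
    rwa [Subtype.ext hyx] at hy
  · intro hx
    exact ⟨x, hx, rfl⟩

theorem K_le (i : ℕ) : K S i ≤ S := by
  rintro _ ⟨y, -, rfl⟩
  exact y.2

theorem K_comm {i j : ℕ} {x y : Ω} (hx : x ∈ K S i) (hy : y ∈ K S j) : x * y * x⁻¹ * y⁻¹ ∈ K S (i + j) := by
  obtain ⟨x, hx, rfl⟩ := hx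
  obtain ⟨y, hy, rfl⟩ := hy
  exact ⟨_, comm_memK hx hy, rfl⟩

theorem K_mono {i j : ℕ} (h : i ≤ j) : K S j ≤ K S i := Subgroup.map_mono (K_anti h)

theorem K_conj {i : ℕ} {x g : Ω} (hx : x ∈ K S i) (hg : g ∈ S) : g * x * g⁻¹ ∈ K S i := by
  obtain ⟨x, hx, rfl⟩ := hx
  have h1 := comm_memK'' hx (⟨g, hg⟩ : S)
  have h2 := mul_mem (K_anti (Nat.le_succ i) h1) hx
  refine ⟨_, h2, ?_⟩
  simp [commutatorElement_def]

theorem card_K (h : MC p n ↥S) {i : ℕ} (hi : 2 ≤ i) (hin : i ≤ n) : Nat.card (K S i) = p ^ (n - i) := by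
  unfold K
  rw [Subgroup.card_map_of_injective S.subtype_injective]
  exact h.cardK i hi hin

/-- two subgroups of prime order with a common non-trivial element coincide -/
theorem eq_of_prime {A A' : Subgroup Ω} (hA : Nat.card A = p) (hA' : Nat.card A' = p) {z : Ω} (hz : z ∈ A) (hz' : z ∈ A')
    (hz1 : z ≠ 1) : A = A' := by
  have key : ∀ B : Subgroup Ω, Nat.card B = p → z ∈ B → zpowers z = B := by
    intro B hB hzB
    haveI : Finite B := Nat.finite_of_card_ne_zero (by rw [hB]; exact hp.out.ne_zero)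
    have h1 : zpowers z ≤ B := by rwa [zpowers_le]
    apply Subgroup.eq_of_le_of_card_ge h1
    have h2 := card_dvd_of_le h1
    rw [hB, Nat.dvd_prime hp.out] at h2
    rcases h2 with h2 | h2
    · exfalso
      rw [Subgroup.card_eq_one, zpowers_eq_bot] at h2
      exact hz1 h2
    · rw [hB, h2]
  rw [← key A hA hz, ← key A' hA' hz']

theorem fin5_of (D : Dat S p 5 F E) (h2 : K S 3 ≤ E) (H : Tau S p F E (K S 3) τ W B)
    (hQ : K S (5 - 3) ≤ normalizer (E : Set Ω) → ∀ γ ∈ F.autGroup (normalizerIn S E),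
      ∀ x : normalizerIn S E, (x : Ω) ∈ K S (5 - 3) → ((γ x : normalizerIn S E) : Ω) ∈ K S (5 - 3)) : False := by
  have hES : E ≤ S := D.ess.1.1
  have hfE : Finite E := Nat.finite_of_card_ne_zero (by rw [D.card]; exact pow_ne_zero _ hp.out.ne_zero)
  have hCE : centralizerIn S E ≤ E := H57.Ess.centralizerIn_le_of_essential D.ess
  have hK5 : K S 5 = ⊥ := by unfold K; rw [D.mc.K_n (by norm_num) le_rfl, Subgroup.map_bot]
  have hK43 : K S 4 ≤ K S 3 := K_mono (by norm_num)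
  have hK32 : K S 3 ≤ K S 2 := K_mono (by norm_num)
  have hc4 : Nat.card (K S 4) = p := by rw [card_K D.mc (by norm_num) (by norm_num)]; norm_num
  have hc3 : Nat.card (K S 3) = p ^ 2 := by rw [card_K D.mc (by norm_num) (by norm_num)]
  have hc2 : Nat.card (K S 2) = p ^ 3 := by rw [card_K D.mc (by norm_num) (by norm_num)]
  have hf2 : Finite (K S 2) := Nat.finite_of_card_ne_zero (by rw [hc2]; exact pow_ne_zero _ hp.out.ne_zero)
  -- `K_4` is central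
  have hcen : ∀ z ∈ K S 4, ∀ g ∈ S, g * z = z * g := by
    rintro _ ⟨z, hz, rfl⟩ g hg
    have := D.mc.central (by norm_num) (x := z) hz ⟨g, hg⟩
    exact congrArg (fun y : S => (y : Ω)) this
  -- `E ≤ P₁`
  have hEP : ∀ e ∈ E, ∀ x ∈ K S 2, x * e * x⁻¹ * e⁻¹ ∈ K S 4 := by
    intro e he x hx
    have h5 : TC ↥S 2 ≤ TC ↥S (5 - 2) := D.mc.thmB le_rfl (by have := D.hp; omega) (by decide)
      (D.mc.blackburn (by norm_num) (by have := D.hp; omega)).1
    have h6 := D.mc.TC_eq (i := 3) (by norm_num) (by norm_num) h5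
    obtain ⟨x, hx, rfl⟩ := hx
    have h7 : (⟨e, hES he⟩ : S) ∈ TC ↥S 3 := by
      rw [mem_TC]
      intro y hy
      have h8 : ⁅y, (⟨e, hES he⟩ : S)⁆ = 1 := by
        rw [commutatorElement_eq_one_iff_mul_comm]
        exact Subtype.ext (D.comm y (h2 (mem_K.2 hy)) e he)
      rw [h8]; exact one_mem _
    rw [h6] at h7
    exact ⟨_, h7 x hx, rfl⟩
  have hn1 : ∀ x ∈ K S 2, ∀ e ∈ E, x * e * x⁻¹ ∈ E := by
    intro x hx e he
    have h5 := E.mul_mem (h2 (hK43 (hEP e he x hx))) he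
    rwa [inv_mul_cancel_right] at h5
  have hn2 : K S 2 ≤ normalizer (E : Set Ω) := by
    intro x hx
    rw [mem_normalizer_iff]
    intro e
    refine ⟨fun he => hn1 x hx e he, fun he => ?_⟩
    have := hn1 x⁻¹ (inv_mem hx) _ he
    have h5 : x⁻¹ * (x * e * x⁻¹) * x⁻¹⁻¹ = e := by group
    rwa [h5] at this
  -- an element of `K_2` outside `E`
  have hx0 : ∃ x ∈ K S 2, x ∉ E := by
    by_contra hcon
    push Not at hcon
    have h5 : K S 2 = E := Subgroup.eq_of_le_of_card_ge hcon (by rw [hc2, D.card])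
    have h6 : normalizerIn S E = S := by
      apply le_antisymm inf_le_left
      intro g hg
      refine ⟨hg, ?_⟩
      rw [← h5]
      show g ∈ normalizer _
      rw [mem_normalizer_iff]
      intro e
      refine ⟨fun he => K_conj he hg, fun he => ?_⟩
      have := K_conj he (inv_mem hg)
      have h5 : g⁻¹ * (g * e * g⁻¹) * g⁻¹⁻¹ = e := by group
      rwa [h5] at this
    have h7 := H.cardN
    rw [h6, D.mc.card] at h7
    have := Nat.pow_right_injective hp.out.two_le h7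
    omega
  obtain ⟨x0, hx0, hx0E⟩ := hx0
  obtain ⟨e0, he0, hne⟩ : ∃ e ∈ E, x0 * e * x0⁻¹ * e⁻¹ ≠ 1 := by
    by_contra hcon
    push Not at hcon
    apply hx0E
    apply hCE
    refine ⟨K_le 2 hx0, ?_⟩
    show x0 ∈ centralizer _
    rw [mem_centralizer_iff]
    intro e he
    have h5 := hcon e he
    rw [mul_inv_eq_one, mul_inv_eq_iff_eq_mul] at h5
    exact h5.symm
  have hWZ : W ⊓ K S 3 = K S 4 := by
    refine eq_of_prime H.cardV hc4 (z := x0 * e0 * x0⁻¹ * e0⁻¹) ?_ (hEP e0 he0 x0 hx0) hne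
    exact H.com e0 he0 x0 (K_le 2 hx0) (hn2 hx0)
  have hfi : Finite (E ⊓ K S 2 : Subgroup Ω) := Finite.of_injective (fun x : (E ⊓ K S 2 : Subgroup Ω) => (⟨x, x.2.1⟩ : E)) (by
    intro a b hab
    exact Subtype.ext (congrArg (fun y : E => (y : Ω)) hab))
  have hEK : E ⊓ K S 2 = K S 3 := by
    symm
    apply Subgroup.eq_of_le_of_card_ge (le_inf h2 hK32)
    have h5 : Nat.card (E ⊓ K S 2 : Subgroup Ω) ∣ p ^ 3 := by
      rw [← hc2]; exact card_dvd_of_le inf_le_right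
    obtain ⟨j, hj, hj'⟩ := (Nat.dvd_prime_pow hp.out).1 h5
    rw [hj', hc3]
    rcases Nat.lt_or_ge j 3 with h6 | h6
    · exact Nat.pow_le_pow_right hp.out.pos (by omega)
    · exfalso
      have h7 : j = 3 := by omega
      rw [h7] at hj'
      have h8 : E ⊓ K S 2 = K S 2 := Subgroup.eq_of_le_of_card_ge inf_le_right (by rw [hj', hc2])
      apply hx0E
      have h9 : x0 ∈ E ⊓ K S 2 := by rw [h8]; exact hx0
      exact h9.1
  -- `τ`
  have hta : ∀ z (hz : z ∈ K S 4), ((τ ⟨z, h2 (hK43 hz)⟩ : E) : Ω) = z⁻¹ := by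
    intro z hz
    have h5 : z ∈ W := by
      have : z ∈ W ⊓ K S 3 := by rw [hWZ]; exact hz
      exact this.1
    rw [H.inv ⟨z, _⟩ h5]; rfl
  have hBE : B ≤ E := H.BC.trans H.CE
  have htW : ∀ (z : E), (z : Ω)⁻¹ * τ z ∈ W := by
    intro z
    have hT : ∀ z ∈ W ⊔ B, ∃ hz : z ∈ E, z⁻¹ * τ ⟨z, hz⟩ ∈ W := by
      intro z hz
      rw [Subgroup.sup_eq_closure] at hz
      induction hz using Subgroup.closure_induction with
      | mem x hx =>
        rcases hx with hx | hx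
        · refine ⟨H.WE hx, ?_⟩
          rw [H.inv ⟨x, _⟩ hx]
          exact W.mul_mem (W.inv_mem hx) (W.inv_mem hx)
        · refine ⟨hBE hx, ?_⟩
          rw [H.fix ⟨x, _⟩ hx]
          rw [inv_mul_cancel]
          exact W.one_mem
      | one =>
        refine ⟨E.one_mem, ?_⟩
        have : (⟨1, E.one_mem⟩ : E) = 1 := rfl
        rw [this, map_one]
        simp
      | mul x y _ _ hx hy =>
        obtain ⟨hx, hx'⟩ := hx
        obtain ⟨hy, hy'⟩ := hy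
        refine ⟨E.mul_mem hx hy, ?_⟩
        have h6 : (⟨x * y, E.mul_mem hx hy⟩ : E) = ⟨x, hx⟩ * ⟨y, hy⟩ := rfl
        rw [h6, map_mul]
        have h7 : (x * y)⁻¹ * ((τ ⟨x, hx⟩ * τ ⟨y, hy⟩ : E) : Ω) = (x⁻¹ * τ ⟨x, hx⟩) * (y⁻¹ * τ ⟨y, hy⟩) := by
          rw [Subgroup.coe_mul, mul_inv_rev]
          have h8 := D.comm _ (E.mul_mem (E.inv_mem hx) (τ ⟨x, hx⟩).2) _ (E.inv_mem hy)
          calc y⁻¹ * x⁻¹ * ((τ ⟨x, hx⟩ : Ω) * τ ⟨y, hy⟩) = (y⁻¹ * (x⁻¹ * (τ ⟨x, hx⟩ : Ω))) * τ ⟨y, hy⟩ := by group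
            _ = _ := by rw [← h8]; group
        rw [h7]
        exact W.mul_mem hx' hy'
      | inv x _ hx =>
        obtain ⟨hx, hx'⟩ := hx
        refine ⟨E.inv_mem hx, ?_⟩
        have h6 : (⟨x⁻¹, E.inv_mem hx⟩ : E) = (⟨x, hx⟩ : E)⁻¹ := rfl
        rw [h6, map_inv]
        have h7 : (x⁻¹)⁻¹ * (((τ ⟨x, hx⟩)⁻¹ : E) : Ω) = (x⁻¹ * τ ⟨x, hx⟩)⁻¹ := by
          rw [Subgroup.coe_inv, mul_inv_rev, inv_inv]
          exact D.comm _ hx _ (E.inv_mem (τ ⟨x, hx⟩).2)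
        rw [h7]
        exact W.inv_mem hx'
    obtain ⟨hz, h5⟩ := hT z (by rw [H.sup]; exact z.2)
    exact h5
  -- the extension
  obtain ⟨γ, hγ, hγ2, hγE⟩ := H84.MXX.ext D H
  have hN3 : K S 2 ≤ normalizerIn S E := le_inf (K_le 2) hn2
  have hEN : E ≤ normalizerIn S E := le_inf hES le_normalizer
  have hγK := hQ hn2 γ hγ
  obtain ⟨φ, hφ, hφx⟩ := restrictAut (F := F) (V := K S 2) inf_le_left hN3 hγ hγK
  have hφE : ∀ (x : K S 2) (hx : (x : Ω) ∈ E), ((φ x : K S 2) : Ω) = τ ⟨x, hx⟩ := by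
    intro x hx
    rw [hφx x]
    exact hγE ⟨x, hx⟩ (hN3 x.2)
  have f2 : ∀ v : K S 2, (v : Ω) ∈ K S 3 → ((φ v : K S 2) : Ω) ∈ K S 3 := by
    intro v hv
    rw [← hEK]
    refine ⟨?_, (φ v).2⟩
    rw [hφE v (h2 hv)]
    exact (τ ⟨v, h2 hv⟩).2
  have f1' : ∀ v : K S 2, (v : Ω) ∈ K S 4 → ((φ v : K S 2) : Ω) = (v : Ω)⁻¹ := by
    intro v hv
    rw [hφE v (h2 (hK43 hv))]
    exact hta v hv
  have f1 : ∀ v : K S 2, (v : Ω) ∈ K S 4 → ((φ v : K S 2) : Ω) ∈ K S 4 := by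
    intro v hv
    rw [f1' v hv]
    exact inv_mem hv
  obtain ⟨σ, hσ, hσx⟩ := H21.MXFE.flag_ext D.mc.isPGroup D.sat (K_le 2) hK32 hK43 (fun g hg v hv => K_conj hv hg)
    (fun g hg v hv => K_conj hv hg) (fun g hg v hv => K_conj hv hg) hc2 hc3 hc4 hφ f2 f1
  -- `x⁻¹ φ(x) ∈ K_3`
  have hfix : ∀ x : K S 2, (x : Ω)⁻¹ * φ x ∈ K S 3 := by
    intro x
    rw [← hEK]
    refine ⟨?_, (K S 2).mul_mem ((K S 2).inv_mem x.2) (φ x).2⟩
    apply hCE
    refine ⟨S.mul_mem (S.inv_mem (K_le 2 x.2)) (K_le 2 (φ x).2), ?_⟩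
    show _ ∈ centralizer _
    have hcl : W ⊔ B ≤ centralizer {((x : Ω)⁻¹ * φ x)} := by
      rw [sup_le_iff]
      constructor
      · intro e he
        rw [mem_centralizer_singleton_iff]
        have heE := H.WE he
        -- `[φ x, τ e] = [x, e]⁻¹`
        have h5 := hEP e heE x x.2
        have h6 : ((γ ⟨(x : Ω) * e * (x : Ω)⁻¹ * e⁻¹, hN3 (K_mono (by norm_num) h5)⟩ : normalizerIn S E) : Ω)
            = ((x : Ω) * e * (x : Ω)⁻¹ * e⁻¹)⁻¹ := by
          rw [hγE ⟨_, h2 (hK43 h5)⟩ (hN3 (K_mono (by norm_num) h5))]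
          exact hta _ h5
        have h7 : (⟨(x : Ω) * e * (x : Ω)⁻¹ * e⁻¹, hN3 (K_mono (by norm_num) h5)⟩ : normalizerIn S E)
            = ⟨x, hN3 x.2⟩ * ⟨e, hEN heE⟩ * (⟨x, hN3 x.2⟩)⁻¹ * (⟨e, hEN heE⟩)⁻¹ := rfl
        rw [h7, map_mul, map_mul, map_mul, map_inv, map_inv] at h6
        have h8 : ((γ ⟨e, hEN heE⟩ : normalizerIn S E) : Ω) = e⁻¹ := by
          rw [hγE ⟨e, heE⟩ (hEN heE), H.inv ⟨e, heE⟩ he]; rfl
        have h9 : ((γ ⟨x, hN3 x.2⟩ : normalizerIn S E) : Ω) = φ x := (hφx x).symm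
        simp only [Subgroup.coe_mul, Subgroup.coe_inv] at h6
        rw [h8, h9, inv_inv] at h6
        -- `y e⁻¹ y⁻¹ e = ([x, e])⁻¹`
        set y : Ω := ((φ x : K S 2) : Ω) with hy
        have h10 := hcen _ h5 e (hES heE)
        set c : Ω := (x : Ω) * e * (x : Ω)⁻¹ * e⁻¹ with hc
        have h11 : y * e⁻¹ * y⁻¹ = c⁻¹ * e⁻¹ := by
          rw [← h6]; group
        have h12 : y * e * y⁻¹ = c * e := by
          have : (y * e * y⁻¹) = (y * e⁻¹ * y⁻¹)⁻¹ := by group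
          rw [this, h11, mul_inv_rev, inv_inv, inv_inv, h10]
        have h13 : (x : Ω) * e * (x : Ω)⁻¹ = c * e := by rw [hc]; group
        have h14 : y * e * y⁻¹ = (x : Ω) * e * (x : Ω)⁻¹ := by rw [h12, h13]
        have h15 : (x : Ω)⁻¹ * y * e = e * ((x : Ω)⁻¹ * y) := by
          have : (x : Ω)⁻¹ * y * e = (x : Ω)⁻¹ * (y * e * y⁻¹) * y := by group
          rw [this, h14]; group
        exact h15.symm
      · intro e he
        rw [mem_centralizer_singleton_iff]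
        have h5 : ∀ k ∈ K S 2, k * e = e * k := by
          intro k hk
          have h6 := K_comm hk (H.BC he)
          rw [show 2 + 3 = 5 by norm_num, hK5, mem_bot, mul_inv_eq_one, mul_inv_eq_iff_eq_mul] at h6
          exact h6
        exact (h5 _ ((K S 2).mul_mem ((K S 2).inv_mem x.2) (φ x).2)).symm
    rw [H.sup] at hcl
    rw [mem_centralizer_iff]
    intro e he
    have := hcl he
    rw [mem_centralizer_singleton_iff] at this
    exact this
  have hfin := H91.MXEV.eig5 D.mc D.hp σ (a := -1) (b := 1) (c := 1) (Or.inr rfl) (Or.inl rfl) (Or.inl rfl) ?_ ?_ ?_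
  · norm_num at hfin
  · intro z hz
    rw [zpow_neg, zpow_one]
    apply Subtype.ext
    have hz' : (z : Ω) ∈ K S 2 := K_mono (by norm_num) (mem_K.2 hz)
    have h5 := hσx ⟨z, hz'⟩
    rw [f1' ⟨z, hz'⟩ (mem_K.2 hz)] at h5
    exact h5
  · intro z hz
    rw [← mem_K, ← hWZ]
    have hz3 : (z : Ω) ∈ K S 3 := mem_K.2 hz
    have hz' : (z : Ω) ∈ K S 2 := K_mono (by norm_num) hz3
    have h5 := hσx ⟨z, hz'⟩
    have h6 : ((z ^ (-1 : ℤ) * σ z : S) : Ω) = (z : Ω)⁻¹ * φ ⟨z, hz'⟩ := by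
      rw [← h5, zpow_neg, zpow_one]; rfl
    rw [h6]
    refine ⟨?_, (K S 3).mul_mem (inv_mem hz3) (f2 ⟨z, hz'⟩ hz3)⟩
    rw [hφE ⟨z, hz'⟩ (h2 hz3)]
    exact htW ⟨z, h2 hz3⟩
  · intro z hz
    rw [← mem_K]
    have hz' : (z : Ω) ∈ K S 2 := mem_K.2 hz
    have h5 := hσx ⟨z, hz'⟩
    have h6 : ((z ^ (-1 : ℤ) * σ z : S) : Ω) = (z : Ω)⁻¹ * φ ⟨z, hz'⟩ := by
      rw [← h5, zpow_neg, zpow_one]; rfl
    rw [h6]
    exact hfix ⟨z, hz'⟩

theorem fin5 (D : Dat S p 5 F E) (h2 : K S 3 ≤ E) (H : Tau S p F E (K S 3) τ W B) : False :=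
  fin5_of D h2 H fun h3 γ hγ => H26.MXQ.invK3 D H.cardN h3 hγ

end H67.MXF5
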