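import Cfsg.Agent.Lib.H57.Mc5

/-!
S5316, piece PAR: an exceptional `p`-group of maximal class has order `p ^ n` with `n` even.
-/

set_option autoImplicit false

namespace H67.MXPAR

open Subgroup H67.HallPetrescu H57.Mc

variable {p n : ℕ} [hp : Fact p.Prime]

theorem even_of_exc {G : Type*} [Group G] [Finite G] (h : MC p n G) (h5 : 5 ≤ p) (hn : 5 ≤ n)
    (hex : ¬ TC G 2 ≤ TC G (n - 2)) : Even n := by
  by_contra hodd
  rw [Nat.not_even_iff_odd] at hodd
  exact hex (h.thmB hn (by omega) hodd (h.blackburn (by omega) (by omega)).1)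

end H67.MXPAR
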