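import Mathlib
import Cfsg.Agent.Lib.H67.IrrCyc
import Cfsg.Agent.Lib.H1.Coprime2
import Cfsg.Agent.Lib.H1.Solv
import Cfsg.Agent.Lib.H1.Frat
import Cfsg.Agent.Lib.H73.SolvSmall
import Cfsg.Prelude.Def_Transfer
import Cfsg.Prelude.Def_LocalStructure

/-!
Minimal non-`p`-closed groups that are not simple.
-/

set_option autoImplicit false

namespace H67.MinClosed

open Subgroup
open scoped IsMulCommutative

variable {G : Type*} [Group G]

/-- A normal subgroup of prime index together with an element outside generates. -/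
theorem sup_zpowers_eq_top {p : ℕ} [hp : Fact p.Prime] (A : Subgroup G) (hidx : A.index = p) {g : G} (hg : g ∉ A) :
    A ⊔ zpowers g = ⊤ := by
  have h1 : (A ⊔ zpowers g).index ∣ p := by
    rw [← hidx]; exact index_dvd_of_le le_sup_left
  rcases (Nat.dvd_prime hp.out).1 h1 with h | h
  · exact index_eq_one.1 h
  · exfalso
    have h2 : A.relIndex (A ⊔ zpowers g) * (A ⊔ zpowers g).index = A.index :=
      relIndex_mul_index le_sup_left
    rw [h, hidx] at h2
    have h3 : A.relIndex (A ⊔ zpowers g) = 1 := by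
      have := hp.out.pos
      exact Nat.eq_of_mul_eq_mul_right this (by simpa using h2)
    rw [relIndex_eq_one] at h3
    exact hg (h3 (mem_sup_right (mem_zpowers g)))

theorem card_of_irr_add {V : Type*} [AddCommGroup V] [Finite V] {p q : ℕ} [hp : Fact p.Prime] [hq : Fact q.Prime]
    (hpq : q ≠ p) (hexp : ∀ v : V, q • v = 0) (φ : V →+ V) (hφ : ∀ a, φ^[p] a = a) (hne : ∃ a, φ a ≠ a)
    (hirr : ∀ B : AddSubgroup V, (∀ b ∈ B, φ b ∈ B) → B = ⊥ ∨ B = ⊤) :
    Nat.card V = q ^ orderOf (q : ZMod p) := by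
  obtain ⟨inst⟩ : Nonempty (Module (ZMod q) V) := ⟨AddCommGroup.zmodModule hexp⟩
  obtain ⟨T, hTapp⟩ : ∃ T : Module.End (ZMod q) V, ∀ v : V, T v = φ v :=
    ⟨AddMonoidHom.toZModLinearMap q φ, fun v => rfl⟩
  have hTpow : ∀ (n : ℕ) (v : V), (T ^ n) v = φ^[n] v := by
    intro n
    induction n with
    | zero => intro v; simp
    | succ n ih =>
      intro v
      rw [pow_succ, Module.End.mul_apply, ih, hTapp]
      rfl
  have hTp : T ^ p = 1 := by
    ext v
    rw [hTpow, hφ]
    rfl
  have hT1 : T ≠ 1 := by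
    intro h
    obtain ⟨a, ha⟩ := hne
    apply ha
    have := hTapp a
    rw [h] at this
    exact this.symm
  refine H67.IrrCyc.card_eq hpq T hTp hT1 ?_
  intro W hW
  rcases hirr W.toAddSubgroup (fun b hb => by rw [← hTapp]; exact hW b hb) with h | h
  · left
    rw [eq_bot_iff]
    intro v hv
    have : v ∈ W.toAddSubgroup := hv
    rw [h, AddSubgroup.mem_bot] at this
    rw [Submodule.mem_bot]
    exact this
  · right
    rw [eq_top_iff]
    intro v _
    have : v ∈ W.toAddSubgroup := by rw [h]; trivial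
    exact this

theorem card_of_irr {A : Type*} [CommGroup A] [Finite A] {p q : ℕ} [hp : Fact p.Prime] [hq : Fact q.Prime]
    (hpq : q ≠ p) (hexp : ∀ a : A, a ^ q = 1) (φ : A →* A) (hφ : ∀ a, φ^[p] a = a) (hne : ∃ a, φ a ≠ a)
    (hirr : ∀ B : Subgroup A, (∀ b ∈ B, φ b ∈ B) → B = ⊥ ∨ B = ⊤) :
    Nat.card A = q ^ orderOf (q : ZMod p) := by
  refine card_of_irr_add (V := Additive A) hpq (fun v => hexp v.toMul) (MonoidHom.toAdditive φ)
    (fun a => hφ a.toMul) ?_ ?_
  · obtain ⟨a, ha⟩ := hne
    exact ⟨Additive.ofMul a, ha⟩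
  · intro B hB
    rcases hirr (AddSubgroup.toSubgroup' B) (fun b hb => hB (Additive.ofMul b) hb) with h | h
    · left
      rw [eq_bot_iff]
      intro v hv
      have : v.toMul ∈ (AddSubgroup.toSubgroup' B) := hv
      rw [h, mem_bot] at this
      exact this
    · right
      rw [eq_top_iff]
      intro v _
      have : v.toMul ∈ (AddSubgroup.toSubgroup' B) := by rw [h]; trivial
      exact this

theorem card_of_min [Finite G] {p q : ℕ} [hp : Fact p.Prime] (hq : q.Prime) (hpq : q ≠ p)
    (hna : ¬ IsMulCommutative G) (A : Subgroup G) [hAn : A.Normal] (hA : Cfsg.IsElementaryAbelian q A) (hidx : A.index = p)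
    (hmin : ∀ B : Subgroup G, B.Normal → B ≤ A → B = ⊥ ∨ B = A) :
    Nat.card ↥A = q ^ orderOf (q : ZMod p) := by
  have := Fact.mk hq
  have hcomm : IsMulCommutative A := hA.1
  -- g ∉ A
  obtain ⟨g, hg⟩ : ∃ g, g ∉ A := by
    by_contra hcon
    push Not at hcon
    have : A = ⊤ := (eq_top_iff' A).2 hcon
    rw [this, index_top] at hidx
    exact hp.out.one_lt.ne hidx
  have htop := sup_zpowers_eq_top A hidx hg
  have hgen : ∀ x : G, ∃ a ∈ A, ∃ k : ℤ, x = a * g ^ k := by
    intro x
    have hx : x ∈ A ⊔ zpowers g := by rw [htop]; trivial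
    rw [mem_sup_of_normal_left] at hx
    obtain ⟨a, ha, z, ⟨k, rfl⟩, h⟩ := hx
    exact ⟨a, ha, k, h.symm⟩
  have hAcomm : ∀ a ∈ A, ∀ b ∈ A, a * b = b * a := by
    intro a ha b hb
    have := hcomm.is_comm.comm (⟨a, ha⟩ : A) ⟨b, hb⟩
    exact congrArg Subtype.val this
  have hgp : g ^ p ∈ A := by
    have := pow_index_mem A g
    rwa [hidx] at this
  let _ : CommGroup A := { (inferInstance : Group A) with mul_comm := hcomm.is_comm.comm }
  let φ : A →* A :=
    { toFun := fun a => ⟨g * a * g⁻¹, hAn.conj_mem a a.2 g⟩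
      map_one' := by ext; simp
      map_mul' := by
        intro a b
        ext
        simp only [Subgroup.coe_mul]
        group }
  have hφ : ∀ (n : ℕ) (v : A), ((φ^[n] v : A) : G) = g ^ n * (v : G) * (g ^ n)⁻¹ := by
    intro n
    induction n with
    | zero => intro v; simp
    | succ n ih =>
      intro v
      rw [Function.iterate_succ_apply, ih]
      change g ^ n * (g * (v : G) * g⁻¹) * (g ^ n)⁻¹ = _
      rw [pow_succ]
      group
  apply card_of_irr hpq (A := A) (φ := φ)
  · intro a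
    exact Subtype.ext (hA.2 a a.2)
  · intro a
    ext
    rw [hφ, hAcomm _ hgp _ a.2, mul_inv_cancel_right]
  · by_contra hcon
    push Not at hcon
    apply hna
    have hga : ∀ a ∈ A, g * a = a * g := by
      intro a ha
      have := congrArg Subtype.val (hcon ⟨a, ha⟩)
      change g * a * g⁻¹ = a at this
      rwa [mul_inv_eq_iff_eq_mul] at this
    refine ⟨⟨?_⟩⟩
    intro x y
    obtain ⟨a, ha, k, rfl⟩ := hgen x
    obtain ⟨b, hb, l, rfl⟩ := hgen y
    have h1 : Commute g a := hga a ha
    have h2 : Commute g b := hga b hb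
    have h3 : Commute a b := hAcomm a ha b hb
    have h4 : Commute (g ^ k) b := h2.zpow_left k
    have h5 : Commute (g ^ l) a := h1.zpow_left l
    have h6 : Commute (g ^ k) (g ^ l) := (Commute.refl g).zpow_zpow k l
    exact (Commute.mul_left (h3.mul_right h5.symm) (h4.mul_right h6))
  · intro B' hB'
    let B : Subgroup G := B'.map A.subtype
    have hmemB : ∀ x : G, x ∈ B ↔ ∃ h : x ∈ A, (⟨x, h⟩ : A) ∈ B' := by
      intro x
      constructor
      · rintro ⟨y, hy, rfl⟩
        exact ⟨y.2, hy⟩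
      · rintro ⟨h, hx⟩
        exact ⟨⟨x, h⟩, hx, rfl⟩
    have hBA : B ≤ A := fun x hx => ((hmemB x).1 hx).1
    have hgB : ∀ x ∈ B, g * x * g⁻¹ ∈ B := by
      intro x hx
      obtain ⟨h, hx'⟩ := (hmemB x).1 hx
      refine (hmemB _).2 ⟨hAn.conj_mem x h g, ?_⟩
      exact hB' _ hx'
    have hgnB : ∀ (n : ℕ), ∀ x ∈ B, g ^ n * x * (g ^ n)⁻¹ ∈ B := by
      intro n
      induction n with
      | zero => intro x hx; simpa using hx
      | succ n ih =>
        intro x hx
        have := ih _ (hgB x hx)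
        rw [pow_succ]
        convert this using 1
        group
    have hBn : B.Normal := by
      refine ⟨?_⟩
      intro x hx y
      obtain ⟨a, ha, k, rfl⟩ := hgen y
      obtain ⟨n, hn⟩ : ∃ n : ℕ, g ^ n = g ^ k := by
        have := (mem_powers_iff_mem_zpowers (x := g) (y := g ^ k)).2 ⟨k, rfl⟩
        exact this
      rw [← hn]
      have h1 := hgnB n x hx
      have h2 : a * g ^ n * x * (a * g ^ n)⁻¹ = a * (g ^ n * x * (g ^ n)⁻¹) * a⁻¹ := by group
      rw [h2, hAcomm a ha _ (hBA h1), mul_inv_cancel_right]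
      exact h1
    rcases hmin B hBn hBA with h | h
    · left
      rw [eq_bot_iff]
      intro v hv
      have : (v : G) ∈ B := (hmemB _).2 ⟨v.2, hv⟩
      rw [h, mem_bot] at this
      rw [mem_bot]
      exact Subtype.ext this
    · right
      rw [eq_top_iff]
      intro v _
      have : (v : G) ∈ B := by rw [h]; exact v.2
      obtain ⟨_, h'⟩ := (hmemB _).1 this
      exact h'

theorem isPClosed_of_isPGroup {p : ℕ} (h : IsPGroup p G) : Cfsg.IsPClosed p G := by
  intro P
  have h1 : (⊤ : Subgroup G) = P := P.3 (h.to_subgroup ⊤) le_top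
  rw [← h1]
  infer_instance

theorem isPClosed_of_not_dvd [Finite G] {p : ℕ} [Fact p.Prime] (h : ¬ p ∣ Nat.card G) : Cfsg.IsPClosed p G := by
  intro P
  have h1 : Nat.card (P : Subgroup G) = 1 := by
    rw [P.card_eq_multiplicity, Nat.factorization_eq_zero_of_not_dvd h, pow_zero]
  rw [card_eq_one] at h1
  rw [h1]
  infer_instance

/-- The core step: a normal `p'`-subgroup `N` with `N P = G`. -/
theorem exists_prime_of_core [Finite G] {p : ℕ} [hp : Fact p.Prime] (N : Subgroup G) [hN : N.Normal]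
    (hpN : ¬ p ∣ Nat.card N) (P : Sylow p G) (htop : N ⊔ P = ⊤) (hPn : ¬ (P : Subgroup G).Normal)
    (h : ∀ (q : ℕ), q.Prime → q ≠ p → ∀ Q : Subgroup G, Q ≤ N → IsPGroup q Q →
      (P : Subgroup G) ≤ normalizer (Q : Set G) → (P : Subgroup G) ⊔ Q ≠ ⊤ → Q ≤ normalizer ((P : Subgroup G) : Set G)) :
    ∃ q, q.Prime ∧ q ≠ p ∧ IsPGroup q N := by
  by_contra hcon
  push Not at hcon
  apply hPn
  have hcop : (Nat.card (P : Subgroup G)).Coprime (Nat.card N) := by
    obtain ⟨k, hk⟩ := IsPGroup.iff_card.1 P.2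
    rw [hk]
    exact Nat.Coprime.pow_left _ ((Nat.Prime.coprime_iff_not_dvd hp.out).2 hpN)
  have hPN : (P : Subgroup G) ≤ normalizer (N : Set G) := by
    rw [normalizer_eq_top]; exact le_top
  have hsolv : Group.IsSolvable (P : Subgroup G) := by
    have := P.2.isNilpotent
    infer_instance
  have key : Nat.card N ∣ Nat.card (N ⊓ normalizer ((P : Subgroup G) : Set G) : Subgroup G) := by
    rw [Nat.dvd_iff_prime_pow_dvd_dvd]
    intro r k hr hk
    rcases Nat.eq_zero_or_pos k with h0 | h0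
    · rw [h0, pow_zero]; exact one_dvd _
    have hrp : r ≠ p := by
      rintro rfl
      exact hpN ((dvd_pow_self r h0.ne').trans hk)
    have := Fact.mk hr
    obtain ⟨S, hS, hPS⟩ := H1.Coprime2.exists_invariant_sylow (P : Subgroup G) N hPN hcop (Or.inl hsolv) r
    have hrS : IsPGroup r S := hS.isPGroup
    have hne : (P : Subgroup G) ⊔ S ≠ ⊤ := by
      intro he
      apply hcon r hr hrp
      have hdN : (P : Subgroup G) ⊓ N = ⊥ := H1.Coprime.inf_eq_bot_of_coprime_card hcop
      have hdS : (P : Subgroup G) ⊓ S = ⊥ := by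
        rw [eq_bot_iff, ← hdN]
        exact inf_le_inf_left _ hS.1
      have h1 := H1.Coprime.relIndex_sup_of_disjoint hPN hdN
      have h2 := H1.Coprime.relIndex_sup_of_disjoint hPS hdS
      rw [htop, relIndex_top_right] at h1
      rw [sup_comm, he, relIndex_top_right] at h2
      have h3 : N = S := by
        symm
        apply eq_of_le_of_card_ge hS.1
        have h4 := N.card_mul_index
        have h5 := S.card_mul_index
        rw [h1] at h4
        rw [h2, ← h4] at h5
        exact (Nat.eq_of_mul_eq_mul_right Nat.card_pos h5).ge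
      rw [h3]
      exact hrS
    have h2 := h r hr hrp S hS.1 hrS hPS hne
    have h3 : S ≤ N ⊓ normalizer ((P : Subgroup G) : Set G) := le_inf hS.1 h2
    have h4 : r ^ k ∣ Nat.card S := by
      rw [hS.2]
      exact pow_dvd_pow _ ((hr.pow_dvd_iff_le_factorization Nat.card_pos.ne').1 hk)
    exact h4.trans (card_dvd_of_le h3)
  have h5 : N ⊓ normalizer ((P : Subgroup G) : Set G) = N :=
    eq_of_le_of_card_ge inf_le_left (Nat.le_of_dvd Nat.card_pos key)
  have h6 : normalizer ((P : Subgroup G) : Set G) = ⊤ := by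
    rw [eq_top_iff, ← htop]
    exact sup_le (inf_eq_left.1 h5) le_normalizer
  exact normalizer_eq_top_iff.1 h6

theorem isSolvable_of_index [Finite G] {p q : ℕ} [hp : Fact p.Prime] [hq : Fact q.Prime] (N : Subgroup G) [hN : N.Normal]
    (hidx : N.index = p) (hNq : IsPGroup q N) : Group.IsSolvable G := by
  have h1 : Group.IsSolvable N := by
    have := hNq.isNilpotent
    infer_instance
  have h2 : Group.IsSolvable (G ⧸ N) := by
    have h3 : IsPGroup p (G ⧸ N) := by
      apply IsPGroup.of_card (n := 1)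
      rw [pow_one, ← hidx]
      rfl
    have := h3.isNilpotent
    infer_instance
  exact Group.isSolvable_of_ker_le_range N.subtype (QuotientGroup.mk' N) (by simp)

theorem finish [Finite G] {p q : ℕ} [hp : Fact p.Prime] (hq : q.Prime) (hpq : q ≠ p)
    (hna : ¬ IsMulCommutative G) (N : Subgroup G) [hN : N.Normal] (hNb : N ≠ ⊥) (hNq : IsPGroup q N) (hidx : N.index = p)
    (hmin : ∀ B : Subgroup G, B.Normal → B ≤ N → B = ⊥ ∨ B = N) :
    ∃ q : ℕ, q.Prime ∧ q ≠ p ∧ Nat.card G = p * q ^ orderOf (q : ZMod p) ∧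
      ∃ A : Subgroup G, A.Normal ∧ Nat.card ↥A = q ^ orderOf (q : ZMod p) ∧ Cfsg.IsElementaryAbelian q A ∧
        ∀ B : Subgroup G, B.Normal → B ≤ A → B = ⊥ ∨ B = A := by
  have := Fact.mk hq
  have hs := isSolvable_of_index N hidx hNq
  obtain ⟨h1, r, hr, h2⟩ := H1.Solv.minimal_normal_elementary hs N hNb hmin
  have hrq : r = q := by
    obtain ⟨x, hx1⟩ := ne_bot_iff_exists_ne_one.1 hNb
    have hxr : x ^ r = 1 := Subtype.ext (h2 x x.2)
    have := Fact.mk hr
    have ho : orderOf x = r := orderOf_eq_prime hxr hx1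
    obtain ⟨k, hk⟩ := hNq x
    have := orderOf_dvd_of_pow_eq_one hk
    rw [ho] at this
    exact (Nat.prime_dvd_prime_iff_eq hr hq).1 (hr.dvd_of_dvd_pow this)
  subst hrq
  have hA : Cfsg.IsElementaryAbelian r N := ⟨h1, h2⟩
  have h3 := card_of_min hr hpq hna N hA hidx hmin
  refine ⟨r, hr, hpq, ?_, N, hN, h3, hA, hmin⟩
  rw [← N.card_mul_index, h3, hidx, mul_comm]

/-- A proper subgroup containing a non-normal Sylow subgroup, `p`-closed case. -/
theorem le_normalizer_of_closed [Finite G] {p : ℕ} (P : Sylow p G) (K : Subgroup G)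
    (hPK : (P : Subgroup G) ≤ K) (hK : Cfsg.IsPClosed p K) : K ≤ normalizer ((P : Subgroup G) : Set G) := by
  have h1 := hK (P.subtype hPK)
  rw [Sylow.coe_subtype, normal_subgroupOf_iff_le_normalizer hPK] at h1
  exact h1

/-- In a group with no nontrivial normal `p`-subgroup, a `p`-closed normal subgroup is a `p'`-group. -/
theorem not_dvd_of_closed [Finite G] {p : ℕ} [hp : Fact p.Prime] 
    (hcore : ∀ R : Subgroup G, R.Normal → IsPGroup p R → R = ⊥) (N : Subgroup G) (hN : N.Normal)
    (hc : Cfsg.IsPClosed p N) : ¬ p ∣ Nat.card N := by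
  obtain ⟨P⟩ : Nonempty (Sylow p N) := inferInstance
  have h1 := hc P
  have h2 : (P : Subgroup N).Characteristic := P.characteristic_of_normal h1
  have h3 : ((P : Subgroup N).map N.subtype).Normal := inferInstance
  have h4 := hcore _ h3 (P.2.map N.subtype)
  rw [map_eq_bot_iff_of_injective _ N.subtype_injective] at h4
  intro hd
  have h5 := P.dvd_card_of_dvd_card hd
  rw [h4, card_bot] at h5
  exact hp.out.one_lt.ne' (Nat.dvd_one.1 h5)

/-- If `G/N` is a `p`-group and every proper normal subgroup above `N` is a `p'`-group then `N` has index `p`. -/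
theorem index_eq_of [Finite G] {p : ℕ} [hp : Fact p.Prime] (N : Subgroup G) [hN : N.Normal] (hNt : N ≠ ⊤)
    (hq : IsPGroup p (G ⧸ N)) (hpr : ∀ M : Subgroup G, M.Normal → N ≤ M → M ≠ ⊤ → ¬ p ∣ Nat.card M) :
    N.index = p := by
  have hnt : Nontrivial (G ⧸ N) := by
    rw [← Finite.one_lt_card_iff_nontrivial]
    have : Nat.card (G ⧸ N) ≠ 1 := fun h => hNt (index_eq_one.1 h)
    have := Nat.card_pos (α := G ⧸ N)
    omega
  have hnil := hq.isNilpotent
  obtain ⟨M', hM', -⟩ := (eq_top_or_exists_le_coatom (⊥ : Subgroup (G ⧸ N))).resolve_left bot_ne_top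
  have h1 := H1.Frat.index_eq_of_isCoatom hq hM'
  have h2 := H1.Frat.normal_of_isCoatom hM'
  set M := M'.comap (QuotientGroup.mk' N) with hM
  have hMi : M.index = p := by
    rw [hM, index_comap_of_surjective _ (QuotientGroup.mk'_surjective N), h1]
  have hMn : M.Normal := inferInstance
  have hNM : N ≤ M := QuotientGroup.le_comap_mk' N M'
  have hMt : M ≠ ⊤ := by
    intro h
    rw [h, index_top] at hMi
    exact hp.out.one_lt.ne hMi
  have h3 := hpr M hMn hNM hMt
  have h4 : N.relIndex M * M.index = N.index := relIndex_mul_index hNM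
  obtain ⟨k, hk⟩ := IsPGroup.iff_card.1 hq
  change N.index = p ^ k at hk
  have h5 : N.relIndex M ∣ p ^ k := by rw [← hk, ← h4]; exact dvd_mul_right _ _
  obtain ⟨l, -, hl⟩ := (Nat.dvd_prime_pow hp.out).1 h5
  have h6 : N.relIndex M ∣ Nat.card M := by
    have := (N.subgroupOf M).index_dvd_card
    exact this
  rcases Nat.eq_zero_or_pos l with h0 | h0
  · rw [← h4, hl, h0, pow_zero, one_mul, hMi]
  · exact absurd ((dvd_pow_self p h0.ne').trans (hl ▸ h6)) h3

theorem isPGroup_quotient_of_sup [Finite G] {p : ℕ} (N : Subgroup G) [hN : N.Normal] (P : Subgroup G)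
    (hP : IsPGroup p P) (h : N ⊔ P = ⊤) : IsPGroup p (G ⧸ N) := by
  have h1 := hP.map (QuotientGroup.mk' N)
  have h2 : P.map (QuotientGroup.mk' N) = ⊤ := by
    have h3 : (N ⊔ P).map (QuotientGroup.mk' N) = ⊤ := by
      rw [h, ← MonoidHom.range_eq_map, MonoidHom.range_eq_top]
      exact QuotientGroup.mk'_surjective N
    rwa [Subgroup.map_sup, QuotientGroup.map_mk'_self, bot_sup_eq] at h3
  rw [h2] at h1
  exact h1.of_equiv topEquiv

end H67.MinClosed
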