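import Mathlib
import Cfsg.Prelude
import Cfsg.Agent.Lib.H73.Nilp

set_option autoImplicit false

/-! Nilpotent minimal covers of groups with trivial centre and abelian Sylow subgroups. -/

namespace H67.NilCover

open Subgroup
open scoped Pointwise

variable {G : Type*} [Group G]

/-- a nilpotent minimal cover -/
def IsNilMin (𝓐 : Finset (Subgroup G)) : Prop :=
  ((∀ A ∈ 𝓐, A ≠ ⊤) ∧ (∀ g : G, ∃ A ∈ 𝓐, g ∈ A)) ∧
    (∀ 𝓑 : Finset (Subgroup G), (∀ A ∈ 𝓑, A ≠ ⊤) ∧ (∀ g : G, ∃ A ∈ 𝓑, g ∈ A) →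
      𝓐.card ≤ 𝓑.card) ∧
    (∀ A ∈ 𝓐, Group.IsNilpotent ↥A)

/-- a proper subgroup contains at most one member -/
theorem eq_of_le {𝓐 : Finset (Subgroup G)} (h : IsNilMin 𝓐) {M A B : Subgroup G} (hM : M ≠ ⊤)
    (hA : A ∈ 𝓐) (hB : B ∈ 𝓐) (hAM : A ≤ M) (hBM : B ≤ M) : A = B := by
  classical
  by_contra hne
  have hcard : (insert M ((𝓐.erase A).erase B)).card < 𝓐.card := by
    refine lt_of_le_of_lt (Finset.card_insert_le _ _) ?_
    have h1 : B ∈ 𝓐.erase A := Finset.mem_erase.2 ⟨fun h => hne h.symm, hB⟩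
    have h2 := Finset.card_erase_add_one h1
    have h3 := Finset.card_erase_add_one hA
    omega
  refine absurd (h.2.1 _ ⟨?_, ?_⟩) (not_le_of_gt hcard)
  · intro C hC
    rcases Finset.mem_insert.1 hC with rfl | hC
    · exact hM
    · exact h.1.1 C (Finset.mem_of_mem_erase (Finset.mem_of_mem_erase hC))
  · intro g
    obtain ⟨C, hC, hg⟩ := h.1.2 g
    by_cases h1 : C = A
    · exact ⟨M, Finset.mem_insert_self _ _, hAM (h1 ▸ hg)⟩
    by_cases h2 : C = B
    · exact ⟨M, Finset.mem_insert_self _ _, hBM (h2 ▸ hg)⟩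
    · exact ⟨C, Finset.mem_insert_of_mem (Finset.mem_erase.2 ⟨h2, Finset.mem_erase.2 ⟨h1, hC⟩⟩), hg⟩

/-- `p`-subgroups of a group with abelian Sylow `p`-subgroups are abelian -/
theorem comm_of_pgroup [Finite G] {p : ℕ} [Fact p.Prime] (P : Sylow p G)
    (hab : IsMulCommutative (P : Subgroup G)) {Q : Subgroup G} (hQ : IsPGroup p Q) {x y : G}
    (hx : x ∈ Q) (hy : y ∈ Q) : x * y = y * x := by
  obtain ⟨R, hR⟩ := hQ.exists_le_sylow
  obtain ⟨g, hg⟩ := MulAction.exists_smul_eq G P R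
  have hR' : (R : Subgroup G) = MulAut.conj g • (P : Subgroup G) := by rw [← hg]; rfl
  have hx' := hR hx
  have hy' := hR hy
  rw [hR', Subgroup.mem_pointwise_smul_iff_inv_smul_mem] at hx' hy'
  have h3 : (⟨_, hx'⟩ : (P : Subgroup G)) * ⟨_, hy'⟩ = ⟨_, hy'⟩ * ⟨_, hx'⟩ :=
    hab.is_comm.comm _ _
  have h4 := congrArg Subtype.val h3
  simp only [Subgroup.coe_mul, ← smul_mul'] at h4
  exact smul_left_cancel _ h4

/-- a nilpotent subgroup containing the `p`-element `z` centralizes `z` -/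
theorem le_centralizer [Finite G] {p : ℕ} [Fact p.Prime] (P : Sylow p G)
    (hab : IsMulCommutative (P : Subgroup G)) {A : Subgroup G} (hA : Group.IsNilpotent A) {z : G}
    (hz : z ∈ A) (hzp : ∃ k, orderOf z = p ^ k) : A ≤ centralizer {z} := by
  intro a ha
  rw [mem_centralizer_singleton_iff]
  have hp : p.Prime := Fact.out
  -- decompose a
  set s := (orderOf a).factorization p with hs
  set m := orderOf a / p ^ s with hm
  have hpos : 0 < orderOf a := orderOf_pos a
  have hfac : p ^ s * m = orderOf a := Nat.ordProj_mul_ordCompl_eq_self _ _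
  have hcop : Nat.Coprime (p ^ s) m :=
    (Nat.coprime_ordCompl hp hpos.ne').pow_left _
  -- `a ^ m` is a `p`-element, `a ^ (p ^ s)` a `p'`-element
  have h1 : (a ^ p ^ s) * z = z * (a ^ p ^ s) := by
    have hA' := hA
    have h2 : Commute (⟨z, hz⟩ : A) (⟨a, ha⟩ ^ p ^ s) := by
      apply H73.Nilp.commute_of_coprime (p := p)
      · obtain ⟨k, hk⟩ := hzp
        exact ⟨k, by rw [← hk, ← orderOf_coe]⟩
      · rw [← orderOf_coe]
        have : (((⟨a, ha⟩ : A) ^ p ^ s : A) : G) = a ^ p ^ s := rfl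
        rw [this, orderOf_pow_of_dvd (pow_pos hp.pos _).ne' ⟨m, hfac.symm⟩, ← hfac,
          Nat.mul_div_cancel_left _ (pow_pos hp.pos _)]
        exact (Nat.coprime_ordCompl hp hpos.ne').symm
    have h3 := congrArg Subtype.val h2.eq
    exact h3.symm
  have h2 : (a ^ m) * z = z * (a ^ m) := by
    -- `a^m` and `z` lie in the Sylow `p`-subgroup of `A`
    obtain ⟨k, hk⟩ := hzp
    obtain ⟨S⟩ : Nonempty (Sylow p A) := inferInstance
    have hSn := H73.Nilp.sylow_normal S
    have hmem : ∀ w : A, (∃ k, orderOf w = p ^ k) → w ∈ (S : Subgroup A) := by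
      rintro w ⟨k, hk⟩
      have h1 : IsPGroup p (zpowers w) := IsPGroup.of_card (n := k) (by rw [Nat.card_zpowers, hk])
      obtain ⟨T, hT⟩ := h1.exists_le_sylow
      have : T = S := by
        obtain ⟨g, hg⟩ := MulAction.exists_smul_eq A T S
        have := Sylow.smul_eq_of_normal (g := g⁻¹) (P := S)
        rw [← hg] at this ⊢
        rw [inv_smul_smul] at this
        exact this
      rw [← this]
      exact hT (mem_zpowers w)
    have hz' := hmem ⟨z, hz⟩ ⟨k, by rw [← hk, ← orderOf_coe]⟩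
    have ha' := hmem (⟨a, ha⟩ ^ m) ⟨s, by
      rw [← orderOf_coe]
      have : (((⟨a, ha⟩ : A) ^ m : A) : G) = a ^ m := rfl
      have hm0 : m ≠ 0 := by
        rintro h
        rw [h, mul_zero] at hfac
        omega
      rw [this, orderOf_pow_of_dvd hm0 ⟨p ^ s, by rw [← hfac, mul_comm]⟩, ← hfac,
          Nat.mul_div_cancel _ (Nat.pos_of_ne_zero hm0)]⟩
    have hQ : IsPGroup p ((S : Subgroup A).map A.subtype) := S.isPGroup'.map _
    exact comm_of_pgroup P hab hQ (mem_map_of_mem _ ha') (mem_map_of_mem _ hz')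
  -- Bezout
  have h3 : a ∈ centralizer {z} := by
    have e1 : a ^ p ^ s ∈ centralizer {z} := mem_centralizer_singleton_iff.2 h1
    have e2 : a ^ m ∈ centralizer {z} := mem_centralizer_singleton_iff.2 h2
    have h4 : ((1 : ℕ) : ℤ) = ((p ^ s : ℕ) : ℤ) * (p ^ s).gcdA m + (m : ℤ) * (p ^ s).gcdB m := by
      rw [← Nat.gcd_eq_gcd_ab, hcop]
    have h5 : a = (a ^ p ^ s) ^ ((p ^ s).gcdA m) * (a ^ m) ^ ((p ^ s).gcdB m) := by
      rw [← zpow_natCast a (p ^ s), ← zpow_natCast a m, ← zpow_mul, ← zpow_mul, ← zpow_add, ← h4]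
      simp
    rw [h5]
    exact mul_mem (zpow_mem e1 _) (zpow_mem e2 _)
  exact mem_centralizer_singleton_iff.1 h3

/-- nontrivial `p`-elements lie in a unique member -/
theorem eq_of_mem [Finite G] (hZ : center G = ⊥) {𝓐 : Finset (Subgroup G)} (h : IsNilMin 𝓐)
    {p : ℕ} [Fact p.Prime] (P : Sylow p G) (hab : IsMulCommutative (P : Subgroup G))
    {A B : Subgroup G} (hA : A ∈ 𝓐) (hB : B ∈ 𝓐) {z : G} (hz1 : z ≠ 1)
    (hzp : ∃ k, orderOf z = p ^ k) (hzA : z ∈ A) (hzB : z ∈ B) : A = B := by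
  refine eq_of_le h (M := centralizer {z}) ?_ hA hB (le_centralizer P hab (h.2.2 A hA) hzA hzp)
    (le_centralizer P hab (h.2.2 B hB) hzB hzp)
  intro hT
  apply hz1
  rw [← Subgroup.mem_bot, ← hZ, mem_center_iff]
  intro g
  have : g ∈ centralizer {z} := hT ▸ mem_top g
  exact mem_centralizer_singleton_iff.1 this

/-- dichotomy: `P` is elementary abelian noncyclic or contained in a member -/
theorem exists_member [Finite G] (hZ : center G = ⊥) {𝓐 : Finset (Subgroup G)} (h : IsNilMin 𝓐)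
    {p : ℕ} [Fact p.Prime] (P : Sylow p G) (hab : IsMulCommutative (P : Subgroup G))
    (hP1 : (P : Subgroup G) ≠ ⊥) :
    (Cfsg.IsElementaryAbelian p (P : Subgroup G) ∧ p < Nat.card (P : Subgroup G)) ∨
      ∃ A ∈ 𝓐, (P : Subgroup G) ≤ A := by
  have hp : p.Prime := Fact.out
  have hPo : ∀ x ∈ (P : Subgroup G), ∃ k, orderOf x = p ^ k := by
    intro x hx
    obtain ⟨k, hk⟩ := (IsPGroup.iff_orderOf.1 P.isPGroup') ⟨x, hx⟩
    exact ⟨k, by rw [← hk, ← orderOf_coe]⟩
  by_cases hel : Cfsg.IsElementaryAbelian p (P : Subgroup G)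
  · by_cases hc : p < Nat.card (P : Subgroup G)
    · exact Or.inl ⟨hel, hc⟩
    · right
      -- order p
      obtain ⟨n, hn⟩ := IsPGroup.iff_card.1 P.isPGroup'
      have hn1 : n ≠ 0 := by
        rintro rfl
        rw [pow_zero] at hn
        exact hP1 (Subgroup.card_eq_one.1 hn)
      have hcard : Nat.card (P : Subgroup G) = p := by
        apply le_antisymm (not_lt.1 hc)
        rw [hn]
        exact Nat.le_self_pow hn1 p
      obtain ⟨x, hx, hx1⟩ := (Subgroup.ne_bot_iff_exists_ne_one).1 hP1 |>.elim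
        (fun a ha => (⟨a.1, a.2, fun h => ha (Subtype.ext h)⟩ : ∃ x, x ∈ (P : Subgroup G) ∧ x ≠ 1))
      obtain ⟨A, hA, hxA⟩ := h.1.2 x
      refine ⟨A, hA, ?_⟩
      have h1 : zpowers x = (P : Subgroup G) := by
        apply Subgroup.eq_of_le_of_card_ge (by rw [zpowers_le]; exact hx)
        rw [hcard, Nat.card_zpowers]
        have h2 : orderOf x ∣ p := by
          rw [← hcard, ← Nat.card_zpowers]
          exact card_dvd_of_le (by rw [zpowers_le]; exact hx)
        rcases (Nat.dvd_prime hp).1 h2 with h3 | h3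
        · exact absurd (orderOf_eq_one_iff.1 h3) hx1
        · exact h3.ge
      rw [← h1, zpowers_le]
      exact hxA
  · right
    -- an element with x^p ≠ 1
    obtain ⟨x, hx, hxp⟩ : ∃ x ∈ (P : Subgroup G), x ^ p ≠ 1 := by
      by_contra hcon
      push Not at hcon
      apply hel
      exact ⟨hab, fun x hx => hcon x hx⟩
    obtain ⟨A, hA, hxA⟩ := h.1.2 x
    refine ⟨A, hA, ?_⟩
    have hstep : ∀ y ∈ (P : Subgroup G), y ^ p = 1 → y ∈ A := by
      intro y hy hyp
      obtain ⟨B, hB, hxyB⟩ := h.1.2 (x * y)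
      have hcomm : Commute x y := comm_of_pgroup P hab P.isPGroup' hx hy
      have h1 : (x * y) ^ p = x ^ p := by rw [hcomm.mul_pow, hyp, mul_one]
      have h2 : A = B := by
        refine eq_of_mem hZ h P hab hA hB hxp (hPo _ (pow_mem hx p)) (pow_mem hxA p) ?_
        rw [← h1]; exact pow_mem hxyB p
      have h3 : x * y ∈ A := h2 ▸ hxyB
      exact (mul_mem_cancel_left hxA).1 h3
    intro w hw
    by_cases hw1 : w = 1
    · rw [hw1]; exact one_mem _
    obtain ⟨B, hB, hwB⟩ := h.1.2 w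
    obtain ⟨k, hk⟩ := hPo w hw
    have hk0 : k ≠ 0 := by
      rintro rfl
      rw [pow_zero, orderOf_eq_one_iff] at hk
      exact hw1 hk
    have h1 : (w ^ p ^ (k - 1)) ^ p = 1 := by
      rw [← pow_mul, ← pow_succ, show k - 1 + 1 = k by omega, ← hk, pow_orderOf_eq_one]
    have h2 : w ^ p ^ (k - 1) ≠ 1 := by
      intro h3
      have h4 := orderOf_dvd_of_pow_eq_one h3
      rw [hk, Nat.pow_dvd_pow_iff_le_right hp.one_lt] at h4
      omega
    have h3 : w ^ p ^ (k - 1) ∈ (P : Subgroup G) := pow_mem hw _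
    have h4 := eq_of_mem hZ h P hab hA hB h2 (hPo _ h3) (hstep _ h3 h1) (pow_mem hwB _)
    rw [h4]; exact hwB

theorem mem_sylow_of_mem_normalizer [Finite G] {p : ℕ} [Fact p.Prime] (P : Sylow p G) {x : G}
    (hx : x ∈ normalizer ((P : Subgroup G) : Set G)) (hxp : ∃ k, orderOf x = p ^ k) :
    x ∈ (P : Subgroup G) := by
  obtain ⟨k, hk⟩ := hxp
  have h1 : IsPGroup p (zpowers x) := IsPGroup.of_card (n := k) (by rw [Nat.card_zpowers, hk])
  have h2 : IsPGroup p ((P : Subgroup G) ⊔ zpowers x : Subgroup G) := by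
    rw [sup_comm]
    exact h1.to_sup_of_normal_right' P.isPGroup' (by rw [zpowers_le]; exact hx)
  have h3 : ((P : Subgroup G) ⊔ zpowers x : Subgroup G) = (P : Subgroup G) :=
    P.is_maximal' h2 le_sup_left
  rw [← h3]
  exact (le_sup_right : zpowers x ≤ _) (mem_zpowers x)

/-- if `P ≤ A` then `C_G(P) = A` -/
theorem centralizer_eq [Finite G] (hZ : center G = ⊥) {𝓐 : Finset (Subgroup G)} (h : IsNilMin 𝓐)
    {p : ℕ} [Fact p.Prime] (P : Sylow p G) (hab : IsMulCommutative (P : Subgroup G))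
    (hP1 : (P : Subgroup G) ≠ ⊥) {A : Subgroup G} (hA : A ∈ 𝓐) (hPA : (P : Subgroup G) ≤ A) :
    centralizer ((P : Subgroup G) : Set G) = A := by
  have hp : p.Prime := Fact.out
  have hPo : ∀ x ∈ (P : Subgroup G), ∃ k, orderOf x = p ^ k := by
    intro x hx
    obtain ⟨k, hk⟩ := (IsPGroup.iff_orderOf.1 P.isPGroup') ⟨x, hx⟩
    exact ⟨k, by rw [← hk, ← orderOf_coe]⟩
  apply le_antisymm
  · intro c hc
    obtain ⟨x, hx, hx1⟩ : ∃ x, x ∈ (P : Subgroup G) ∧ x ≠ 1 := by
      obtain ⟨a, ha⟩ := (Subgroup.ne_bot_iff_exists_ne_one).1 hP1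
      exact ⟨a.1, a.2, fun h => ha (Subtype.ext h)⟩
    -- decompose c
    set s := (orderOf c).factorization p with hs
    set m := orderOf c / p ^ s with hm
    have hpos : 0 < orderOf c := orderOf_pos c
    have hfac : p ^ s * m = orderOf c := Nat.ordProj_mul_ordCompl_eq_self _ _
    have hcop : Nat.Coprime (p ^ s) m := (Nat.coprime_ordCompl hp hpos.ne').pow_left _
    have hm0 : m ≠ 0 := by
      rintro h
      rw [h, mul_zero] at hfac
      omega
    have h1 : c ^ m ∈ A := by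
      apply hPA
      apply mem_sylow_of_mem_normalizer P
      · exact pow_mem (centralizer_le_normalizer _ hc) _
      · exact ⟨s, by
          rw [orderOf_pow_of_dvd hm0 ⟨p ^ s, by rw [← hfac, mul_comm]⟩, ← hfac,
            Nat.mul_div_cancel _ (Nat.pos_of_ne_zero hm0)]⟩
    have h2 : c ^ p ^ s ∈ A := by
      obtain ⟨B, hB, hxB⟩ := h.1.2 (x * c ^ p ^ s)
      have hcomm : Commute x (c ^ p ^ s) := by
        have := mem_centralizer_iff.1 (pow_mem hc (p ^ s)) x hx
        exact this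
      have ho : orderOf (c ^ p ^ s) = m := by
        rw [orderOf_pow_of_dvd (pow_pos hp.pos _).ne' ⟨m, hfac.symm⟩, ← hfac,
          Nat.mul_div_cancel_left _ (pow_pos hp.pos _)]
      obtain ⟨k, hk⟩ := hPo x hx
      have hcop2 : Nat.Coprime (orderOf x) m := by
        rw [hk]; exact (Nat.coprime_ordCompl hp hpos.ne').pow_left _
      -- x is a power of x * c'
      have h3 : (x * c ^ p ^ s) ^ m = x ^ m := by
        rw [hcomm.mul_pow]
        have : (c ^ p ^ s) ^ m = 1 := by rw [← pow_mul, hfac, pow_orderOf_eq_one]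
        rw [this, mul_one]
      have h4 : x ^ m ∈ B := by rw [← h3]; exact pow_mem hxB m
      have h5 : x ∈ B := by
        obtain ⟨j, hj⟩ := exists_pow_eq_self_of_coprime (x := x) (n := m) hcop2.symm
        rw [← hj]; exact pow_mem h4 j
      have h6 : A = B := eq_of_mem hZ h P hab hA hB hx1 (hPo x hx) (hPA hx) h5
      rw [h6]
      exact (mul_mem_cancel_left h5).1 hxB
    have h4 : ((1 : ℕ) : ℤ) = ((p ^ s : ℕ) : ℤ) * (p ^ s).gcdA m + (m : ℤ) * (p ^ s).gcdB m := by
      rw [← Nat.gcd_eq_gcd_ab, hcop]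
    have h5 : c = (c ^ p ^ s) ^ ((p ^ s).gcdA m) * (c ^ m) ^ ((p ^ s).gcdB m) := by
      rw [← zpow_natCast c (p ^ s), ← zpow_natCast c m, ← zpow_mul, ← zpow_mul, ← zpow_add, ← h4]
      simp
    rw [h5]
    exact mul_mem (zpow_mem h2 _) (zpow_mem h1 _)
  · intro a ha
    rw [mem_centralizer_iff]
    intro x hx
    have := le_centralizer P hab (h.2.2 A hA) (hPA hx) (hPo x hx) ha
    exact (mem_centralizer_singleton_iff.1 this).symm

theorem conj_sylow_ne_bot [Finite G] {p : ℕ} [Fact p.Prime] (P : Sylow p G) (g : G)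
    (h : (P : Subgroup G) ≠ ⊥) : ((g • P : Sylow p G) : Subgroup G) ≠ ⊥ := by
  intro h1
  apply h
  rw [← Subgroup.card_eq_one]
  have h2 : Nat.card ((g • P : Sylow p G) : Subgroup G) = Nat.card (P : Subgroup G) :=
    Nat.card_congr (Sylow.equiv _ _).toEquiv
  rw [← h2, h1, Subgroup.card_bot]

theorem conj_comm [Finite G] {p : ℕ} [Fact p.Prime] (P : Sylow p G)
    (hab : IsMulCommutative (P : Subgroup G)) (R : Sylow p G) :
    IsMulCommutative (R : Subgroup G) :=
  ⟨⟨fun a b => Subtype.ext (comm_of_pgroup P hab R.isPGroup' a.2 b.2)⟩⟩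

/-- all Sylow subgroups are in members, if one is and the Sylow subgroups are not noncyclic elementary -/
theorem main [Finite G] (hZ : center G = ⊥) {𝓐 : Finset (Subgroup G)} (h : IsNilMin 𝓐)
    {p : ℕ} [Fact p.Prime] (P : Sylow p G) (hab : IsMulCommutative (P : Subgroup G))
    (hnn : ¬ (P : Subgroup G).Normal)
    (hne : ¬ (Cfsg.IsElementaryAbelian p (P : Subgroup G) ∧ p < Nat.card (P : Subgroup G))) :
    (∃ A ∈ 𝓐, (P : Subgroup G) ≤ A ∧ centralizer ((P : Subgroup G) : Set G) = A) ∧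
    IsCoatom (normalizer ((P : Subgroup G) : Set G)) ∧
    (∀ M : Subgroup G, M ≠ ⊤ → centralizer ((P : Subgroup G) : Set G) ≤ M →
      M ≤ normalizer ((P : Subgroup G) : Set G)) ∧
    (∀ R : Sylow p G, R ≠ P → ∀ x ∈ (P : Subgroup G), x ∈ (R : Subgroup G) → x = 1) := by
  have hP1 : (P : Subgroup G) ≠ ⊥ := by
    intro h1; apply hnn; rw [h1]; infer_instance
  -- every Sylow subgroup is in a member
  have hall : ∀ R : Sylow p G, ∃ A ∈ 𝓐, (R : Subgroup G) ≤ A ∧
      centralizer ((R : Subgroup G) : Set G) = A := by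
    intro R
    have hRab := conj_comm P hab R
    have hcard : Nat.card (R : Subgroup G) = Nat.card (P : Subgroup G) := Nat.card_congr (Sylow.equiv _ _).toEquiv
    have hR1 : (R : Subgroup G) ≠ ⊥ := by
      intro h1
      apply hP1
      rw [← Subgroup.card_eq_one, ← hcard, h1, Subgroup.card_bot]
    rcases exists_member hZ h R hRab hR1 with ⟨h1, h2⟩ | ⟨A, hA, hRA⟩
    · exfalso
      apply hne
      refine ⟨⟨hab, ?_⟩, by rwa [← hcard]⟩
      intro x hx
      obtain ⟨g, hg⟩ := MulAction.exists_smul_eq G P R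
      have h3 : MulAut.conj g • x ∈ (R : Subgroup G) := by
        rw [← hg]
        exact smul_mem_pointwise_smul x (MulAut.conj g) (P : Subgroup G) hx
      have h4 := h1.2 _ h3
      rw [← smul_pow', smul_eq_iff_eq_inv_smul, smul_one] at h4
      exact h4
    · exact ⟨A, hA, hRA, centralizer_eq hZ h R hRab hR1 hA hRA⟩
  have hPo : ∀ x ∈ (P : Subgroup G), ∃ k, orderOf x = p ^ k := by
    intro x hx
    obtain ⟨k, hk⟩ := (IsPGroup.iff_orderOf.1 P.isPGroup') ⟨x, hx⟩
    exact ⟨k, by rw [← hk, ← orderOf_coe]⟩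
  -- different Sylow subgroups are in different members
  have hdiff : ∀ R S : Sylow p G, ∀ A : Subgroup G, A ∈ 𝓐 → (R : Subgroup G) ≤ A →
      (S : Subgroup G) ≤ A → R = S := by
    intro R S A hA hRA hSA
    have hn := h.2.2 A hA
    have h1 := H73.Nilp.sylow_normal (R.subtype hRA)
    have h2 : (R.subtype hRA) = (S.subtype hSA) := by
      obtain ⟨g, hg⟩ := MulAction.exists_smul_eq A (R.subtype hRA) (S.subtype hSA)
      rw [← hg, Sylow.smul_eq_of_normal]
    exact Sylow.subtype_injective h2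
  have hN : normalizer ((P : Subgroup G) : Set G) ≠ ⊤ := by
    intro h1; exact hnn (normalizer_eq_top_iff.1 h1)
  obtain ⟨A, hA, hPA, hCA⟩ := hall P
  have key : ∀ M : Subgroup G, M ≠ ⊤ → centralizer ((P : Subgroup G) : Set G) ≤ M →
      M ≤ normalizer ((P : Subgroup G) : Set G) := by
    intro M hM hCM m hm
    obtain ⟨B, hB, hPB, hCB⟩ := hall (m • P)
    have h1 : ((m • P : Sylow p G) : Subgroup G) = MulAut.conj m • (P : Subgroup G) := rfl
    have hBM : B ≤ M := by
      rw [← hCB]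
      intro c hc
      have h2 : m⁻¹ * c * m ∈ centralizer ((P : Subgroup G) : Set G) := by
        rw [mem_centralizer_iff]
        intro x hx
        have hx' : m * x * m⁻¹ ∈ ((m • P : Sylow p G) : Subgroup G) := by
          rw [h1]
          exact smul_mem_pointwise_smul x (MulAut.conj m) (P : Subgroup G) hx
        have h3 := mem_centralizer_iff.1 hc _ hx'
        calc x * (m⁻¹ * c * m) = m⁻¹ * ((m * x * m⁻¹) * c) * m := by group
          _ = m⁻¹ * (c * (m * x * m⁻¹)) * m := by rw [h3]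
          _ = m⁻¹ * c * m * x := by group
      have h4 := mul_mem (mul_mem hm (hCM h2)) (inv_mem hm)
      have h5 : m * (m⁻¹ * c * m) * m⁻¹ = c := by group
      rwa [h5] at h4
    have h2 : A = B := eq_of_le h hM hA hB (hCA ▸ hCM) hBM
    have h3 : (m • P : Sylow p G) = P := hdiff _ _ A hA (h2 ▸ hPB) hPA
    exact Sylow.smul_eq_iff_mem_normalizer.1 h3
  refine ⟨⟨A, hA, hPA, hCA⟩, ⟨hN, ?_⟩, key, ?_⟩
  · intro M hM
    by_contra hMT
    exact absurd (key M hMT ((centralizer_le_normalizer _).trans hM.le)) (not_le_of_gt hM)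
  · intro R hR x hx hxR
    by_contra hx1
    obtain ⟨B, hB, hRB, -⟩ := hall R
    have h1 := eq_of_mem hZ h P hab hA hB hx1 (hPo x hx) (hPA hx) (hRB hxR)
    exact hR (hdiff R P A hA (h1 ▸ hRB) hPA)

end H67.NilCover
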