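import Mathlib
import Cfsg.Prelude.Def_LocalStructure
import Cfsg.Agent.Lib.H6.SLCard

set_option autoImplicit false

/-! Examples of groups with non-normal Sylow `p`-subgroups. -/

namespace H67.NonClosed

open Cfsg

theorem not_isPClosed {G : Type*} [Group G] [Finite G] {p n : ℕ} [hp : Fact p.Prime]
    (hG : Nat.card G = p * n) (hn : ¬ p ∣ n) {x y : G} (hx : x ^ p = 1) (hy : y ^ p = 1)
    (hxy : x * y ≠ y * x) : ¬ Cfsg.IsPClosed p G := by
  intro hcl
  let P : Sylow p G := default
  have hPn : (P : Subgroup G).Normal := hcl P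
  have hcP : Nat.card P = p := by
    rw [P.card_eq_multiplicity, hG, Nat.factorization_mul hp.out.ne_zero
      (fun h => hn (by rw [h]; exact dvd_zero _)), Finsupp.add_apply, hp.out.factorization_self,
      Nat.factorization_eq_zero_of_not_dvd hn, pow_one]
  have hmem : ∀ z : G, z ^ p = 1 → z ∈ (P : Subgroup G) := by
    intro z hz
    have h1 : IsPGroup p (Subgroup.zpowers z) := by
      apply IsPGroup.of_card_dvd_pow (n := 1)
      rw [Nat.card_zpowers, pow_one]
      exact orderOf_dvd_of_pow_eq_one hz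
    obtain ⟨Q, hQ⟩ := h1.exists_le_sylow
    have h2 : Q = P := by
      have := Sylow.unique_of_normal P hPn
      exact Subsingleton.elim _ _
    rw [← h2]
    exact hQ (Subgroup.mem_zpowers z)
  have hcyc : IsCyclic (P : Subgroup G) := isCyclic_of_prime_card hcP
  apply hxy
  have h0 : IsMulCommutative (P : Subgroup G) := IsCyclic.isMulCommutative
  have h1 := h0.is_comm.comm (⟨x, hmem x hx⟩ : (P : Subgroup G)) ⟨y, hmem y hy⟩
  exact congrArg Subtype.val h1

theorem aux_conj {G : Type*} [Group G] (b x : G) : b * x * b⁻¹ = (b * (x * b⁻¹ * x⁻¹)) * x := by group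

/-- multiplications -/
def mulHom (F : Type*) [Field F] : Fˣ →* MulAut (Multiplicative F) where
  toFun u :=
    { toFun := fun f => Multiplicative.ofAdd ((u : F) * Multiplicative.toAdd f)
      invFun := fun f => Multiplicative.ofAdd (((u⁻¹ : Fˣ) : F) * Multiplicative.toAdd f)
      left_inv := fun f => by
        apply Multiplicative.toAdd.injective
        simp
      right_inv := fun f => by
        apply Multiplicative.toAdd.injective
        simp
      map_mul' := fun a b => by
        apply Multiplicative.toAdd.injective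
        simp [mul_add] }
  map_one' := by
    ext f
    apply Multiplicative.toAdd.injective
    simp
  map_mul' u v := by
    ext f
    apply Multiplicative.toAdd.injective
    simp [mul_assoc]

theorem mulHom_apply {F : Type*} [Field F] (u : Fˣ) (f : Multiplicative F) :
    mulHom F u f = Multiplicative.ofAdd ((u : F) * Multiplicative.toAdd f) := rfl

/-- the affine group -/
theorem exists_affine {p m : ℕ} [hp : Fact p.Prime] (hm : IsPrimePow m) (hm1 : m % p = 1) :
    ∃ (H : Type) (_ : Group H) (_ : Finite H), Nat.card H = p * m ∧ ¬ Cfsg.IsPClosed p H := by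
  classical
  obtain ⟨q, a, hq, ha, rfl⟩ := hm
  have hq' : q.Prime := hq.nat_prime
  have := Fact.mk hq'
  let F := GaloisField q a
  have hcF : Nat.card F = q ^ a := GaloisField.card q a ha.ne'
  let _ : Fintype F := Fintype.ofFinite F
  have hcU : Nat.card Fˣ = q ^ a - 1 := by rw [Nat.card_units, hcF]
  have hpm : p ∣ q ^ a - 1 := by
    have h1 : 1 ≤ q ^ a := Nat.pos_of_ne_zero (pow_ne_zero _ hq'.ne_zero)
    rw [← Nat.modEq_iff_dvd' h1]
    rw [Nat.ModEq, hm1, Nat.mod_eq_of_lt hp.out.one_lt]
  obtain ⟨z, hz⟩ := exists_prime_orderOf_dvd_card' (G := Fˣ) p (by rw [hcU]; exact hpm)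
  let φ : Subgroup.zpowers z →* MulAut (Multiplicative F) :=
    (mulHom F).comp (Subgroup.zpowers z).subtype
  let H := Multiplicative F ⋊[φ] Subgroup.zpowers z
  have hfin : Finite H := Finite.of_equiv _ (SemidirectProduct.equivProd (φ := φ)).symm
  have hcard : Nat.card H = p * q ^ a := by
    rw [SemidirectProduct.card, Nat.card_zpowers, hz, mul_comm]
    congr 1
  refine ⟨H, inferInstance, hfin, hcard, ?_⟩
  have hz1 : (z : F) ≠ 1 := by
    intro h
    have h1 : z = 1 := Units.ext h
    rw [h1, orderOf_one] at hz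
    exact hp.out.one_lt.ne hz
  have hn : ¬ p ∣ q ^ a := by
    intro h
    rw [Nat.mod_eq_zero_of_dvd h] at hm1
    exact zero_ne_one hm1
  let z' : Subgroup.zpowers z := ⟨z, Subgroup.mem_zpowers z⟩
  have hz' : z' ^ p = 1 := by
    apply Subtype.ext
    rw [Subgroup.coe_pow]
    change z ^ p = 1
    rw [← hz, pow_orderOf_eq_one]
  let x : H := SemidirectProduct.inr z'
  let b : H := SemidirectProduct.inl (Multiplicative.ofAdd (1 : F))
  have hx : x ^ p = 1 := by
    change (SemidirectProduct.inr z' : H) ^ p = 1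
    rw [← map_pow, hz', map_one]
  apply not_isPClosed hcard hn hx (y := b * x * b⁻¹) (by rw [conj_pow, hx, mul_one, mul_inv_cancel])
  intro h
  have hc : ∀ n : Multiplicative F, x * SemidirectProduct.inl n * x⁻¹ =
      (SemidirectProduct.inl (φ z' n) : H) := by
    intro n
    rw [SemidirectProduct.inl_aut, ← map_inv]
  have e1 : b * x * b⁻¹ = (b * (x * b⁻¹ * x⁻¹)) * x := aux_conj b x
  have e0 : b⁻¹ = (SemidirectProduct.inl (Multiplicative.ofAdd (-1 : F)) : H) := by
    rw [← map_inv]
    rfl
  have e2 : x * b⁻¹ * x⁻¹ = (SemidirectProduct.inl (φ z' (Multiplicative.ofAdd (-1 : F))) : H) := by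
    rw [← hc, e0]
  set d : H := b * (x * b⁻¹ * x⁻¹) with hd
  have hd' : d = (SemidirectProduct.inl (Multiplicative.ofAdd (1 - (z : F))) : H) := by
    rw [hd, e2]
    change SemidirectProduct.inl (Multiplicative.ofAdd (1 : F)) * _ = _
    rw [← map_mul]
    congr 1
    apply Multiplicative.toAdd.injective
    rw [toAdd_mul]
    change (1 : F) + (z : F) * (-1) = 1 - z
    ring
  have e3 : x * d * x⁻¹ = d := by
    rw [e1] at h
    have h1 : x * d * x = d * x * x := by
      rw [mul_assoc, h]
    have h2 := mul_right_cancel h1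
    rw [h2, mul_inv_cancel_right]
  rw [hd', hc] at e3
  have e4 := SemidirectProduct.inl_injective e3
  have e5 : (z : F) * (1 - z) = 1 - z := congrArg Multiplicative.toAdd e4
  have e6 : (1 - (z : F)) * (1 - z) = 0 := by linear_combination (-1 : F) * e5
  exact hz1 (sub_eq_zero.1 (mul_self_eq_zero.1 e6)).symm

open Matrix in
/-- the projective special linear group -/
theorem exists_psl {p : ℕ} [hp : Fact p.Prime] (hp2 : p ≠ 2) :
    ∃ (H : Type) (_ : Group H) (_ : Finite H), Nat.card H = p * (p ^ 2 - 1) / 2 ∧ ¬ Cfsg.IsPClosed p H := by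
  classical
  have hpodd : Odd p := hp.out.odd_of_ne_two hp2
  obtain ⟨k, hk⟩ := hpodd
  have hk0 : 0 < k := by
    have := hp.out.two_le
    omega
  let H := Matrix.ProjectiveSpecialLinearGroup (Fin 2) (ZMod p)
  have h1 := H6.SLCard.card_psl (F := ZMod p) (n := 2) (by norm_num)
  rw [ZMod.card, Fin.prod_univ_two] at h1
  have h2 : Nat.gcd 2 (p - 1) = 2 := by
    rw [Nat.gcd_eq_left]
    exact ⟨k, by omega⟩
  rw [h2] at h1
  simp only [Fin.val_zero, Fin.val_one, pow_zero, pow_one] at h1
  have hp1 : p - 1 = 2 * k := by omega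
  have hcard : Nat.card H = p * (2 * (k * (k + 1))) := by
    rw [hp1] at h1
    have h3 : p ^ 2 - 1 = (2 * k) * (2 * (k + 1)) := by
      rw [hk]
      zify [show 1 ≤ (2 * k + 1) ^ 2 from Nat.one_le_pow _ _ (by omega)]
      ring
    have h4 : p ^ 2 - p = (2 * k) * p := by
      rw [pow_two, ← Nat.sub_one_mul, hp1]
    rw [h3, h4] at h1
    have h5 : (2 * (2 * k)) * Nat.card H = (2 * (2 * k)) * (p * (2 * (k * (k + 1)))) := by
      rw [mul_assoc, h1]; ring
    exact Nat.eq_of_mul_eq_mul_left (by omega) h5
  have hn : ¬ p ∣ 2 * (k * (k + 1)) := by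
    intro h
    have h3 : p ∣ 2 ∨ p ∣ k ∨ p ∣ k + 1 := by
      rcases (hp.out.dvd_mul).1 h with h4 | h4
      · exact Or.inl h4
      · exact Or.inr ((hp.out.dvd_mul).1 h4)
    rcases h3 with h3 | h3 | h3
    · have := Nat.le_of_dvd (by norm_num) h3
      have := hp.out.two_le
      omega
    · have := Nat.le_of_dvd hk0 h3
      omega
    · have := Nat.le_of_dvd (by omega) h3
      omega
  have hfin : Finite H := Nat.finite_of_card_ne_zero (by
    rw [hcard]
    have := hp.out.pos
    positivity)
  refine ⟨H, inferInstance, hfin, ?_, ?_⟩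
  · rw [hcard]
    have h3 : p ^ 2 - 1 = 2 * (2 * (k * (k + 1))) := by
      rw [hk]
      zify [show 1 ≤ (2 * k + 1) ^ 2 from Nat.one_le_pow _ _ (by omega)]
      ring
    rw [h3, Nat.mul_left_comm p 2 (2 * (k * (k + 1))), Nat.mul_div_cancel_left _ (by norm_num)]
  · -- the two unipotent elements
    let u : SpecialLinearGroup (Fin 2) (ZMod p) := ⟨!![1, 1; 0, 1], by rw [Matrix.det_fin_two_of]; ring⟩
    let v : SpecialLinearGroup (Fin 2) (ZMod p) := ⟨!![1, 0; 1, 1], by rw [Matrix.det_fin_two_of]; ring⟩
    have hu : ∀ n : ℕ, (u ^ n).1 = !![1, (n : ZMod p); 0, 1] := by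
      intro n
      induction n with
      | zero =>
        rw [pow_zero, Nat.cast_zero]
        change (1 : Matrix (Fin 2) (Fin 2) (ZMod p)) = _
        ext i j; fin_cases i <;> fin_cases j <;> simp
      | succ n ih =>
        have e : (u ^ (n + 1)).1 = (u ^ n).1 * !![1, 1; 0, 1] := by rw [pow_succ]; rfl
        rw [e, ih]
        ext i j
        fin_cases i <;> fin_cases j <;> simp [Matrix.mul_apply, Fin.sum_univ_two, add_comm]
    have hv : ∀ n : ℕ, (v ^ n).1 = !![1, 0; (n : ZMod p), 1] := by
      intro n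
      induction n with
      | zero =>
        rw [pow_zero, Nat.cast_zero]
        change (1 : Matrix (Fin 2) (Fin 2) (ZMod p)) = _
        ext i j; fin_cases i <;> fin_cases j <;> simp
      | succ n ih =>
        have e : (v ^ (n + 1)).1 = (v ^ n).1 * !![1, 0; 1, 1] := by rw [pow_succ]; rfl
        rw [e, ih]
        ext i j
        fin_cases i <;> fin_cases j <;> simp [Matrix.mul_apply, Fin.sum_univ_two, add_comm]
    have hup : u ^ p = 1 := by
      apply Subtype.ext
      rw [hu, CharP.cast_eq_zero]
      change _ = (1 : Matrix (Fin 2) (Fin 2) (ZMod p))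
      ext i j
      fin_cases i <;> fin_cases j <;> simp
    have hvp : v ^ p = 1 := by
      apply Subtype.ext
      rw [hv, CharP.cast_eq_zero]
      change _ = (1 : Matrix (Fin 2) (Fin 2) (ZMod p))
      ext i j
      fin_cases i <;> fin_cases j <;> simp
    let π := QuotientGroup.mk' (Subgroup.center (SpecialLinearGroup (Fin 2) (ZMod p)))
    apply not_isPClosed hcard hn (x := π u) (y := π v)
    · rw [← map_pow, hup, map_one]
    · rw [← map_pow, hvp, map_one]
    · intro h
      rw [← map_mul, ← map_mul] at h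
      have h3 := QuotientGroup.eq.1 h
      obtain ⟨r, _, hr⟩ := Matrix.SpecialLinearGroup.mem_center_iff.1 h3
      have h4 : (v * u).1 = (u * v).1 * Matrix.scalar (Fin 2) r := by
        rw [hr]
        have h5 : v * u = (u * v) * ((u * v)⁻¹ * (v * u)) := by group
        exact congrArg Subtype.val h5
      have h6 : (v * u).1 = !![1, 0; 1, 1] * !![1, 1; 0, 1] := rfl
      have h7 : (u * v).1 = !![1, 1; 0, 1] * !![1, 0; 1, 1] := rfl
      rw [h6, h7] at h4
      have h8 := congrFun (congrFun h4 0) 1
      have h9 := congrFun (congrFun h4 0) 0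
      simp [Matrix.mul_apply, Fin.sum_univ_two, Matrix.scalar_apply] at h8 h9
      rw [← h8] at h9
      have h10 : (1 : ZMod p) = 0 := by linear_combination (-1 : ZMod p) * h9
      exact one_ne_zero h10

end H67.NonClosed
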