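import Cfsg.Agent.Lib.H67.P5e

/-! S4100, piece P5, part 6: the elements of `A₁₀`. -/

set_option autoImplicit false

namespace H67.P5.Con

open Equiv Equiv.Perm

abbrev G := alternatingGroup (Fin 10)

def d (i j k l : Fin 10) (h1 : i ≠ j := by decide) (h2 : k ≠ l := by decide) : G :=
  ⟨swap i j * swap k l, by simp [mem_alternatingGroup, sign_swap h1, sign_swap h2]⟩

def a : G := d 0 1 1 2 * d 2 3 3 4
def t : G := d 1 4 2 3
def s : G := d 1 2 3 4
def c : G := d 1 2 2 3
def b : G := d 5 6 6 7 * d 7 8 8 9
def t_ : G := d 6 9 7 8
def s_ : G := d 6 7 8 9
def c_ : G := d 6 7 7 8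
def x : G := d 0 5 5 6
def y : G := d 7 8 8 9
def τ : G := d 0 5 7 8
def sw : G := d 1 6 2 7 * d 3 8 4 9
def gτ : G := d 0 6 5 9
def gs : G := d 7 8 8 9
def gst : G := d 7 9 9 8
def ax : G := d 0 5 5 6 * d 6 7 7 8
def tx : G := d 5 8 6 7
def sx : G := d 5 6 7 8
def vx : G := d 0 7 5 8
def gx : G := d 0 9 9 7 * d 7 8 8 5
def px : G := d 0 6 5 9 * d 9 7 7 8
def qx : G := d 0 6 5 9 * d 9 8 8 7
def ay : G := d 0 5 5 7 * d 7 8 8 9
def ty : G := d 0 9 5 8
def sy : G := d 0 5 8 9
def vy : G := d 0 7 5 8
def gy : G := d 0 6 6 5 * d 5 7 8 9
def py : G := d 0 6 5 9 * d 9 7 7 8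
def qy : G := d 0 6 5 9 * d 9 8 8 7
def axy : G := d 0 6 6 9 * d 9 5 5 7
def txy : G := d 0 7 5 6
def sxy : G := d 5 6 8 9
def vxy : G := d 6 9 7 8
def gxy : G := d 0 8 8 6 * d 5 9 9 7
def pxy : G := 1
def qxy : G := d 0 7 7 6 * d 5 8 8 9
def axy2 : G := d 0 6 6 9 * d 9 5 5 8
def txy2 : G := d 0 8 5 6
def sxy2 : G := d 5 6 7 9
def vxy2 : G := d 6 9 7 8
def gxy2 : G := d 0 7 7 8 * d 5 9 9 6
def pxy2 : G := 1
def qxy2 : G := d 0 7 7 6 * d 5 8 8 9

set_option maxRecDepth 20000
set_option maxHeartbeats 1000000

theorem relA : RelV a t s c :=
  { a5 := by decide, t2 := by decide, s2 := by decide, ts := by decide, ta1 := by decide, ta2 := by decide, ta3 := by decide, ta4 := by decide, h1 := by decide, h2 := by decide, h3 := by decide, h4 := by decide, c3 := by decide, sc := by decide, tc := by decide, k1 := by decide, k2 := by decide, k3 := by decide, k4 := by decide, v1 := by decide, v2 := by decide, v3 := by decide, v4 := by decide, r01 := by decide, r02 := by decide, r03 := by decide, r04 := by decide, r11 := by decide, r12 := by decide, r13 := by decide, r14 := by decide, r21 := by decide, r22 := by decide,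 r23 := by decide, r24 := by decide, r31 := by decide, r32 := by decide, r33 := by decide, r34 := by decide, r41 := by decide, r42 := by decide, r43 := by decide, r44 := by decide }

theorem relB : RelV b t_ s_ c_ :=
  { a5 := by decide, t2 := by decide, s2 := by decide, ts := by decide, ta1 := by decide, ta2 := by decide, ta3 := by decide, ta4 := by decide, h1 := by decide, h2 := by decide, h3 := by decide, h4 := by decide, c3 := by decide, sc := by decide, tc := by decide, k1 := by decide, k2 := by decide, k3 := by decide, k4 := by decide, v1 := by decide, v2 := by decide, v3 := by decide, v4 := by decide, r01 := by decide, r02 := by decide, r03 := by decide, r04 := by decide, r11 := by decide, r12 := by decide, r13 := by decide, r14 := by decide, r21 := by decide, r22 := by decide, r23 := by decide, r24 := by decide, r31 := by decide, r32 := by decide, r33 := by decide, r34 := by decide, r41 := by decide, r42 := by decide, r43 := by decide, r44 := by decide }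

theorem relD : Rel (a * b) (t * t_) (s * s_) :=
  { a5 := by decide, t2 := by decide, s2 := by decide, ts := by decide, ta1 := by decide, ta2 := by decide, ta3 := by decide, ta4 := by decide, h1 := by decide, h2 := by decide, h3 := by decide, h4 := by decide }

theorem two : Two a t s b t_ s_ where
  A := relA.toRel
  B := relB.toRel
  D := relD
  ab := by decide
  at' := by decide
  as' := by decide
  tb := by decide
  tt' := by decide
  ts' := by decide
  sb := by decide
  st' := by decide
  ss' := by decide

theorem emb_x : Emb b t_ ax tx sx x τ vx gx px qx 3 2 :=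
  { a5 := by decide, t2 := by decide, s2 := by decide, ts := by decide, ta1 := by decide, ta2 := by decide, ta3 := by decide, ta4 := by decide, h1 := by decide, h2 := by decide, h3 := by decide, h4 := by decide, z0 := by decide, z1 := by decide, z2 := by decide, z3 := by decide, z4 := by decide, z5 := by decide, p1 := by decide, p2 := by decide, p3 := by decide, q0 := by decide, q1 := by decide, q2 := by decide, q3 := by decide, q4 := by decide, ct := by decide, t00 := by decide, a1 := by decide }

theorem emb_y : Emb b t_ ay ty sy y τ vy gy py qy 4 4 :=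
  { a5 := by decide, t2 := by decide, s2 := by decide, ts := by decide, ta1 := by decide, ta2 := by decide, ta3 := by decide, ta4 := by decide, h1 := by decide, h2 := by decide, h3 := by decide, h4 := by decide, z0 := by decide, z1 := by decide, z2 := by decide, z3 := by decide, z4 := by decide, z5 := by decide, p1 := by decide, p2 := by decide, p3 := by decide, q0 := by decide, q1 := by decide, q2 := by decide, q3 := by decide, q4 := by decide, ct := by decide, t00 := by decide, a1 := by decide }

theorem emb_xy : Emb b t_ axy txy sxy (x * y) τ vxy gxy pxy qxy 2 3 :=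
  { a5 := by decide, t2 := by decide, s2 := by decide, ts := by decide, ta1 := by decide, ta2 := by decide, ta3 := by decide, ta4 := by decide, h1 := by decide, h2 := by decide, h3 := by decide, h4 := by decide, z0 := by decide, z1 := by decide, z2 := by decide, z3 := by decide, z4 := by decide, z5 := by decide, p1 := by decide, p2 := by decide, p3 := by decide, q0 := by decide, q1 := by decide, q2 := by decide, q3 := by decide, q4 := by decide, ct := by decide, t00 := by decide, a1 := by decide }

theorem emb_xy2 : Emb b t_ axy2 txy2 sxy2 (x * y ^ 2) τ vxy2 gxy2 pxy2 qxy2 1 1 :=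
  { a5 := by decide, t2 := by decide, s2 := by decide, ts := by decide, ta1 := by decide, ta2 := by decide, ta3 := by decide, ta4 := by decide, h1 := by decide, h2 := by decide, h3 := by decide, h4 := by decide, z0 := by decide, z1 := by decide, z2 := by decide, z3 := by decide, z4 := by decide, z5 := by decide, p1 := by decide, p2 := by decide, p3 := by decide, q0 := by decide, q1 := by decide, q2 := by decide, q3 := by decide, q4 := by decide, ct := by decide, t00 := by decide, a1 := by decide }


end H67.P5.Con
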